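import Cfsg.Agent.Lib.Leech.CoprimeSylow

/-!
A simplicity criterion: a simple subgroup containing the normaliser of a subgroup of prime order
that occurs to the first power only.
-/

set_option autoImplicit false

namespace Cfsg.Agent.Lib.Leech

open scoped Pointwise

theorem card_mul_dvd_of_inf_bot {G : Type*} [Group G] {K H : Subgroup G} [K.Normal]
    (h : K ⊓ H = ⊥) : Nat.card K * Nat.card H ∣ Nat.card G := by
  have hrel : K.relIndex H = Nat.card H := by
    rw [Subgroup.relIndex, ← Subgroup.inf_subgroupOf_right, h, Subgroup.bot_subgroupOf,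
      Subgroup.index_bot]
  rw [← Subgroup.card_mul_index K]
  exact mul_dvd_mul_left _ (hrel ▸ Subgroup.relIndex_dvd_index_of_normal K H)

/-- Prime to `q` order and congruence condition force commutation. -/
theorem le_centralizer_of_mod {G : Type*} [Group G] [Finite G] {x : G} {q : ℕ} [Fact q.Prime]
    (hx : orderOf x = q) {K : Subgroup G} [K.Normal] (hqK : ¬ q ∣ Nat.card K)
    (hmod : ∀ p, p.Prime → p ∣ Nat.card K → ∀ k ≤ (Nat.card K).factorization p,
      p ^ k ≡ p ^ (Nat.card K).factorization p [MOD q] → k = (Nat.card K).factorization p) :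
    K ≤ Subgroup.centralizer {x} := by
  have hle : Subgroup.centralizer {x} ⊓ K = K := by
    refine Subgroup.eq_of_le_of_card_ge inf_le_right (Nat.le_of_dvd Nat.card_pos ?_)
    rw [Nat.dvd_iff_prime_pow_dvd_dvd]
    intro p k hp hpk
    rcases k.eq_zero_or_pos with rfl | hk
    · simp
    haveI : Fact p.Prime := ⟨hp⟩
    refine (Nat.pow_dvd_pow p ?_).trans
      (sylow_le_centralizer hx hqK (hmod p hp ((dvd_pow_self p hk.ne').trans hpk)))
    exact (hp.pow_dvd_iff_le_factorization Nat.card_pos.ne').mp hpk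
  intro k hk
  rw [← hle] at hk
  exact hk.1

/-- Simplicity from a simple subgroup `H` containing the normaliser of `⟨x⟩`. -/
theorem isSimple_of_normalizer {G : Type*} [Group G] [Finite G] (H : Subgroup G)
    (hH : IsSimpleGroup H) {x : G} {q : ℕ} [Fact q.Prime] (hx : orderOf x = q) (hxH : x ∈ H)
    (hq2 : ¬ q ^ 2 ∣ Nat.card G)
    (hnorm : ∀ g : G, g * x * g⁻¹ ∈ Subgroup.zpowers x → g ∈ H)
    (hmod : ∀ (K : Subgroup G), K.Normal → K ⊓ H = ⊥ → ∀ p, p.Prime → p ∣ Nat.card K →
      ∀ k ≤ (Nat.card K).factorization p,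
        p ^ k ≡ p ^ (Nat.card K).factorization p [MOD q] → k = (Nat.card K).factorization p) :
    IsSimpleGroup G := by
  haveI : Nontrivial G := nontrivial_of_ne x 1 (fun h => by
    rw [h, orderOf_one] at hx
    exact (Fact.out : q.Prime).one_lt.ne hx)
  refine ⟨fun K hK => ?_⟩
  rcases hH.eq_bot_or_eq_top_of_normal (K.subgroupOf H) inferInstance with hb | ht
  · left
    have hinf : K ⊓ H = ⊥ := Subgroup.subgroupOf_eq_bot.mp hb |>.eq_bot
    have hqK : ¬ q ∣ Nat.card K := fun h => hq2 (by
      rw [pow_two]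
      refine (mul_dvd_mul h ?_).trans (card_mul_dvd_of_inf_bot hinf)
      rw [← hx, ← Subgroup.orderOf_mk x hxH]
      exact orderOf_dvd_natCard _)
    have hcent := le_centralizer_of_mod hx hqK (hmod K hK hinf)
    rw [eq_bot_iff, ← hinf]
    refine le_inf le_rfl fun k hk => hnorm k ?_
    rw [Subgroup.mem_centralizer_singleton_iff.mp (hcent hk), mul_inv_cancel_right]
    exact Subgroup.mem_zpowers x
  · right
    have hHK : H ≤ K := Subgroup.subgroupOf_eq_top.mp ht
    rw [eq_top_iff]
    intro g _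
    have hxK : x ∈ K := hHK hxH
    have hyK : g * x * g⁻¹ ∈ K := hK.conj_mem x hxK g
    have hsyl : ∀ y : K, orderOf (y : G) = q →
        ∃ P : Sylow q K, (P : Subgroup K) = Subgroup.zpowers y := by
      intro y hy
      have hy' : orderOf y = q := by rw [← Subgroup.orderOf_coe, hy]
      have hp : IsPGroup q (Subgroup.zpowers y) :=
        IsPGroup.of_card (n := 1) (by rw [Nat.card_zpowers, hy', pow_one])
      obtain ⟨P, hP⟩ := hp.exists_le_sylow
      refine ⟨P, (Subgroup.eq_of_le_of_card_ge hP ?_).symm⟩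
      rw [Sylow.card_eq_multiplicity, Nat.card_zpowers, hy']
      have hle : (Nat.card K).factorization q ≤ 1 := by
        by_contra h
        exact hq2 (((Nat.pow_dvd_pow q (by omega : 2 ≤ (Nat.card K).factorization q)).trans
          (Nat.ordProj_dvd (Nat.card K) q)).trans (Subgroup.card_subgroup_dvd_card K))
      calc q ^ (Nat.card K).factorization q ≤ q ^ 1 :=
            Nat.pow_le_pow_right (Fact.out : q.Prime).pos hle
        _ = q := pow_one q
    obtain ⟨P, hP⟩ := hsyl ⟨x, hxK⟩ hx
    obtain ⟨Q, hQ⟩ := hsyl ⟨_, hyK⟩ (by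
      show orderOf (MulAut.conj g x) = q
      rw [MulEquiv.orderOf_eq]
      exact hx)
    obtain ⟨k, hk⟩ := MulAction.exists_smul_eq K Q P
    have hmem : (k : G) * (g * x * g⁻¹) * (k : G)⁻¹ ∈ Subgroup.zpowers x := by
      have h1 : (k * ⟨g * x * g⁻¹, hyK⟩ * k⁻¹ : K) ∈ (P : Subgroup K) := by
        rw [← hk]
        exact ⟨⟨g * x * g⁻¹, hyK⟩, hQ ▸ Subgroup.mem_zpowers _, rfl⟩
      rw [hP, Subgroup.mem_zpowers_iff] at h1
      obtain ⟨n, hn⟩ := h1
      exact Subgroup.mem_zpowers_iff.mpr ⟨n, by simpa using congrArg Subtype.val hn⟩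
    have hkg : (k : G) * g ∈ H := hnorm _ (by
      rw [show (k : G) * g * x * ((k : G) * g)⁻¹ = (k : G) * (g * x * g⁻¹) * (k : G)⁻¹ by group]
      exact hmem)
    have := mul_mem (inv_mem k.2) (hHK hkg)
    rwa [inv_mul_cancel_left] at this

end Cfsg.Agent.Lib.Leech
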