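import Cfsg.Agent.Lib.Leech.Order
import Cfsg.Agent.Lib.Leech.SimpleCriterion
import Cfsg.Agent.Lib.Golay.Simple

/-!
Vector stabilisers in the automorphism group containing the stabiliser of a point in the code
group.
-/

set_option autoImplicit false

namespace Cfsg.Agent.Lib.Leech

open Finset GolayUnique

/-- The permutation elements. -/
noncomputable def permHom : M24 →* Co0 :=
  MonoidHom.mk' (fun σ => monomial σ.1 σ.2 ∅ isCode_empty) fun a b => co0_ext fun i => by
    show monomial (a.1 * b.1) _ ∅ isCode_empty • eightE i = _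
    rw [monomial_eightE, mul_smul, monomial_eightE, monomial_eightE]
    rfl

theorem permHom_apply (σ : M24) (v : leechLattice) (i : GolayPt) :
    vec (permHom σ • v) i = vec v ((σ : Equiv.Perm GolayPt).symm i) := by
  show signedPerm (σ : Equiv.Perm GolayPt) ∅ (vec v) i = _
  simp [signedPerm]

theorem permHom_eightE (σ : M24) (i : GolayPt) :
    permHom σ • eightE i = eightE ((σ : Equiv.Perm GolayPt) i) := monomial_eightE σ.2 i

theorem permHom_injective : Function.Injective permHom := by
  intro a b h
  refine Subtype.ext (Equiv.ext fun i => eightE_inj (Or.inl ?_))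
  rw [← permHom_eightE, ← permHom_eightE, h]

/-- Cyclic shift. -/
def shift23 : Equiv.Perm GolayPt := Equiv.optionCongr (Equiv.addRight (1 : ZMod 23))

theorem shift23_none : shift23 none = none := rfl

theorem shift23_some (a : ZMod 23) : shift23 (some a) = some (a + 1) := rfl

theorem shift23_pow_some (n : ℕ) (a : ZMod 23) : (shift23 ^ n) (some a) = some (a + n) := by
  induction n with
  | zero => simp
  | succ n ih => rw [pow_succ', Equiv.Perm.mul_apply, ih, shift23_some]; push_cast; ring_nf

theorem orderOf_shift23 : orderOf shift23 = 23 := by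
  haveI : Fact (Nat.Prime 23) := ⟨by norm_num⟩
  refine orderOf_eq_prime ?_ ?_
  · refine Equiv.ext fun i => ?_
    rcases i with _ | a
    · exact Equiv.Perm.pow_apply_eq_self_of_apply_eq_self shift23_none 23
    · rw [shift23_pow_some]
      simp [show ((23 : ℕ) : ZMod 23) = 0 from ZMod.natCast_self 23]
      exact ZMod.natCast_self 23
  · intro h
    have := congrArg (fun e : Equiv.Perm GolayPt => e (some 0)) h
    simp [shift23_some] at this

theorem shift23_mem : shift23 ∈ M24 := Golay.shift_mem

/-- The shift as an element of the automorphism group. -/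
noncomputable def shiftElt : Co0 := permHom ⟨shift23, shift23_mem⟩

theorem orderOf_shiftElt : orderOf shiftElt = 23 := by
  rw [shiftElt, orderOf_injective permHom permHom_injective, Subgroup.orderOf_mk]
  exact orderOf_shift23

theorem eq_of_shift_fixed {w : leechLattice} (h : shiftElt • w = w) (a : ZMod 23) :
    vec w (some a) = vec w (some 0) := by
  have h1 : ∀ b : ZMod 23, vec w (some (b + 1)) = vec w (some b) := fun b => by
    have := congrFun (congrArg vec h) (shift23 (some b))
    rw [shiftElt, permHom_apply, Equiv.symm_apply_apply, shift23_some] at this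
    exact this.symm
  have h2 : ∀ n : ℕ, vec w (some (n : ZMod 23)) = vec w (some 0) := by
    intro n
    induction n with
    | zero => simp
    | succ n ih => rw [Nat.cast_succ, h1, ih]
  have := h2 a.val
  rwa [ZMod.natCast_zmod_val] at this

/-- The vector with `t` at infinity and `1` elsewhere. -/
def oddTop (t : ℤ) (ht : t = 5 ∨ t = -3) : leechLattice :=
  ⟨fun i => if i = none then t else 1, by
    refine oddVec_mem ⟨fun i => ?_, ?_, ?_⟩
    · rcases ht with rfl | rfl <;> dsimp only <;> split_ifs <;> rfl
    · convert isCode_univ using 1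
      ext i
      simp only [Finset.mem_univ, iff_true]
      rw [mem_res]
      rcases ht with rfl | rfl <;> split_ifs <;> rfl
    · rcases ht with rfl | rfl <;> simp [Fintype.sum_option]⟩

theorem sqNorm_oddTop {t : ℤ} (ht : t = 5 ∨ t = -3) :
    sqNorm (vec (oddTop t ht)) = t ^ 2 + 23 := by
  show ∑ i : GolayPt, (if i = none then t else 1) ^ 2 = _
  rw [Fintype.sum_option]
  simp

/-- The stabiliser of infinity in the code group, as lattice automorphisms. -/
noncomputable def m23Elts : Subgroup Co0 :=
  (MulAction.stabilizer M24 (none : GolayPt)).map permHom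

theorem m23Elts_le {t : ℤ} (ht : t = 5 ∨ t = -3) :
    m23Elts ≤ MulAction.stabilizer Co0 (oddTop t ht) := by
  rintro _ ⟨σ, hσ, rfl⟩
  apply Subtype.ext
  funext i
  show vec (permHom σ • oddTop t ht) i = vec (oddTop t ht) i
  rw [permHom_apply]
  have hσ' : (σ : Equiv.Perm GolayPt) none = none := hσ
  have : (σ : Equiv.Perm GolayPt).symm i = none ↔ i = none := by
    rw [Equiv.symm_apply_eq, hσ']
  simp [oddTop, vec, this]

theorem isSimple_m23Elts : IsSimpleGroup m23Elts := by
  haveI := Golay.isSimple_stab_point none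
  haveI : IsSimpleGroup (MulAction.stabilizer M24 (none : GolayPt)) :=
    (Golay.stabEquivInf M24 (none : GolayPt)).isSimpleGroup
  exact ((MulAction.stabilizer M24 (none : GolayPt)).equivMapOfInjective permHom
    permHom_injective).symm.isSimpleGroup

theorem card_m23Elts : Nat.card m23Elts = 10200960 := by
  rw [m23Elts, Subgroup.card_map_of_injective permHom_injective,
    Nat.card_congr (Golay.stabEquivInf M24 (none : GolayPt)).toEquiv]
  exact Golay.card_stab_point none

theorem shiftElt_mem : shiftElt ∈ m23Elts := ⟨_, shift23_none, rfl⟩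

/-- Normalisers of the shift fixing the vector are point stabiliser elements. -/
theorem normalizer_shift {t : ℤ} (ht : t = 5 ∨ t = -3) {g : Co0}
    (hg : g • oddTop t ht = oddTop t ht)
    (hx : g * shiftElt * g⁻¹ ∈ Subgroup.zpowers shiftElt) : g ∈ m23Elts := by
  obtain ⟨n, hn⟩ := Subgroup.mem_zpowers_iff.mp hx
  have hxe : shiftElt • eightE none = eightE none := by
    rw [shiftElt, permHom_eightE]; rfl
  have hxn : shiftElt ^ n • eightE none = eightE none := by
    have : shiftElt ∈ MulAction.stabilizer Co0 (eightE none) := hxe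
    exact zpow_mem this n
  set w := g⁻¹ • eightE none with hw
  have hfix : shiftElt • w = w := by
    rw [hw, ← mul_smul, show shiftElt * g⁻¹ = g⁻¹ * (g * shiftElt * g⁻¹) by group, ← hn, mul_smul,
      hxn]
  have hd : dotInt (vec (oddTop t ht)) (vec w) = 8 * t := by
    rw [← dot_smul g, hg, hw, smul_inv_smul]
    simp only [dotInt, eightE, oddTop, vec]
    rw [Finset.sum_eq_single none (fun i _ hi => by rw [Pi.single_eq_of_ne hi, mul_zero])
      (fun h => absurd (Finset.mem_univ _) h), Pi.single_eq_same, if_pos rfl, mul_comm]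
  have hn64 : sqNorm (vec w) = 64 := by rw [hw, norm_smul', sqNorm_eightE]
  have hsum : sqNorm (vec w) = vec w none ^ 2 + 23 * vec w (some 0) ^ 2 := by
    show ∑ i : GolayPt, vec w i ^ 2 = _
    rw [Fintype.sum_option, Finset.sum_congr rfl fun a _ => by rw [eq_of_shift_fixed hfix a],
      Finset.sum_const, Finset.card_univ, ZMod.card, nsmul_eq_mul]
    rfl
  have hdot : dotInt (vec (oddTop t ht)) (vec w) = t * vec w none + 23 * vec w (some 0) := by
    show ∑ i : GolayPt, vec (oddTop t ht) i * vec w i = _
    rw [Fintype.sum_option, Finset.sum_congr rfl fun a _ => by rw [eq_of_shift_fixed hfix a]]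
    simp [oddTop, vec]
  have hb : -1 ≤ vec w (some 0) ∧ vec w (some 0) ≤ 1 := by
    constructor <;> nlinarith [sq_nonneg (vec w none)]
  have ha : -8 ≤ vec w none ∧ vec w none ≤ 8 := coord_le (N := 64) hn64.le (by norm_num) (by norm_num)
  have hb0 : vec w (some 0) = 0 ∧ vec w none = 8 := by
    rw [hsum] at hn64
    rw [hdot] at hd
    rcases ht with rfl | rfl <;>
      rcases (by omega : vec w (some 0) = -1 ∨ vec w (some 0) = 0 ∨ vec w (some 0) = 1) with
        e | e | e <;> rw [e] at hn64 hd <;> first
        | exact ⟨e, by omega⟩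
        | (exfalso; have h1 : vec w none ^ 2 = 41 := by omega
           rcases (by omega : vec w none ≤ -7 ∨ -6 ≤ vec w none ∧ vec w none ≤ 6 ∨ 7 ≤ vec w none)
             with h | h | h <;> nlinarith)
  have hwe : w = eightE none := by
    rcases eq_single_of_eight hn64 (i := none) (Or.inl hb0.2) with h | h
    · exact h
    · have := hb0.2
      rw [h] at this
      simp [eightE, vec] at this
  have hge : g • eightE none = eightE none := by
    conv_lhs => rw [← hwe, hw, smul_inv_smul]
  obtain ⟨σ, hσ, c, hc, rfl⟩ := exists_monomial (axis_of_one (i := none) (j := none) (Or.inl hge))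
  have hσn : σ none = none := by
    rw [monomial_apply_eightE] at hge
    split_ifs at hge
    · exact eightE_inj (Or.inr (by rw [← hge, neg_neg]))
    · exact eightE_inj (Or.inl hge)
  have hc0 : c = ∅ := by
    have hsub : c ⊆ {none} := by
      intro i hi
      rw [Finset.mem_singleton]
      by_contra hne
      have h1 := congrFun (congrArg vec hg) i
      have h2 : σ.symm i ≠ none := by
        rw [ne_eq, Equiv.symm_apply_eq, hσn]; exact hne
      rw [monomial_smul] at h1
      simp [signedPerm, hi, oddTop, vec, h2, hne] at h1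
    have h1 := Finset.card_le_card hsub
    rw [Finset.card_singleton] at h1
    have := hc.weights
    exact Finset.card_eq_zero.mp (by omega)
  subst hc0
  exact ⟨⟨σ, hσ⟩, hσn, rfl⟩

theorem index_eq_of_transitive {v : leechLattice} {N : ℕ}
    (hcount : {x : GolayPt → ℤ | x ∈ leechLattice ∧ sqNorm x = sqNorm (vec v)}.ncard = N)
    (htrans : ∀ w : leechLattice, sqNorm (vec w) = sqNorm (vec v) → ∃ g : Co0, g • v = w) :
    (MulAction.stabilizer Co0 v).index = N := by
  rw [MulAction.index_stabilizer, ← hcount, ← Set.ncard_image_of_injective _ (Subtype.val_injective :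
    Function.Injective (fun v : leechLattice => (v : GolayPt → ℤ)))]
  congr 1
  ext x
  constructor
  · rintro ⟨_, ⟨g, rfl⟩, rfl⟩
    exact ⟨(g • v).2, norm_smul' g v⟩
  · rintro ⟨hx, hn⟩
    obtain ⟨g, hg⟩ := htrans ⟨x, hx⟩ hn
    exact ⟨⟨x, hx⟩, ⟨g, hg⟩, rfl⟩

theorem card_stab32 {v : leechLattice} (hv : sqNorm (vec v) = 32) :
    Nat.card (MulAction.stabilizer Co0 v) = 42305421312000 := by
  have h := Subgroup.card_mul_index (MulAction.stabilizer Co0 v)
  rw [index_eq_of_transitive (v := v) (N := 196560) (by rw [hv]; exact ncard_norm32) (fun w hw => by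
    obtain ⟨g₁, h₁⟩ := transitive32 (p := none) (q := some 0) (by simp) hv
    obtain ⟨g₂, h₂⟩ := transitive32 (p := none) (q := some 0) (by simp) (hw.trans hv)
    exact exists_smul_eq_of (h₁.trans h₂.symm)), card_co0] at h
  omega

theorem card_stab48 {v : leechLattice} (hv : sqNorm (vec v) = 48) :
    Nat.card (MulAction.stabilizer Co0 v) = 495766656000 := by
  obtain ⟨d, hd, hd12⟩ := golay_good.exists_dodecad
  have h := Subgroup.card_mul_index (MulAction.stabilizer Co0 v)
  rw [index_eq_of_transitive (v := v) (N := 16773120) (by rw [hv]; exact ncard_norm48) (fun w hw => by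
    obtain ⟨g₁, h₁⟩ := transitive48 (d := d) ⟨mem_golaySets.mp hd, hd12⟩ hv
    obtain ⟨g₂, h₂⟩ := transitive48 (d := d) ⟨mem_golaySets.mp hd, hd12⟩ (hw.trans hv)
    exact exists_smul_eq_of (h₁.trans h₂.symm)), card_co0] at h
  omega

theorem le_of_dvd_list {p v n N : ℕ} (hv : p ^ v ∣ N) (hn : ¬ p ^ (n + 1) ∣ N) : v ≤ n := by
  by_contra h
  exact hn ((Nat.pow_dvd_pow p (by omega : n + 1 ≤ v)).trans hv)

/-- Simplicity of the stabiliser of `oddTop t` from an arithmetic condition. -/
theorem isSimple_oddTop {t : ℤ} (ht : t = 5 ∨ t = -3)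
    (h529 : ¬ 23 ^ 2 ∣ Nat.card (MulAction.stabilizer Co0 (oddTop t ht)))
    (hmod : ∀ (K : Subgroup (MulAction.stabilizer Co0 (oddTop t ht))), K.Normal →
      Nat.card K * 10200960 ∣ Nat.card (MulAction.stabilizer Co0 (oddTop t ht)) →
      ∀ p, p.Prime → p ∣ Nat.card K → ∀ k ≤ (Nat.card K).factorization p,
        p ^ k ≡ p ^ (Nat.card K).factorization p [MOD 23] → k = (Nat.card K).factorization p) :
    IsSimpleGroup (MulAction.stabilizer Co0 (oddTop t ht)) := by
  haveI : Fact (Nat.Prime 23) := ⟨by norm_num⟩
  have e := Subgroup.subgroupOfEquivOfLe (m23Elts_le ht)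
  haveI := isSimple_m23Elts
  refine isSimple_of_normalizer (m23Elts.subgroupOf _) e.isSimpleGroup
    (x := ⟨shiftElt, m23Elts_le ht shiftElt_mem⟩) (q := 23)
    (by rw [Subgroup.orderOf_mk]; exact orderOf_shiftElt) shiftElt_mem h529
    (fun g hg => ?_) (fun K hK hinf => hmod K hK ?_)
  · refine normalizer_shift ht g.2 ?_
    obtain ⟨n, hn⟩ := Subgroup.mem_zpowers_iff.mp hg
    exact Subgroup.mem_zpowers_iff.mpr ⟨n, by simpa using congrArg Subtype.val hn⟩
  · have := card_mul_dvd_of_inf_bot hinf
    rwa [Nat.card_congr e.toEquiv, card_m23Elts] at this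

/-- Conjugate vectors have isomorphic stabilisers. -/
theorem isSimple_stab_of_orbit {v w : leechLattice} {g : Co0} (hg : g • v = w)
    (h : IsSimpleGroup (MulAction.stabilizer Co0 v)) :
    IsSimpleGroup (MulAction.stabilizer Co0 w) := by
  subst hg
  haveI := h
  exact (MulAction.stabilizerEquivStabilizer (rfl : g • v = g • v)).symm.isSimpleGroup

theorem isSimple_co3 {v : leechLattice} (hv : sqNorm (vec v) = 48) :
    IsSimpleGroup (MulAction.stabilizer Co0 v) := by
  have ht : (5 : ℤ) = 5 ∨ (5 : ℤ) = -3 := Or.inl rfl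
  have hn : sqNorm (vec (oddTop 5 ht)) = 48 := by rw [sqNorm_oddTop]; norm_num
  obtain ⟨d, hd, hd12⟩ := golay_good.exists_dodecad
  obtain ⟨g₁, h₁⟩ := transitive48 (d := d) ⟨mem_golaySets.mp hd, hd12⟩ hn
  obtain ⟨g₂, h₂⟩ := transitive48 (d := d) ⟨mem_golaySets.mp hd, hd12⟩ hv
  obtain ⟨g, hg⟩ := exists_smul_eq_of (h₁.trans h₂.symm)
  refine isSimple_stab_of_orbit hg (isSimple_oddTop ht (by rw [card_stab48 hn]; norm_num) ?_)
  intro K hK hdvd p hp hpK k hk hmod
  rw [card_stab48 hn, show 495766656000 = 48600 * 10200960 by norm_num] at hdvd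
  have hd' : Nat.card K ∣ 48600 := Nat.dvd_of_mul_dvd_mul_right (by norm_num) hdvd
  have hfac : p ^ (Nat.card K).factorization p ∣ 48600 := (Nat.ordProj_dvd _ p).trans hd'
  have hp' : p = 2 ∨ p = 3 ∨ p = 5 := by
    have h := hpK.trans hd'
    rw [show 48600 = 2 ^ 3 * 3 ^ 5 * 5 ^ 2 by norm_num, hp.dvd_mul, hp.dvd_mul] at h
    rcases h with (h | h) | h <;> have := hp.dvd_of_dvd_pow h
    · exact Or.inl ((Nat.prime_dvd_prime_iff_eq hp Nat.prime_two).mp this)
    · exact Or.inr (Or.inl ((Nat.prime_dvd_prime_iff_eq hp Nat.prime_three).mp this))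
    · exact Or.inr (Or.inr ((Nat.prime_dvd_prime_iff_eq hp (by norm_num)).mp this))
  unfold Nat.ModEq at hmod
  generalize (Nat.card K).factorization p = n at hk hmod hfac
  rcases hp' with rfl | rfl | rfl
  · have := le_of_dvd_list hfac (n := 3) (by norm_num)
    interval_cases n <;> interval_cases k <;> simp_all
  · have := le_of_dvd_list hfac (n := 5) (by norm_num)
    interval_cases n <;> interval_cases k <;> simp_all
  · have := le_of_dvd_list hfac (n := 2) (by norm_num)
    interval_cases n <;> interval_cases k <;> simp_all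

end Cfsg.Agent.Lib.Leech
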