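import Mathlib

/-!
An element of prime order acting by conjugation on a normal subgroup of order prime to it.
-/

set_option autoImplicit false

namespace Cfsg.Agent.Lib.Leech

open scoped Pointwise

/-- If no smaller power of `p` is congruent to the full one modulo the order of `x`, then `x`
centralises a Sylow `p`-subgroup of a normal subgroup of order prime to it. -/
theorem sylow_le_centralizer {G : Type*} [Group G] [Finite G] {x : G} {q p : ℕ} [Fact q.Prime]
    [Fact p.Prime] (hx : orderOf x = q) {K : Subgroup G} [K.Normal] (hqK : ¬ q ∣ Nat.card K)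
    (hmod : ∀ k ≤ (Nat.card K).factorization p,
      p ^ k ≡ p ^ (Nat.card K).factorization p [MOD q] → k = (Nat.card K).factorization p) :
    p ^ (Nat.card K).factorization p ∣ Nat.card ↥(Subgroup.centralizer {x} ⊓ K) := by
  classical
  let A : Subgroup G := Subgroup.zpowers x
  let φ : A →* MulAut K := MulAut.conjNormal.comp A.subtype
  let actK : MulDistribMulAction A K := MulDistribMulAction.compHom K φ
  have hA : IsPGroup q A := IsPGroup.of_card (n := 1) (by rw [Nat.card_zpowers, hx, pow_one])
  have hsyl : ¬ q ∣ Nat.card (Sylow p K) := fun h =>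
    hqK (h.trans ((Sylow.card_dvd_index (default : Sylow p K)).trans
      (Subgroup.index_dvd_card _)))
  obtain ⟨P, hP⟩ := hA.nonempty_fixed_point_of_prime_not_dvd_card (Sylow p K) hsyl
  have hstab : ∀ (a : A) (y : K), y ∈ P → a • y ∈ P := fun a y hy => by
    have h := Subgroup.smul_mem_pointwise_smul y a (P : Subgroup K) hy
    have e : (a • P : Sylow p K) = P := hP a
    rw [← e]
    exact h
  let actP : MulAction A P :=
    { smul := fun a y => ⟨a • (y : K), hstab a y y.2⟩
      one_smul := fun y => Subtype.ext (one_smul A (y : K))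
      mul_smul := fun a b y => Subtype.ext (mul_smul a b (y : K)) }
  have hfix := hA.card_modEq_card_fixedPoints P
  set S : Subgroup G := Subgroup.centralizer {x} ⊓ (P : Subgroup K).map K.subtype with hS
  have e : Nat.card (MulAction.fixedPoints A P) = Nat.card S := by
    refine Nat.card_congr (Equiv.ofBijective
      (fun y => ⟨((y.1 : K) : G), ?_, ?_⟩) ⟨?_, ?_⟩)
    · refine Subgroup.mem_centralizer_singleton_iff.mpr ?_
      have h := congrArg (fun z : P => ((z : K) : G)) (y.2 ⟨x, Subgroup.mem_zpowers x⟩)
      have h' : x * ((y.1 : K) : G) * x⁻¹ = ((y.1 : K) : G) := h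
      rw [mul_inv_eq_iff_eq_mul] at h'
      exact h'.symm
    · exact ⟨(y.1 : K), y.1.2, rfl⟩
    · intro y z h
      have h' : ((y.1 : K) : G) = ((z.1 : K) : G) :=
        congrArg (fun s : S => (s : G)) h
      exact Subtype.ext (Subtype.ext (Subtype.ext h'))
    · rintro ⟨g, hg, ⟨k, hk, rfl⟩⟩
      replace hg := Subgroup.mem_centralizer_singleton_iff.mp hg
      refine ⟨⟨⟨k, hk⟩, fun a => ?_⟩, rfl⟩
      obtain ⟨a, ha⟩ := a
      apply Subtype.ext
      apply Subtype.ext
      show a * (k : G) * a⁻¹ = k
      obtain ⟨n, rfl⟩ := Subgroup.mem_zpowers_iff.mp ha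
      have hc : Commute (x ^ n) (k : G) := (show Commute x (k : G) from hg.symm).zpow_left n
      rw [hc.eq, mul_inv_cancel_right]
  have hPcard : Nat.card ((P : Subgroup K).map K.subtype) = p ^ (Nat.card K).factorization p := by
    rw [Subgroup.card_subtype, Sylow.card_eq_multiplicity]
  obtain ⟨k, hk, hkS⟩ := (Nat.dvd_prime_pow (Fact.out : p.Prime)).mp
    (hPcard ▸ Subgroup.card_dvd_of_le (show S ≤ (P : Subgroup K).map K.subtype from inf_le_right))
  have hk' : k = (Nat.card K).factorization p := by
    refine hmod k hk ?_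
    rw [← hkS, ← e, ← Sylow.card_eq_multiplicity P]
    exact hfix.symm
  rw [← hk', ← hkS]
  exact Subgroup.card_dvd_of_le (inf_le_inf_left _ (Subgroup.map_subtype_le _))

end Cfsg.Agent.Lib.Leech
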