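import Cfsg.Agent.Lib.Leech.Dichotomy
import Cfsg.Agent.Lib.Leech.CoprimeSylow
import Cfsg.Agent.Lib.Golay.Simple

/-!
Simplicity of the automorphism group modulo its centre.
-/

set_option autoImplicit false

namespace Cfsg.Agent.Lib.Leech

open Finset GolayUnique
open scoped symmDiff

theorem center_le_cross : Subgroup.center Co0 ≤ crossGroup := fun z hz => by
  rcases center_co0_eq hz with rfl | rfl
  · exact one_mem _
  · exact axis_monomial (one_mem M24) isCode_univ

theorem index_cross : crossGroup.index = 8292375 := by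
  have h := Subgroup.card_mul_index crossGroup
  rw [card_crossGroup, card_co0] at h
  omega

theorem exists_order23 : ∃ x ∈ crossGroup, orderOf x = 23 := by
  haveI : Fact (Nat.Prime 23) := ⟨by norm_num⟩
  obtain ⟨x, hx⟩ := exists_prime_orderOf_dvd_card' (G := crossGroup) 23
    (by rw [card_crossGroup]; norm_num)
  exact ⟨x.1, x.2, by rw [Subgroup.orderOf_coe, hx]⟩

theorem not_central_of_order23 {x : Co0} (hx : orderOf x = 23) : x ∉ Subgroup.center Co0 := by
  intro h
  rcases center_co0_eq h with rfl | rfl
  · rw [orderOf_one] at hx; omega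
  · have h2 : negOne ^ 2 = 1 := by
      refine co0_ext fun i => ?_
      rw [pow_two, mul_smul, negOne_smul, negOne_smul, neg_neg, one_smul]
    have := orderOf_dvd_of_pow_eq_one h2
    rw [hx] at this
    norm_num at this

/-- An element of order 23 centralises Sylow subgroups of small normal subgroups. -/
theorem sylow_commute23 {x : Co0} (hx : orderOf x = 23) (K : Subgroup Co0) [K.Normal]
    (h23 : ¬ 23 ∣ Nat.card K) {p : ℕ} (hp : p = 2 ∧ Nat.card K ∣ 2 * 8292375 ∨ p = 3 ∨ p = 5 ∨ p = 7 ∨ p = 13)
    (hK : Nat.card K ∣ 4096 * 8292375) :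
    p ^ (Nat.card K).factorization p ∣ Nat.card ↥(Subgroup.centralizer {x} ⊓ K) := by
  haveI : Fact (Nat.Prime 23) := ⟨by norm_num⟩
  have hpp : p.Prime := by rcases hp with ⟨rfl, -⟩ | rfl | rfl | rfl | rfl <;> norm_num
  haveI : Fact p.Prime := ⟨hpp⟩
  have hle : ∀ {n : ℕ}, ¬ p ^ (n + 1) ∣ 4096 * 8292375 → (Nat.card K).factorization p ≤ n := by
    intro n hn
    by_contra h
    exact hn (((Nat.pow_dvd_pow p (by omega : n + 1 ≤ (Nat.card K).factorization p)).trans
      (Nat.ordProj_dvd (Nat.card K) p)).trans hK)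
  refine sylow_le_centralizer (q := 23) hx h23 fun k hk hmod => ?_
  unfold Nat.ModEq at hmod
  rcases hp with ⟨rfl, h2⟩ | rfl | rfl | rfl | rfl
  · have hv : (Nat.card K).factorization 2 ≤ 1 := by
      by_contra h
      exact absurd (((Nat.pow_dvd_pow 2 (by omega : 2 ≤ (Nat.card K).factorization 2)).trans
        (Nat.ordProj_dvd (Nat.card K) 2)).trans h2) (by norm_num)
    generalize (Nat.card K).factorization 2 = n at hk hmod hv
    interval_cases n <;> interval_cases k <;> simp_all
  · have hv := hle (n := 6) (by norm_num)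
    generalize (Nat.card K).factorization 3 = n at hk hmod hv
    interval_cases n <;> interval_cases k <;> simp_all
  · have hv := hle (n := 3) (by norm_num)
    generalize (Nat.card K).factorization 5 = n at hk hmod hv
    interval_cases n <;> interval_cases k <;> simp_all
  · have hv := hle (n := 1) (by norm_num)
    generalize (Nat.card K).factorization 7 = n at hk hmod hv
    interval_cases n <;> interval_cases k <;> simp_all
  · have hv := hle (n := 1) (by norm_num)
    generalize (Nat.card K).factorization 13 = n at hk hmod hv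
    interval_cases n <;> interval_cases k <;> simp_all

theorem prime_cases {p n : ℕ} (hp : p.Prime) (h : p ∣ 2 ^ n * 8292375) :
    p = 2 ∨ p = 3 ∨ p = 5 ∨ p = 7 ∨ p = 13 := by
  have : 8292375 = 3 ^ 6 * 5 ^ 3 * 7 * 13 := by norm_num
  rw [this, hp.dvd_mul, hp.dvd_mul, hp.dvd_mul, hp.dvd_mul] at h
  rcases h with h | ((h | h) | h) | h
  · exact Or.inl ((Nat.prime_dvd_prime_iff_eq hp Nat.prime_two).mp (hp.dvd_of_dvd_pow h))
  · exact Or.inr (Or.inl ((Nat.prime_dvd_prime_iff_eq hp Nat.prime_three).mp (hp.dvd_of_dvd_pow h)))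
  · exact Or.inr (Or.inr (Or.inl
      ((Nat.prime_dvd_prime_iff_eq hp (by norm_num)).mp (hp.dvd_of_dvd_pow h))))
  · exact Or.inr (Or.inr (Or.inr (Or.inl ((Nat.prime_dvd_prime_iff_eq hp (by norm_num)).mp h))))
  · exact Or.inr (Or.inr (Or.inr (Or.inr ((Nat.prime_dvd_prime_iff_eq hp (by norm_num)).mp h))))

/-- A vector of norm 64 fixed up to sign by all sign changes is on an axis. -/
theorem axis_of_flip_eigen {w : leechLattice} (hn : sqNorm (vec w) = 64)
    (h : ∀ c (hc : IsCode c), flip c hc • w = w ∨ flip c hc • w = -w) :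
    ∃ j, w = eightE j ∨ w = -eightE j := by
  obtain ⟨i, hi⟩ : ∃ i, vec w i ≠ 0 := by
    by_contra hno
    push Not at hno
    rw [sqNorm, Finset.sum_eq_zero fun i _ => by rw [hno i]; rfl] at hn
    norm_num at hn
  have h0 : ∀ k, k ≠ i → vec w k = 0 := by
    intro k hk
    by_contra hne
    obtain ⟨c, hc, hic, hkc⟩ := separated (Ne.symm hk)
    rcases h c hc with e | e
    · have := congrFun (congrArg vec e) i
      rw [flip_smul, if_pos hic] at this
      omega
    · have := congrFun (congrArg vec e) k
      rw [flip_smul, if_neg hkc] at this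
      simp [vec] at this hne
      omega
  have h2 : vec w i ^ 2 = 64 := by
    rw [← hn, sqNorm, Finset.sum_eq_single i (fun k _ hk => by rw [h0 k hk]; rfl)
      (fun h => absurd (Finset.mem_univ i) h)]
  refine ⟨i, eq_single_of_eight hn ?_⟩
  have h3 : (vec w i - 8) * (vec w i + 8) = 0 := by linear_combination h2
  rcases mul_eq_zero.mp h3 with h | h <;> omega

/-- A normal subgroup meeting the monomial group in the centre is central. -/
theorem le_center_of_small (K : Subgroup Co0) [K.Normal] (hneg : negOne ∈ K)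
    (hKN : K ⊓ crossGroup ≤ Subgroup.center Co0) : K ≤ Subgroup.center Co0 := by
  classical
  have hZK : Subgroup.center Co0 ≤ K := fun z hz => by
    rcases center_co0_eq hz with rfl | rfl
    · exact one_mem _
    · exact hneg
  have hKNeq : K ⊓ crossGroup = Subgroup.center Co0 :=
    le_antisymm hKN (le_inf hZK center_le_cross)
  have hdvd : Nat.card K ∣ 2 * 8292375 := by
    obtain ⟨m, hm⟩ := Subgroup.relIndex_dvd_index_of_normal K crossGroup
    have h1 := Subgroup.card_mul_index K
    have h2 := Subgroup.card_mul_index (K.subgroupOf crossGroup)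
    rw [hm] at h1
    rw [← Subgroup.relIndex, card_crossGroup] at h2
    have hc : Nat.card ↥(K.subgroupOf crossGroup) = 2 := by
      rw [← card_center, ← hKNeq, ← Subgroup.inf_subgroupOf_right,
        Nat.card_congr (Subgroup.subgroupOfEquivOfLe
          (inf_le_right : K ⊓ crossGroup ≤ crossGroup)).toEquiv]
    rw [hc] at h2
    have hr : K.relIndex crossGroup = 501397585920 := by omega
    rw [hr, card_co0] at h1
    exact ⟨m, by
      have : Nat.card K * m * 501397585920 = 2 * 8292375 * 501397585920 := by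
        rw [mul_assoc, mul_comm m, h1]
      exact (Nat.eq_of_mul_eq_mul_right (by norm_num) this).symm⟩
  have h23 : ¬ 23 ∣ Nat.card K := fun h => absurd (h.trans hdvd) (by norm_num)
  have hdvd' : Nat.card K ∣ 4096 * 8292375 := hdvd.trans (by norm_num)
  set C := Subgroup.centralizer (K : Set Co0) with hC
  have hxC : ∀ x : Co0, orderOf x = 23 → x ∈ C := by
    intro x hx
    have hle : Subgroup.centralizer {x} ⊓ K = K := by
      refine Subgroup.eq_of_le_of_card_ge inf_le_right (Nat.le_of_dvd Nat.card_pos ?_)
      rw [Nat.dvd_iff_prime_pow_dvd_dvd]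
      intro p k hp hpk
      rcases k.eq_zero_or_pos with rfl | hk
      · simp
      have hpp : p ∣ 2 ^ 1 * 8292375 := (dvd_pow_self p hk.ne').trans (hpk.trans hdvd)
      have hp' : p = 2 ∧ Nat.card K ∣ 2 * 8292375 ∨ p = 3 ∨ p = 5 ∨ p = 7 ∨ p = 13 := by
        rcases prime_cases hp hpp with h | h | h | h | h
        · exact Or.inl ⟨h, hdvd⟩
        all_goals simp [h]
      refine (Nat.pow_dvd_pow p ?_).trans (sylow_commute23 hx K h23 hp' hdvd')
      exact (hp.pow_dvd_iff_le_factorization Nat.card_pos.ne').mp hpk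
    rw [hC, Subgroup.mem_centralizer_iff]
    intro k hk
    have hk' : k ∈ Subgroup.centralizer {x} := by
      rw [← hle] at hk
      exact hk.1
    exact Subgroup.mem_centralizer_singleton_iff.mp hk'
  have hnegC : negOne ∈ C := Subgroup.center_le_centralizer _ negOne_mem_center
  obtain ⟨x, hxN, hx⟩ := exists_order23
  rcases dichotomy C hnegC with hflip | hsmall
  · intro k hk
    refine hKN ⟨hk, ?_⟩
    obtain ⟨j, hj⟩ := axis_of_flip_eigen (w := k • eightE none)
      (by rw [norm_smul', sqNorm_eightE]) fun c hc => by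
      have hcomm := Subgroup.mem_centralizer_iff.mp (hflip c hc) k hk
      rw [← mul_smul, ← hcomm, mul_smul]
      rcases axis_monomial (one_mem M24) hc none with ⟨l, hl⟩
      have hfl : flip c hc • eightE none = eightE none ∨ flip c hc • eightE none = -eightE none := by
        unfold flip
        rw [monomial_apply_eightE]
        split_ifs
        · exact Or.inr rfl
        · exact Or.inl rfl
      rcases hfl with e | e
      · exact Or.inl (by rw [e])
      · exact Or.inr (by rw [e, smul_neg'])
    exact axis_of_one hj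
  · exact absurd (hsmall ⟨hxC x hx, hxN⟩) (not_central_of_order23 hx)

/-- A normal subgroup with all sign changes is everything. -/
theorem eq_top_of_flips (K : Subgroup Co0) [hKn : K.Normal]
    (hflip : ∀ c (hc : IsCode c), flip c hc ∈ K) : K = ⊤ := by
  classical
  have hsup := sup_cross_eq_top hflip
  let S : Subgroup M24 :=
    { carrier := {s | monomial s.1 s.2 ∅ isCode_empty ∈ K}
      one_mem' := by
        show monomial 1 _ ∅ isCode_empty ∈ K
        rw [show monomial 1 (one_mem M24) ∅ isCode_empty = 1 from co0_ext fun i => by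
          rw [monomial_eightE, one_smul]; rfl]
        exact one_mem K
      mul_mem' := fun {a b} ha hb => by
        show monomial (a.1 * b.1) _ ∅ isCode_empty ∈ K
        rw [show monomial (a.1 * b.1) (mul_mem a.2 b.2) ∅ isCode_empty =
          monomial a.1 a.2 ∅ isCode_empty * monomial b.1 b.2 ∅ isCode_empty from co0_ext fun i => by
            rw [mul_smul, monomial_eightE, monomial_eightE, monomial_eightE]; rfl]
        exact mul_mem ha hb
      inv_mem' := fun {a} ha => by
        show monomial a.1⁻¹ _ ∅ isCode_empty ∈ K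
        rw [show monomial a.1⁻¹ (inv_mem a.2) ∅ isCode_empty =
          (monomial a.1 a.2 ∅ isCode_empty)⁻¹ from co0_ext fun i => by
            rw [eq_inv_smul_iff, monomial_eightE, monomial_eightE, ← Equiv.Perm.mul_apply,
              mul_inv_cancel, Equiv.Perm.one_apply]]
        exact inv_mem ha }
  haveI : S.Normal := ⟨fun a ha b => by
    show monomial (b.1 * a.1 * b.1⁻¹) _ ∅ isCode_empty ∈ K
    rw [show monomial (b.1 * a.1 * b.1⁻¹) (mul_mem (mul_mem b.2 a.2) (inv_mem b.2)) ∅ isCode_empty =
      monomial b.1 b.2 ∅ isCode_empty * monomial a.1 a.2 ∅ isCode_empty *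
        (monomial b.1 b.2 ∅ isCode_empty)⁻¹ from co0_ext fun i => by
          have : (monomial b.1 b.2 ∅ isCode_empty)⁻¹ • eightE i = eightE (b.1⁻¹ i) := by
            rw [inv_smul_eq_iff, monomial_eightE, ← Equiv.Perm.mul_apply, mul_inv_cancel,
              Equiv.Perm.one_apply]
          rw [mul_smul, mul_smul, this, monomial_eightE, monomial_eightE, monomial_eightE]
          rfl]
    exact hKn.conj_mem _ ha _⟩
  have hdecomp : ∀ σ (hσ : σ ∈ M24) c (hc : IsCode c),
      monomial σ hσ c hc = flip c hc * monomial σ hσ ∅ isCode_empty := fun σ hσ c hc =>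
    co0_ext fun i => by
      rw [mul_smul, monomial_eightE, monomial_apply_eightE, flip, monomial_apply_eightE]
      rfl
  haveI := Golay.isSimple_M24
  rcases this.eq_bot_or_eq_top_of_normal S ‹_› with hS | hS
  · exfalso
    have hsub : ∀ g ∈ K ⊓ crossGroup, ∃ c, ∃ hc : IsCode c, g = flip c hc := by
      rintro g ⟨hgK, hgN⟩
      obtain ⟨σ, hσ, c, hc, rfl⟩ := exists_monomial hgN
      have hm : (⟨σ, hσ⟩ : M24) ∈ S := by
        show monomial σ hσ ∅ isCode_empty ∈ K
        have h' := mul_mem (inv_mem (hflip c hc)) hgK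
        rwa [hdecomp σ hσ c hc, inv_mul_cancel_left] at h'
      rw [hS, Subgroup.mem_bot] at hm
      obtain rfl : σ = 1 := congrArg Subtype.val hm
      exact ⟨c, hc, rfl⟩
    have hcard : Nat.card ↥(K ⊓ crossGroup) = 4096 := by
      rw [← card_golaySets, ← Nat.card_eq_finsetCard]
      refine (Nat.card_eq_of_bijective (fun c : {c // c ∈ golaySets} =>
        (⟨flip c.1 (mem_golaySets.mp c.2), hflip _ _, axis_monomial _ _⟩ : ↥(K ⊓ crossGroup)))
        ⟨?_, ?_⟩).symm
      · intro a b h
        apply Subtype.ext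
        ext k
        have h' := congrArg (fun g : ↥(K ⊓ crossGroup) => vec (g.1 • eightE k) k) h
        simp only [flip_smul] at h'
        by_cases h1 : k ∈ a.1 <;> by_cases h2 : k ∈ b.1 <;> simp [h1, h2, eightE, vec] at h' ⊢
      · rintro ⟨g, hg⟩
        obtain ⟨c, hc, rfl⟩ := hsub g hg
        exact ⟨⟨c, mem_golaySets.mpr hc⟩, rfl⟩
    have hK : Nat.card K = 4096 * 8292375 := by
      have h2 := Subgroup.card_mul_index (K.subgroupOf crossGroup)
      rw [← Subgroup.inf_subgroupOf_right, Nat.card_congr (Subgroup.subgroupOfEquivOfLe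
        (inf_le_right : K ⊓ crossGroup ≤ crossGroup)).toEquiv, hcard,
        Subgroup.inf_subgroupOf_right, ← Subgroup.relIndex, card_crossGroup] at h2
      have h3 : K.index = K.relIndex crossGroup := by
        rw [← Subgroup.relIndex_sup_left crossGroup K, hsup, Subgroup.relIndex_top_right]
      have h1 := Subgroup.card_mul_index K
      rw [h3, card_co0] at h1
      have hr : K.relIndex crossGroup = 244823040 := by omega
      rw [hr] at h1
      omega
    obtain ⟨x, hxN, hx⟩ := exists_order23
    set C := Subgroup.centralizer {x} ⊓ K with hC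
    have hC8 : 8292375 ∣ Nat.card C := by
      rw [Nat.dvd_iff_prime_pow_dvd_dvd]
      intro p k hp hpk
      rcases k.eq_zero_or_pos with rfl | hk
      · simp
      have hpp : p ∣ 2 ^ 0 * 8292375 := by rw [pow_zero, one_mul]; exact (dvd_pow_self p hk.ne').trans hpk
      have hp' : p = 2 ∧ Nat.card K ∣ 2 * 8292375 ∨ p = 3 ∨ p = 5 ∨ p = 7 ∨ p = 13 := by
        rcases prime_cases hp hpp with h | h | h | h | h
        · subst h; norm_num at hpp
        all_goals simp [h]
      refine (Nat.pow_dvd_pow p ?_).trans (sylow_commute23 hx K (by rw [hK]; norm_num) hp'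
        (dvd_of_eq hK))
      refine (hp.pow_dvd_iff_le_factorization Nat.card_pos.ne').mp ?_
      rw [hK]
      exact hpk.trans (dvd_mul_left _ _)
    have hsurj : ∀ g : Co0, ∃ c ∈ C, c⁻¹ * g ∈ crossGroup := by
      set q₀ : Co0 ⧸ crossGroup := QuotientGroup.mk 1 with hq₀
      have hst : ∀ c : C, c ∈ MulAction.stabilizer C q₀ ↔ (c : Co0) ∈ crossGroup := fun c => by
        rw [MulAction.mem_stabilizer_iff, hq₀]
        show (QuotientGroup.mk ((c : Co0) * 1) : Co0 ⧸ crossGroup) = _ ↔ _
        rw [QuotientGroup.eq, mul_one, mul_one, inv_mem_iff]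
      have hdvd : Nat.card (MulAction.stabilizer C q₀) ∣ 4096 := by
        rw [← hcard]
        have hle : (MulAction.stabilizer C q₀).map C.subtype ≤ K ⊓ crossGroup := by
          rintro _ ⟨c, hc, rfl⟩
          exact ⟨c.2.2, (hst c).mp hc⟩
        exact Subgroup.card_subtype C (MulAction.stabilizer C q₀) ▸ Subgroup.card_dvd_of_le hle
      have h1 := Subgroup.card_mul_index (MulAction.stabilizer C q₀)
      rw [MulAction.index_stabilizer] at h1
      have hcop : Nat.Coprime 8292375 (Nat.card (MulAction.stabilizer C q₀)) :=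
        Nat.Coprime.coprime_dvd_right hdvd (by norm_num)
      have h8 := hcop.dvd_of_dvd_mul_left (hC8.trans (dvd_of_eq h1.symm))
      have huniv : MulAction.orbit C q₀ = Set.univ := by
        refine Set.eq_of_subset_of_ncard_le (Set.subset_univ _) ?_
        rw [Set.ncard_univ, ← Subgroup.index_eq_card, index_cross]
        refine Nat.le_of_dvd ?_ h8
        exact (Set.ncard_pos).mpr ⟨q₀, MulAction.mem_orbit_self _⟩
      intro g
      obtain ⟨c, hc⟩ : (QuotientGroup.mk g : Co0 ⧸ crossGroup) ∈ MulAction.orbit C q₀ := by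
        rw [huniv]; trivial
      refine ⟨c, c.2, ?_⟩
      have hc' : (QuotientGroup.mk ((c : Co0) * 1) : Co0 ⧸ crossGroup) = QuotientGroup.mk g := hc
      rwa [QuotientGroup.eq, mul_one] at hc'
    set R := Subgroup.normalClosure {x} ⊔ Subgroup.center Co0 with hR
    have hRN : R ≤ crossGroup := by
      refine sup_le ((Subgroup.closure_le _).mpr ?_) center_le_cross
      intro y hy
      obtain ⟨a, rfl, hconj⟩ := Group.mem_conjugatesOfSet_iff.mp hy
      obtain ⟨g, rfl⟩ := isConj_iff.mp hconj
      obtain ⟨c, hc, hn⟩ := hsurj g⁻¹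
      set n := c⁻¹ * g⁻¹ with hn'
      have hg : g = n⁻¹ * c⁻¹ := by rw [hn']; group
      have hcx : c * a = a * c := Subgroup.mem_centralizer_singleton_iff.mp hc.1
      have : g * a * g⁻¹ = n⁻¹ * a * n := by
        rw [hg]
        calc n⁻¹ * c⁻¹ * a * (n⁻¹ * c⁻¹)⁻¹ = n⁻¹ * (c⁻¹ * (a * c)) * n := by group
          _ = n⁻¹ * a * n := by rw [← hcx]; group
      rw [this]
      exact mul_mem (mul_mem (inv_mem hn) hxN) hn
    haveI : R.Normal := Subgroup.sup_normal _ _
    rcases dichotomy R (Subgroup.mem_sup_right negOne_mem_center) with hf | hs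
    · obtain ⟨T, -, hT⟩ := Finset.exists_subset_card_eq (s := (univ : Finset GolayPt)) (n := 4)
        (by rw [Finset.card_univ, card_pt]; norm_num)
      obtain ⟨P, hP, -⟩ := exists_sextet hT
      exact sextet_not_mem_cross hP (hRN (sextet_mem_of_flips hf hP))
    · exact not_central_of_order23 hx (hs ⟨Subgroup.mem_sup_left
        (Subgroup.subset_normalClosure (Set.mem_singleton x)), hxN⟩)
  · rw [eq_top_iff, ← hsup]
    refine sup_le le_rfl fun g hg => ?_
    obtain ⟨σ, hσ, c, hc, rfl⟩ := exists_monomial hg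
    rw [hdecomp σ hσ c hc]
    refine mul_mem (hflip c hc) ?_
    have : (⟨σ, hσ⟩ : M24) ∈ S := by rw [hS]; trivial
    exact this

theorem card_quotient : Nat.card (Co0 ⧸ Subgroup.center Co0) = 4157776806543360000 := by
  have := Subgroup.card_eq_card_quotient_mul_card_subgroup (Subgroup.center Co0)
  rw [card_co0, card_center] at this
  omega

theorem isSimple_co1 : IsSimpleGroup (Co0 ⧸ Subgroup.center Co0) := by
  haveI : Nontrivial (Co0 ⧸ Subgroup.center Co0) :=
    Finite.one_lt_card_iff_nontrivial.mp (by rw [card_quotient]; norm_num)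
  refine ⟨fun M hM => ?_⟩
  set π := QuotientGroup.mk' (Subgroup.center Co0) with hπ
  haveI : (M.comap π).Normal := hM.comap π
  have hneg : negOne ∈ M.comap π := by
    rw [Subgroup.mem_comap, hπ, QuotientGroup.mk'_apply,
      (QuotientGroup.eq_one_iff _).mpr negOne_mem_center]
    exact one_mem M
  rcases dichotomy (M.comap π) hneg with h | h
  · right
    rw [eq_top_iff]
    intro y _
    obtain ⟨g, rfl⟩ := QuotientGroup.mk'_surjective _ y
    have : g ∈ M.comap π := by rw [eq_top_of_flips _ h]; trivial
    exact this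
  · left
    rw [eq_bot_iff]
    intro y hy
    obtain ⟨g, rfl⟩ := QuotientGroup.mk'_surjective _ y
    rw [Subgroup.mem_bot, QuotientGroup.mk'_apply, QuotientGroup.eq_one_iff]
    exact le_center_of_small (M.comap π) hneg h hy

end Cfsg.Agent.Lib.Leech
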