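import Mathlib
import Cfsg.Prelude.Def_Sporadic_a

/-!
The length-24 code as a family of point sets: closure under symmetric difference and complement,
even intersections, weights divisible by four. (No minimum weight facts here.)
-/

set_option autoImplicit false

namespace Cfsg.Agent.Lib.Leech

open Finset
open scoped Pointwise

/-- `s` is the support of a codeword. -/
def IsCode (s : Finset GolayPt) : Prop := s ∈ supports (golayCode : Set (GolayPt → ZMod 2))

/-- The binary indicator word of a point set. -/
def ind (s : Finset GolayPt) : GolayPt → ZMod 2 := fun i => if i ∈ s then 1 else 0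

theorem zmod2_cases : ∀ a : ZMod 2, a = 0 ∨ a = 1 := by decide

theorem support₂_ind (s : Finset GolayPt) : support₂ (ind s) = s := by
  ext i; simp [support₂, ind]

theorem ind_support₂ (w : GolayPt → ZMod 2) : ind (support₂ w) = w := by
  ext i
  rcases zmod2_cases (w i) with h | h <;> simp [ind, support₂, h]

theorem isCode_iff {s : Finset GolayPt} : IsCode s ↔ ind s ∈ golayCode := by
  constructor
  · rintro ⟨w, hw, rfl⟩
    rw [ind_support₂]
    exact hw
  · intro h
    exact ⟨ind s, h, support₂_ind s⟩

theorem ind_symmDiff (s t : Finset GolayPt) : ind (symmDiff s t) = ind s + ind t := by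
  ext i
  by_cases hs : i ∈ s <;> by_cases ht : i ∈ t <;>
    simp [ind, hs, ht, Finset.mem_symmDiff, CharTwo.add_self_eq_zero]

theorem isCode_empty : IsCode ∅ := by
  rw [isCode_iff]
  convert golayCode.zero_mem
  ext i; simp [ind]

theorem isCode_univ : IsCode univ := by
  rw [isCode_iff]
  have : ind univ = 1 := by ext i; simp [ind]
  rw [this]
  exact Submodule.subset_span (Set.mem_union_right _ rfl)

theorem IsCode.symmDiff {s t : Finset GolayPt} (hs : IsCode s) (ht : IsCode t) :
    IsCode (symmDiff s t) := by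
  rw [isCode_iff] at *
  rw [ind_symmDiff]
  exact golayCode.add_mem hs ht

theorem isCode_symmDiff_iff {s t : Finset GolayPt} (hs : IsCode s) :
    IsCode (_root_.symmDiff s t) ↔ IsCode t := by
  refine ⟨fun h => ?_, hs.symmDiff⟩
  have := hs.symmDiff h
  rwa [symmDiff_symmDiff_cancel_left] at this

theorem IsCode.compl {s : Finset GolayPt} (hs : IsCode s) : IsCode sᶜ := by
  have := isCode_univ.symmDiff hs
  rwa [← Finset.top_eq_univ, top_symmDiff] at this

theorem isCode_compl_iff {s : Finset GolayPt} : IsCode sᶜ ↔ IsCode s :=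
  ⟨fun h => by simpa using h.compl, fun h => h.compl⟩

/-- Binary dot product. -/
def dot2 (v w : GolayPt → ZMod 2) : ZMod 2 := ∑ i, v i * w i

theorem dot2_ind (s t : Finset GolayPt) : dot2 (ind s) (ind t) = ((s ∩ t).card : ZMod 2) := by
  simp [dot2, ind, Finset.inter_comm s t]

theorem qrWord_dot2_qrWord : ∀ a b : ZMod 23, dot2 (qrWord a) (qrWord b) = 0 := by
  decide +kernel

theorem qrWord_dot2_one : ∀ a : ZMod 23, dot2 (qrWord a) 1 = 0 ∧ dot2 1 (qrWord a) = 0 := by
  decide +kernel

theorem qrWord_weight : ∀ a : ZMod 23, (support₂ (qrWord a)).card % 4 = 0 := by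
  decide +kernel

theorem dot2_add_left (a b c : GolayPt → ZMod 2) : dot2 (a + b) c = dot2 a c + dot2 b c := by
  simp [dot2, add_mul, Finset.sum_add_distrib]

theorem dot2_comm (a b : GolayPt → ZMod 2) : dot2 a b = dot2 b a := by
  simp [dot2, mul_comm]

theorem dot2_gen {v w : GolayPt → ZMod 2} (hv : v ∈ Set.range qrWord ∪ {1})
    (hw : w ∈ Set.range qrWord ∪ {1}) : dot2 v w = 0 := by
  rcases hv with ⟨a, rfl⟩ | rfl <;> rcases hw with ⟨b, rfl⟩ | rfl
  · exact qrWord_dot2_qrWord a b
  · exact (qrWord_dot2_one a).1
  · exact (qrWord_dot2_one b).2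
  · decide +kernel

theorem dot2_golay {v w : GolayPt → ZMod 2} (hv : v ∈ golayCode) (hw : w ∈ golayCode) :
    dot2 v w = 0 := by
  induction hv using Submodule.span_induction with
  | mem x hx =>
    induction hw using Submodule.span_induction with
    | mem y hy => exact dot2_gen hx hy
    | zero => simp [dot2]
    | add y z _ _ hy hz =>
      rw [dot2_comm, dot2_add_left, dot2_comm y, dot2_comm z, hy, hz, add_zero]
    | smul c y _ hy =>
      rcases zmod2_cases c with rfl | rfl
      · simp [dot2]
      · rwa [one_smul]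
  | zero => simp [dot2]
  | add x y _ _ hx hy => rw [dot2_add_left, hx, hy, add_zero]
  | smul c x _ hx =>
    rcases zmod2_cases c with rfl | rfl
    · simp [dot2]
    · rwa [one_smul]

theorem IsCode.even_inter {s t : Finset GolayPt} (hs : IsCode s) (ht : IsCode t) :
    2 ∣ (s ∩ t).card := by
  rw [isCode_iff] at hs ht
  have := dot2_golay hs ht
  rw [dot2_ind] at this
  exact (ZMod.natCast_eq_zero_iff_even.mp this).two_dvd

theorem card_symmDiff_add (s t : Finset GolayPt) :
    (symmDiff s t).card + 2 * (s ∩ t).card = s.card + t.card := by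
  have h1 : symmDiff s t = (s ∪ t) \ (s ∩ t) := symmDiff_eq_sup_sdiff_inf s t
  have h2 := Finset.card_union_add_card_inter s t
  have h3 := Finset.card_sdiff_add_card_eq_card
    (show s ∩ t ⊆ s ∪ t from fun x hx => Finset.mem_union_left _ (Finset.mem_inter.mp hx).1)
  rw [h1]; omega

theorem weight_dvd_four_of_mem {w : GolayPt → ZMod 2} (hw : w ∈ golayCode) :
    4 ∣ (support₂ w).card := by
  induction hw using Submodule.span_induction with
  | mem x hx =>
    rcases hx with ⟨a, rfl⟩ | rfl
    · exact Nat.dvd_of_mod_eq_zero (qrWord_weight a)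
    · decide +kernel
  | zero => simp [support₂]
  | add x y hx hy h1 h2 =>
    have hev := IsCode.even_inter (s := support₂ x) (t := support₂ y) ⟨x, hx, rfl⟩ ⟨y, hy, rfl⟩
    have e : support₂ (x + y) = _root_.symmDiff (support₂ x) (support₂ y) := by
      conv_lhs => rw [← ind_support₂ x, ← ind_support₂ y, ← ind_symmDiff, support₂_ind]
    have := card_symmDiff_add (support₂ x) (support₂ y)
    rw [← e] at this
    omega
  | smul c x _ hx =>
    rcases zmod2_cases c with rfl | rfl
    · simp [support₂]
    · rwa [one_smul]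

theorem IsCode.four_dvd {s : Finset GolayPt} (hs : IsCode s) : 4 ∣ s.card := by
  have := weight_dvd_four_of_mem (isCode_iff.mp hs)
  rwa [support₂_ind] at this

theorem mem_octads {s : Finset GolayPt} : s ∈ octads ↔ IsCode s ∧ s.card = 8 := Iff.rfl

theorem mem_dodecads {s : Finset GolayPt} : s ∈ dodecads ↔ IsCode s ∧ s.card = 12 := Iff.rfl

theorem smul_eq_map (σ : Equiv.Perm GolayPt) (s : Finset GolayPt) :
    σ • s = s.map σ.toEmbedding := by
  ext i
  simp [Finset.mem_smul_finset]
  constructor
  · rintro ⟨y, hy, rfl⟩; simpa using hy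
  · intro h; exact ⟨σ.symm i, h, by simp⟩

/-- Image of a point set under a permutation of the points. -/
theorem IsCode.map {σ : Equiv.Perm GolayPt} (hσ : σ ∈ M24) {s : Finset GolayPt} (hs : IsCode s) :
    IsCode (s.map σ.toEmbedding) := by
  have h : σ • supports (golayCode : Set (GolayPt → ZMod 2)) =
      supports (golayCode : Set (GolayPt → ZMod 2)) := MulAction.mem_stabilizer_iff.mp hσ
  have : σ • s ∈ σ • supports (golayCode : Set (GolayPt → ZMod 2)) :=
    Set.smul_mem_smul_set hs
  rw [h] at this
  unfold IsCode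
  rw [smul_eq_map] at this
  exact this

theorem isCode_preimage {σ : Equiv.Perm GolayPt} (hσ : σ ∈ M24) {s : Finset GolayPt}
    (hs : IsCode s) : IsCode (univ.filter fun i => σ i ∈ s) := by
  convert hs.map (inv_mem hσ) using 1
  ext i
  simp
  rfl

theorem mem_M24_of_isCode_map {σ : Equiv.Perm GolayPt}
    (h : ∀ s, IsCode s → IsCode (s.map σ.toEmbedding)) : σ ∈ M24 := by
  have hle : σ • supports (golayCode : Set (GolayPt → ZMod 2)) ⊆
      supports (golayCode : Set (GolayPt → ZMod 2)) := by
    rintro _ ⟨s, hs, rfl⟩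
    show σ • s ∈ _
    rw [smul_eq_map]
    exact h s hs
  exact MulAction.mem_stabilizer_iff.mpr
    (Set.eq_of_subset_of_ncard_le hle (by rw [Set.ncard_smul_set]) (Set.toFinite _))

end Cfsg.Agent.Lib.Leech
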