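import Cfsg.Agent.Lib.Leech.Reduce
import Cfsg.Agent.Lib.Golay.M24

/-!
Transitivity of the automorphism group on the vectors of norm 32, 48 and 64.
-/

set_option autoImplicit false

namespace Cfsg.Agent.Lib.Leech

open Finset GolayUnique
open scoped symmDiff

theorem sum_compl_eq_big (v : leechLattice) :
    ∑ i ∈ (res 2 (vec v))ᶜ, vec v i ^ 2 = ∑ i ∈ big v, vec v i ^ 2 := by
  refine (Finset.sum_subset (fun i hi => Finset.mem_compl.mpr (Finset.mem_filter.mp hi).2.2)
    fun i hi hib => ?_).symm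
  rw [eq_zero_of_not_big (Finset.mem_compl.mp hi) hib]
  rfl

/-- The `2 mod 4` coordinates are all `±2`, or their square sum jumps. -/
theorem two_sq_cases (v : leechLattice) :
    ((∀ i ∈ res 2 (vec v), vec v i = 2 ∨ vec v i = -2) ∧
      ∑ i ∈ res 2 (vec v), vec v i ^ 2 = 4 * ((res 2 (vec v)).card : ℤ)) ∨
    4 * ((res 2 (vec v)).card : ℤ) + 32 ≤ ∑ i ∈ res 2 (vec v), vec v i ^ 2 := by
  by_cases h : ∀ i ∈ res 2 (vec v), vec v i = 2 ∨ vec v i = -2
  · refine Or.inl ⟨h, ?_⟩
    rw [Finset.sum_congr rfl fun i hi => show vec v i ^ 2 = 4 by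
      rcases h i hi with e | e <;> rw [e] <;> norm_num, Finset.sum_const, nsmul_eq_mul]
    ring
  · push Not at h
    obtain ⟨i, hi, h1, h2⟩ := h
    refine Or.inr ?_
    rw [← Finset.add_sum_erase _ _ hi]
    have h3 := sum_two_ge (v := v) ((res 2 (vec v)).erase i) (Finset.erase_subset _ _)
    rw [Finset.card_erase_of_mem hi] at h3
    have hm := mem_res.mp hi
    have h36 : 36 ≤ vec v i ^ 2 := by
      rcases (by omega : 6 ≤ vec v i ∨ vec v i ≤ -6) with e | e <;> nlinarith
    have := Finset.card_pos.mpr ⟨i, hi⟩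
    omega

theorem four_of_empty {v : leechLattice} (hv : EvenVec (vec v))
    (h0 : (res 2 (vec v)).card = 0) (i : GolayPt) : vec v i % 4 = 0 := by
  have h : i ∉ res 2 (vec v) := by rw [Finset.card_eq_zero.mp h0]; simp
  rw [mem_res] at h
  have := hv.1 i
  omega

theorem big_single {v : leechLattice} (hv : EvenVec (vec v)) (hb : (big v).card = 1) :
    (∑ i ∈ big v, vec v i ^ 2 = 16 ∨ 64 ≤ ∑ i ∈ big v, vec v i ^ 2) := by
  obtain ⟨p, hp⟩ := Finset.card_eq_one.mp hb
  obtain ⟨-, h0, h2⟩ := Finset.mem_filter.mp (hp ▸ Finset.mem_singleton_self p : p ∈ big v)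
  rw [hp, Finset.sum_singleton]
  rw [mem_res] at h2
  have := hv.1 p
  rcases (by omega : vec v p = 4 ∨ vec v p = -4 ∨ 8 ≤ vec v p ∨ vec v p ≤ -8) with e | e | e | e
  · left; rw [e]; norm_num
  · left; rw [e]; norm_num
  · right; nlinarith
  · right; nlinarith

theorem exists_four64 {v : leechLattice} (hn : sqNorm (vec v) = 64) :
    ∃ g ∈ redGroup, ∀ i, vec (g • v) i % 4 = 0 := by
  suffices key : ∀ w : leechLattice, EvenVec (vec w) → sqNorm (vec w) = 64 →
      (res 2 (vec w)).card ≠ 12 → ∃ g ∈ redGroup, ∀ i, vec (g • w) i % 4 = 0 by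
    obtain ⟨g, gm, hg⟩ := exists_even v
    by_cases h12 : (res 2 (vec (g • v))).card = 12
    · have hb : (big (g • v)).card = 1 := by
        have h1 := norm_ge hg
        have h2 := sum_sq_split (g • v)
        rw [sum_compl_eq_big, norm_smul', hn] at h2
        rw [h12, norm_smul', hn] at h1
        by_contra hne
        have h0 : (big (g • v)).card = 0 := by omega
        rw [Finset.card_eq_zero.mp h0, Finset.sum_empty] at h2
        rcases two_sq_cases (g • v) with ⟨-, h⟩ | h <;> rw [h12] at h <;> omega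
      obtain ⟨g', gm', he, h8⟩ := reduce_twelve hg h12 hb
      obtain ⟨g'', gm'', h''⟩ := key _ he (by rw [norm_smul', norm_smul', hn]) (by omega)
      exact ⟨g'' * g' * g, mul_mem (mul_mem gm'' gm') gm, by simpa [mul_smul] using h''⟩
    · obtain ⟨g', gm', h'⟩ := key _ hg (by rw [norm_smul', hn]) h12
      exact ⟨g' * g, mul_mem gm' gm, by simpa [mul_smul] using h'⟩
  intro w hw hn hne
  have h1 := norm_ge hw
  rcases hw.2.1.weights with h | h | h | h | h
  · exact ⟨1, one_mem _, fun i => by rw [one_smul]; exact four_of_empty hw h i⟩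
  · refine reduce_eight hw hn.le h fun hb => ?_
    have h2 := sum_sq_split w
    rw [sum_compl_eq_big, hn] at h2
    rcases big_single hw hb with e | e <;> rcases two_sq_cases w with ⟨-, e'⟩ | e' <;>
      rw [h] at e' <;> omega
  · exact absurd h hne
  · exact reduce_sixteen hw hn.le h
  · omega

theorem exists_axis {v : leechLattice} (hn : sqNorm (vec v) = 64) :
    ∃ g ∈ redGroup, ∃ i, vec (g • v) i = 8 ∨ vec (g • v) i = -8 := by
  obtain ⟨g, gm, hg⟩ := exists_four64 hn
  by_cases h : ∃ i, vec (g • v) i = 8 ∨ vec (g • v) i = -8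
  · exact ⟨g, gm, h⟩
  push Not at h
  obtain ⟨g', gm', i, hi⟩ := reduce_four_fours hg (by rw [norm_smul', hn]) fun i => by
    have hc := coord_le (v := g • v) (i := i) (N := 64) (B := 8) (by rw [norm_smul', hn])
      (by norm_num) (by norm_num)
    have := hg i
    have := h i
    omega
  exact ⟨g' * g, mul_mem gm' gm, i, by simpa [mul_smul] using hi⟩

theorem eq_single_of_eight {v : leechLattice} (hn : sqNorm (vec v) = 64) {i : GolayPt}
    (hi : vec v i = 8 ∨ vec v i = -8) : v = eightE i ∨ v = -eightE i := by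
  have h0 : ∀ j, j ≠ i → vec v j = 0 := by
    intro j hj
    have h := Finset.sum_le_sum_of_subset_of_nonneg (s := {i, j}) (t := univ)
      (Finset.subset_univ _) (fun k _ _ => sq_nonneg (vec v k))
    rw [Finset.sum_pair (Ne.symm hj)] at h
    have h64 : vec v i ^ 2 = 64 := by rcases hi with e | e <;> rw [e] <;> norm_num
    have : vec v j ^ 2 ≤ 0 := by rw [sqNorm] at hn; omega
    exact pow_eq_zero_iff two_ne_zero |>.mp (le_antisymm this (sq_nonneg _))
  rcases hi with h | h
  · left
    apply Subtype.ext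
    funext j
    rcases eq_or_ne j i with rfl | hj
    · simpa [eightE] using h
    · simpa [eightE, hj] using h0 j hj
  · right
    apply Subtype.ext
    funext j
    rcases eq_or_ne j i with rfl | hj
    · simpa [eightE] using h
    · simpa [eightE, hj] using h0 j hj

theorem transitive64_red {v : leechLattice} (hn : sqNorm (vec v) = 64) :
    ∃ g ∈ redGroup, g • v = eightE none := by
  obtain ⟨g, gm, i, hi⟩ := exists_axis hn
  obtain ⟨σ, hσ, hσi⟩ := M24_transitive i none
  rcases eq_single_of_eight (by rw [norm_smul', hn]) hi with h | h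
  · exact ⟨monomial σ hσ ∅ isCode_empty * g, mul_mem (monomial_mem_red _ _) gm, by rw [mul_smul, h, monomial_eightE, hσi]⟩
  · exact ⟨negOne * monomial σ hσ ∅ isCode_empty * g,
      mul_mem (mul_mem (flip_mem_red _) (monomial_mem_red _ _)) gm, by
      rw [mul_smul, mul_smul, h, smul_neg', monomial_eightE, hσi, negOne_smul, neg_neg]⟩

/-- The shell of norm 64 is one orbit. -/
theorem transitive64 {v : leechLattice} (hn : sqNorm (vec v) = 64) :
    ∃ g : Co0, g • v = eightE none :=
  (transitive64_red hn).imp fun _ h => h.2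

/-! ### Norm 48 -/

theorem exists_twelve48 {v : leechLattice} (hn : sqNorm (vec v) = 48) :
    ∃ g : Co0, EvenVec (vec (g • v)) ∧ (res 2 (vec (g • v))).card = 12 := by
  obtain ⟨g, -, hg⟩ := exists_even v
  have hn' : sqNorm (vec (g • v)) = 48 := by rw [norm_smul', hn]
  have h1 := norm_ge hg
  have h2 := sum_sq_split (g • v)
  rw [sum_compl_eq_big, hn'] at h2
  rcases hg.2.1.weights with h | h | h | h | h
  · exfalso
    have h4 := four_of_empty hg h
    have hval : ∀ i, vec (g • v) i = 0 ∨ vec (g • v) i = 4 ∨ vec (g • v) i = -4 := fun i => by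
      have hc := coord_le (v := g • v) (i := i) (N := 48) (B := 6) hn'.le (by norm_num)
        (by norm_num)
      have := h4 i
      omega
    have hcount : (sqNorm (vec (g • v)) : ℤ) =
        16 * ((univ.filter fun i => vec (g • v) i ≠ 0).card : ℤ) := by
      rw [sqNorm, Finset.sum_congr rfl fun i _ => show vec (g • v) i ^ 2 =
        16 * (if vec (g • v) i ≠ 0 then 1 else 0) by
          rcases hval i with e | e | e <;> rw [e] <;> norm_num,
        ← Finset.mul_sum, Finset.sum_boole]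
    have h8 : (8 : ℤ) ∣ ∑ i, (vec (g • v) i - 4 * (if vec (g • v) i ≠ 0 then 1 else 0)) :=
      Finset.dvd_sum fun i _ => by rcases hval i with e | e | e <;> rw [e] <;> norm_num
    rw [Finset.sum_sub_distrib, ← Finset.mul_sum, Finset.sum_boole] at h8
    have := hg.2.2
    omega
  · have hb : (big (g • v)).card = 1 := by
      by_contra hne
      have h0 : (big (g • v)).card = 0 := by omega
      rw [Finset.card_eq_zero.mp h0, Finset.sum_empty] at h2
      rcases two_sq_cases (g • v) with ⟨-, e⟩ | e <;> rw [h] at e <;> omega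
    obtain ⟨g', -, he, h12⟩ := reduce_eight_one hg hn'.le h hb
    exact ⟨g' * g, by rw [mul_smul]; exact ⟨he, h12⟩⟩
  · exact ⟨g, hg, h⟩
  · omega
  · omega

/-- Every even subset of a dodecad is cut out by a codeword. -/
theorem exists_trace {d : Finset GolayPt} (hd : IsCode d) (hd12 : d.card = 12) :
    ∀ M ⊆ d, M.card % 2 = 0 → ∃ c, IsCode c ∧ c ∩ d = M := by
  intro M
  induction M using Finset.strongInduction with
  | _ M ih =>
    intro hM hev
    rcases M.eq_empty_or_nonempty with rfl | ⟨a, ha⟩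
    · exact ⟨∅, isCode_empty, Finset.empty_inter _⟩
    obtain ⟨b, hb⟩ := Finset.card_pos.mp (show 0 < (M.erase a).card by
      rw [Finset.card_erase_of_mem ha]
      have := Finset.card_pos.mpr ⟨a, ha⟩
      omega)
    have hab := Ne.symm (Finset.ne_of_mem_erase hb)
    have hbM := Finset.mem_of_mem_erase hb
    have hsub : ({a, b} : Finset GolayPt) ⊆ M := by
      simp [Finset.insert_subset_iff, ha, hbM]
    obtain ⟨c₁, hc₁, e₁⟩ := ih (M \ {a, b})
      (Finset.sdiff_ssubset hsub (Finset.insert_nonempty _ _))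
      (Finset.sdiff_subset.trans hM) (by
        rw [Finset.card_sdiff_of_subset hsub, Finset.card_pair hab]
        omega)
    obtain ⟨c₂, hc₂, e₂⟩ := golay_good.exists_pair (mem_golaySets.mpr hd) hd12 (hM ha) (hM hbM) hab
    refine ⟨c₁ ∆ c₂, hc₁.symmDiff (mem_golaySets.mp hc₂), ?_⟩
    rw [GolayUnique.symmDiff_inter, e₁, e₂]
    ext x
    have := @hsub x
    simp only [Finset.mem_symmDiff, Finset.mem_sdiff]
    tauto

/-- The shell of norm 48 is one orbit. -/
theorem transitive48 {d : Finset GolayPt} (hd : d ∈ dodecads) {v : leechLattice}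
    (hn : sqNorm (vec v) = 48) :
    ∃ g : Co0, vec (g • v) = fun i => if i ∈ d then 2 else 0 := by
  obtain ⟨g, hg, h12⟩ := exists_twelve48 hn
  have hn' : sqNorm (vec (g • v)) = 48 := by rw [norm_smul', hn]
  have h1 := norm_ge hg
  have h2 := sum_sq_split (g • v)
  rw [sum_compl_eq_big, hn'] at h2
  rw [h12, hn'] at h1
  have hb : big (g • v) = ∅ := Finset.card_eq_zero.mp (by omega)
  rw [hb, Finset.sum_empty] at h2
  have htwo : ∀ i ∈ res 2 (vec (g • v)), vec (g • v) i = 2 ∨ vec (g • v) i = -2 := by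
    rcases two_sq_cases (g • v) with ⟨h, -⟩ | e
    · exact h
    · rw [h12] at e; omega
  have hzero : ∀ i, i ∉ res 2 (vec (g • v)) → vec (g • v) i = 0 := fun i hi =>
    eq_zero_of_not_big hi (by rw [hb]; simp)
  set S := res 2 (vec (g • v)) with hS
  obtain ⟨a, ha⟩ := Finset.card_pos.mp (show 0 < S.card by omega)
  obtain ⟨e, he⟩ := Finset.card_pos.mp (show 0 < Sᶜ.card by
    rw [Finset.card_compl, card_pt]; omega)
  have hd12 := hd.2
  obtain ⟨a', ha'⟩ := Finset.card_pos.mp (show 0 < d.card by omega)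
  obtain ⟨e', he'⟩ := Finset.card_pos.mp (show 0 < dᶜ.card by
    rw [Finset.card_compl, card_pt]; omega)
  obtain ⟨σ, hσ, hmap, -, -⟩ := M24_dodecad_flag (d := S) ⟨hg.2.1, h12⟩ hd ha
    (Finset.mem_compl.mp he) ha' (Finset.mem_compl.mp he')
  set w := monomial σ hσ ∅ isCode_empty • g • v with hw
  have hwv : ∀ i, vec w i = vec (g • v) (σ.symm i) := fun i => by
    rw [hw, monomial_smul]; simp [signedPerm]
  have hmem : ∀ i, i ∈ d ↔ σ.symm i ∈ S := fun i => by
    rw [← hmap, Finset.mem_map_equiv]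
  have hw2 : ∀ i, i ∈ d → vec w i = 2 ∨ vec w i = -2 := fun i hi => by
    rw [hwv]; exact htwo _ ((hmem i).mp hi)
  have hw0 : ∀ i, i ∉ d → vec w i = 0 := fun i hi => by
    rw [hwv]; exact hzero _ fun h => hi ((hmem i).mpr h)
  have hev : EvenVec (vec w) := evenVec_of_parity (i := e') (by
    rw [hw0 e' (Finset.mem_compl.mp he')]; rfl)
  set M := d.filter fun i => vec w i = -2 with hM
  have hMev : M.card % 2 = 0 := by
    have hs8 := hev.2.2
    have hsum : ∑ i, vec w i = 24 - 4 * (M.card : ℤ) := by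
      rw [← Finset.sum_subset (Finset.subset_univ d) (fun i _ hi => hw0 i hi),
        Finset.sum_congr rfl (fun i hi => show vec w i = 2 - 4 * (if vec w i = -2 then 1 else 0) by
          rcases hw2 i hi with e | e <;> rw [e] <;> decide),
        Finset.sum_sub_distrib, ← Finset.mul_sum, Finset.sum_boole, Finset.sum_const, hd12, hM,
        nsmul_eq_mul]
      norm_num
    omega
  obtain ⟨c, hc, hcd⟩ := exists_trace hd.1 hd12 M (Finset.filter_subset _ _) hMev
  refine ⟨flip c hc * monomial σ hσ ∅ isCode_empty * g, ?_⟩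
  funext i
  rw [mul_smul, mul_smul, ← hw, flip_smul]
  by_cases hi : i ∈ d
  · have : i ∈ c ↔ vec w i = -2 := by
      have h := congrArg (i ∈ ·) hcd
      simp [hM, hi] at h
      exact h
    rw [if_pos hi]
    rcases hw2 i hi with e | e <;> split_ifs with h <;> simp_all
  · rw [if_neg hi, hw0 i hi]
    simp

/-! ### Norm 32 -/

/-- The code group is doubly transitive. -/
theorem M24_two {i j i' j' : GolayPt} (h : i ≠ j) (h' : i' ≠ j') :
    ∃ σ ∈ M24, σ i = i' ∧ σ j = j' := by
  obtain ⟨b, hb⟩ : ∃ b : Fin 5 → GolayPt, Function.Injective b :=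
    ⟨fun n => some (n.val : ZMod 23), fun m n e => by
      have := congrArg ZMod.val (Option.some.inj e)
      rw [ZMod.val_natCast, ZMod.val_natCast, Nat.mod_eq_of_lt (by omega),
        Nat.mod_eq_of_lt (by omega)] at this
      exact Fin.ext this⟩
  have key : ∀ i j : GolayPt, i ≠ j → ∃ x : Fin 5 ↪ GolayPt, x 0 = i ∧ x 1 = j := by
    intro i j h
    set π := Equiv.swap (Equiv.swap (b 0) i (b 1)) j * Equiv.swap (b 0) i
    refine ⟨⟨fun n => π (b n), π.injective.comp hb⟩, ?_, ?_⟩
    · show π (b 0) = i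
      have hne : Equiv.swap (b 0) i (b 1) ≠ i := by
        intro e
        have := (Equiv.swap (b 0) i).injective (e.trans (Equiv.swap_apply_left (b 0) i).symm)
        exact absurd (hb this) (by decide)
      simp only [π, Equiv.Perm.mul_apply, Equiv.swap_apply_left]
      exact Equiv.swap_apply_of_ne_of_ne (Ne.symm hne) h
    · show π (b 1) = j
      simp only [π, Equiv.Perm.mul_apply, Equiv.swap_apply_left]
  obtain ⟨x, hx0, hx1⟩ := key i j h
  obtain ⟨y, hy0, hy1⟩ := key i' j' h'
  obtain ⟨σ, hσ, hxy⟩ := Golay.exists_map_five x y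
  exact ⟨σ, hσ, by rw [← hx0, hxy, hy0], by rw [← hx1, hxy, hy1]⟩

theorem exists_two_fours {v : leechLattice} (hn : sqNorm (vec v) = 32) :
    ∃ g : Co0, ∃ i j, i ≠ j ∧ (vec (g • v) i = 4 ∨ vec (g • v) i = -4) ∧
      (vec (g • v) j = 4 ∨ vec (g • v) j = -4) ∧ ∀ k, k ≠ i → k ≠ j → vec (g • v) k = 0 := by
  obtain ⟨g₀, hg₀⟩ : ∃ g : Co0, ∀ i, vec (g • v) i % 4 = 0 := by
    obtain ⟨g, -, hg⟩ := exists_even v
    have hn' : sqNorm (vec (g • v)) = 32 := by rw [norm_smul', hn]
    have h1 := norm_ge hg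
    rcases hg.2.1.weights with h | h | h | h | h
    · exact ⟨g, four_of_empty hg h⟩
    · obtain ⟨g', -, h'⟩ := reduce_eight hg (by omega) h (by omega)
      exact ⟨g' * g, by simpa [mul_smul] using h'⟩
    · omega
    · omega
    · omega
  have hn' : sqNorm (vec (g₀ • v)) = 32 := by rw [norm_smul', hn]
  have hval : ∀ i, vec (g₀ • v) i = 0 ∨ vec (g₀ • v) i = 4 ∨ vec (g₀ • v) i = -4 := fun i => by
    have hc := coord_le (v := g₀ • v) (i := i) (N := 32) (B := 5) hn'.le (by norm_num)
      (by norm_num)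
    have := hg₀ i
    omega
  set T := univ.filter fun i => vec (g₀ • v) i ≠ 0 with hT
  have hcount : sqNorm (vec (g₀ • v)) = 16 * (T.card : ℤ) := by
    rw [sqNorm, Finset.sum_congr rfl fun i _ => show vec (g₀ • v) i ^ 2 =
      16 * (if vec (g₀ • v) i ≠ 0 then 1 else 0) by
        rcases hval i with e | e | e <;> rw [e] <;> norm_num,
      ← Finset.mul_sum, Finset.sum_boole]
  obtain ⟨i, j, hij, hTij⟩ := Finset.card_eq_two.mp (show T.card = 2 by omega)
  have hk : ∀ k, k ∈ T ↔ (k = i ∨ k = j) := fun k => by rw [hTij]; simp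
  refine ⟨g₀, i, j, hij, ?_, ?_, fun k h1 h2 => ?_⟩
  · exact (hval i).resolve_left (Finset.mem_filter.mp ((hk i).mpr (Or.inl rfl))).2
  · exact (hval j).resolve_left (Finset.mem_filter.mp ((hk j).mpr (Or.inr rfl))).2
  · by_contra hne
    rcases (hk k).mp (Finset.mem_filter.mpr ⟨Finset.mem_univ _, hne⟩) with e | e
    · exact h1 e
    · exact h2 e

/-- The shell of norm 32 is one orbit. -/
theorem transitive32 {p q : GolayPt} (hpq : p ≠ q) {v : leechLattice}
    (hn : sqNorm (vec v) = 32) :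
    ∃ g : Co0, vec (g • v) = fun k => if k = p ∨ k = q then 4 else 0 := by
  obtain ⟨g, i, j, hij, hi, hj, h0⟩ := exists_two_fours hn
  obtain ⟨σ, hσ, hσi, hσj⟩ := M24_two hij hpq
  set w := monomial σ hσ ∅ isCode_empty • g • v with hw
  have hwv : ∀ k, vec w (σ k) = vec (g • v) k := fun k => by
    rw [hw, monomial_smul]; simp [signedPerm]
  have hp : vec w p = 4 ∨ vec w p = -4 := by rw [← hσi, hwv]; exact hi
  have hq : vec w q = 4 ∨ vec w q = -4 := by rw [← hσj, hwv]; exact hj
  have hz : ∀ k, k ≠ p → k ≠ q → vec w k = 0 := fun k h1 h2 => by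
    obtain ⟨l, rfl⟩ := σ.surjective k
    rw [hwv]
    exact h0 l (fun e => h1 (e ▸ hσi)) (fun e => h2 (e ▸ hσj))
  obtain ⟨c, hc, hcp, hcq⟩ : ∃ c, IsCode c ∧ (p ∈ c ↔ vec w p = -4) ∧ (q ∈ c ↔ vec w q = -4) := by
    obtain ⟨c₁, hc₁, hp₁, hq₁⟩ := separated hpq
    obtain ⟨c₂, hc₂, hq₂, hp₂⟩ := separated (Ne.symm hpq)
    rcases hp with hp | hp <;> rcases hq with hq | hq
    · exact ⟨∅, isCode_empty, by simp [hp], by simp [hq]⟩
    · exact ⟨c₂, hc₂, by simp [hp, hp₂], by simp [hq, hq₂]⟩
    · exact ⟨c₁, hc₁, by simp [hp, hp₁], by simp [hq, hq₁]⟩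
    · exact ⟨univ, isCode_univ, by simp [hp], by simp [hq]⟩
  refine ⟨flip c hc * monomial σ hσ ∅ isCode_empty * g, ?_⟩
  funext k
  rw [mul_smul, mul_smul, ← hw, flip_smul]
  by_cases h1 : k = p
  · subst h1
    rw [if_pos (Or.inl rfl)]
    rcases hp with e | e <;> split_ifs with h <;> simp_all
  by_cases h2 : k = q
  · subst h2
    rw [if_pos (Or.inr rfl)]
    rcases hq with e | e <;> split_ifs with h <;> simp_all
  rw [if_neg (not_or.mpr ⟨h1, h2⟩), hz k h1 h2]
  simp

/-- Two vectors moved to the same vector are in one orbit. -/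
theorem exists_smul_eq_of {v w : leechLattice} {g₁ g₂ : Co0}
    (h : vec (g₁ • v) = vec (g₂ • w)) : ∃ g : Co0, g • v = w :=
  ⟨g₂⁻¹ * g₁, by rw [mul_smul, Subtype.ext (a1 := g₁ • v) (a2 := g₂ • w) h, inv_smul_smul]⟩

end Cfsg.Agent.Lib.Leech
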