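import Cfsg.Agent.Lib.Leech.Generation
import Cfsg.Agent.Lib.Golay.Octads
import Cfsg.Agent.Lib.GolayUnique.Steiner

/-!
Normal subgroups of the automorphism group against the monomial subgroup.
-/

set_option autoImplicit false

namespace Cfsg.Agent.Lib.Leech

open Finset GolayUnique
open scoped symmDiff

theorem flip_mul {c d : Finset GolayPt} (hc : IsCode c) (hd : IsCode d) :
    flip c hc * flip d hd = flip (c ∆ d) (hc.symmDiff hd) := by
  refine co0_ext fun i => Subtype.ext ?_
  funext k
  show vec ((flip c hc * flip d hd) • eightE i) k = vec (flip (c ∆ d) _ • eightE i) k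
  rw [mul_smul, flip_smul, flip_smul, flip_smul]
  by_cases h1 : k ∈ c <;> by_cases h2 : k ∈ d <;> simp [Finset.mem_symmDiff, h1, h2]

theorem flip_congr {c d : Finset GolayPt} (hc : IsCode c) (hd : IsCode d) (h : c = d) :
    flip c hc = flip d hd := by subst h; rfl

theorem monomial_flip {σ : Equiv.Perm GolayPt} (hσ : σ ∈ M24) {e c : Finset GolayPt}
    (he : IsCode e) (hc : IsCode c) :
    monomial σ hσ e he * flip c hc = flip (c.map σ.toEmbedding) (hc.map hσ) * monomial σ hσ e he := by
  refine co0_ext fun i => Subtype.ext ?_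
  funext k
  show vec ((monomial σ hσ e he * flip c hc) • eightE i) k = vec ((_ * _) • eightE i) k
  rw [mul_smul, mul_smul, monomial_smul, flip_smul, monomial_smul]
  simp only [signedPerm, flip_smul, Finset.mem_map_equiv]
  split_ifs <;> ring

/-- The code is spanned by its octads. -/
theorem inSpan_octads {c : Finset GolayPt} (hc : IsCode c) :
    InSpan (golaySets.filter fun o => o.card = 8) c := by
  classical
  set F := golaySets.filter fun o => o.card = 8 with hF
  have hmem : ∀ o, o ∈ F ↔ o ∈ octads := fun o => by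
    rw [hF, Finset.mem_filter, mem_golaySets]; exact Iff.rfl
  have hd : OctadData F :=
    { card_pts := card_pt
      size := fun b hb => (Finset.mem_filter.mp hb).2
      five := fun s hs => by
        obtain ⟨o, ⟨ho, hso⟩, huniq⟩ := Golay.octads_steiner.2 s hs
        rw [Finset.card_eq_one]
        refine ⟨o, Finset.eq_singleton_iff_unique_mem.mpr
          ⟨Finset.mem_filter.mpr ⟨(hmem o).mpr ho, hso⟩, fun b hb => ?_⟩⟩
        obtain ⟨hb1, hb2⟩ := Finset.mem_filter.mp hb
        exact huniq b ⟨(hmem b).mp hb1, hb2⟩ }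
  have hsub : spanCode F ⊆ golaySets := by
    intro x hx
    rw [mem_spanCode] at hx
    induction hx with
    | empty => exact mem_golaySets.mpr isCode_empty
    | step e b _ hb ih =>
      exact golay_good.symmDiff_mem _ ih _ (Finset.mem_filter.mp hb).1
  have heq : spanCode F = golaySets :=
    Finset.eq_of_subset_of_card_le hsub (by rw [hd.good.card_eq, card_golaySets])
  rw [← mem_spanCode, heq]
  exact mem_golaySets.mpr hc

/-- An element of the code group fixing every octad is trivial. -/
theorem eq_one_of_fix_octads {σ : Equiv.Perm GolayPt}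
    (h : ∀ o ∈ octads, o.map σ.toEmbedding = o) : σ = 1 := by
  classical
  by_contra hne
  obtain ⟨i, hi⟩ : ∃ i, σ i ≠ i := by
    by_contra hno
    push Not at hno
    exact hne (Equiv.ext hno)
  have e : Golay.Steiner.through octads {i} = Golay.Steiner.through octads {σ i, i} := by
    ext o
    simp only [Golay.Steiner.through, Finset.mem_filter, Golay.Steiner.mem_blocks,
      Finset.singleton_subset_iff, Finset.insert_subset_iff]
    refine ⟨fun ⟨ho, hio⟩ => ⟨ho, ?_, hio⟩, fun ⟨ho, _, hio⟩ => ⟨ho, hio⟩⟩
    rw [← h o ho]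
    exact Finset.mem_map.mpr ⟨i, hio, rfl⟩
  have h1 := Golay.Steiner.card_through Golay.octads_steiner ({i} : Finset GolayPt) (by simp)
  have h2 := Golay.Steiner.card_through Golay.octads_steiner ({σ i, i} : Finset GolayPt)
    (by rw [Finset.card_pair hi]; norm_num)
  rw [Finset.card_singleton, Golay.card_golayPt] at h1
  rw [Finset.card_pair hi, Golay.card_golayPt, ← e] at h2
  norm_num [Nat.choose_succ_succ] at h1 h2
  omega

/-- Any dodecad is a sum of an octad and a dodecad. -/
theorem exists_octad_meet_dodecad {d : Finset GolayPt} (hd : d ∈ dodecads) :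
    ∃ o ∈ octads, o ∆ d ∈ dodecads := by
  classical
  obtain ⟨A, hA, hA4⟩ := Finset.exists_subset_card_eq (s := d) (n := 4) (by rw [hd.2]; norm_num)
  obtain ⟨P, hP, hP0⟩ := exists_sextet hA4
  obtain ⟨Z, hZ0, hZ⟩ : ∃ Z, Z ≠ 0 ∧ (d ∩ tetUnion P {Z}).card = 0 := by
    have h02 : ∀ t, t ≠ 0 → (d ∩ tetUnion P {t}).card = 0 ∨ (d ∩ tetUnion P {t}).card = 2 := by
      intro t ht
      have := IsCode.dodecad_inter hd.1 hd.2 (pair_octad hP ht)
      rw [tetUnion_pair, Finset.union_inter_distrib_right, Finset.card_union_of_disjoint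
        ((fiber_disjoint P (Ne.symm ht)).mono Finset.inter_subset_left Finset.inter_subset_left),
        hP0, Finset.inter_eq_left.mpr hA, hA4, Finset.inter_comm] at this
      have := inter_parity hP hd.1 t 0
      rw [hP0, Finset.inter_eq_right.mpr hA, hA4] at this
      omega
    obtain ⟨Z, h1, h2, -⟩ := exists_zero_fiber P d h02
      (by rw [hP0, Finset.inter_eq_right.mpr hA, hA4, hd.2])
    exact ⟨Z, h1, h2⟩
  have ho := pair_octad hP hZ0
  refine ⟨_, ho, IsCode.symmDiff ho.1 hd.1, ?_⟩
  have := card_symmDiff_add (tetUnion P {0, Z}) d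
  have h2 : (tetUnion P {0, Z} ∩ d).card = 4 := by
    rw [tetUnion_pair, Finset.union_inter_distrib_right, Finset.inter_comm (tetUnion P {Z}),
      Finset.card_eq_zero.mp hZ, Finset.union_empty, hP0, Finset.inter_eq_left.mpr hA, hA4]
  have := ho.2
  have := hd.2
  omega

theorem negOne_eq_flip : negOne = flip univ isCode_univ := rfl

/-- A normal subgroup containing `-1` contains every sign change or meets the monomial group in
the centre. -/
theorem dichotomy (K : Subgroup Co0) [hKn : K.Normal] (hneg : negOne ∈ K) :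
    (∀ c (hc : IsCode c), flip c hc ∈ K) ∨ K ⊓ crossGroup ≤ Subgroup.center Co0 := by
  classical
  by_cases hcase : ∃ c, ∃ hc : IsCode c, c ≠ ∅ ∧ c ≠ univ ∧ flip c hc ∈ K
  · left
    obtain ⟨c, hc, h0, h1, hcK⟩ := hcase
    let W : Finset GolayPt → Prop := fun s => ∃ hs : IsCode s, flip s hs ∈ K
    have hadd : ∀ s t, W s → W t → W (s ∆ t) := fun s t ⟨hs, h⟩ ⟨ht, h'⟩ =>
      ⟨hs.symmDiff ht, by rw [← flip_mul hs ht]; exact mul_mem h h'⟩
    have huniv : W univ := ⟨isCode_univ, hneg⟩
    have hmap : ∀ s σ, σ ∈ M24 → W s → W (s.map σ.toEmbedding) := fun s σ hσ ⟨hs, h⟩ =>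
      ⟨hs.map hσ, by
        have := hKn.conj_mem _ h (monomial σ hσ ∅ isCode_empty)
        rwa [monomial_flip hσ isCode_empty hs, mul_inv_cancel_right] at this⟩
    have hoct1 : ∃ o ∈ octads, W o := by
      rcases hc.weights with h | h | h | h | h
      · exact absurd (Finset.card_eq_zero.mp h) h0
      · exact ⟨c, ⟨hc, h⟩, hc, hcK⟩
      · have hcd : c ∈ dodecads := ⟨hc, h⟩
        obtain ⟨o, ho, hod⟩ := exists_octad_meet_dodecad hcd
        obtain ⟨a, ha⟩ := Finset.card_pos.mp (show 0 < c.card by omega)
        obtain ⟨e, he⟩ := Finset.card_pos.mp (show 0 < cᶜ.card by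
          rw [Finset.card_compl, card_pt]; omega)
        obtain ⟨a', ha'⟩ := Finset.card_pos.mp (show 0 < (o ∆ c).card by rw [hod.2]; norm_num)
        obtain ⟨e', he'⟩ := Finset.card_pos.mp (show 0 < (o ∆ c)ᶜ.card by
          rw [Finset.card_compl, card_pt, hod.2]; norm_num)
        obtain ⟨σ, hσ, hσc, -, -⟩ := M24_dodecad_flag hcd hod ha (Finset.mem_compl.mp he) ha'
          (Finset.mem_compl.mp he')
        refine ⟨o, ho, ?_⟩
        have h' := hadd _ _ (hmap c σ hσ ⟨hc, hcK⟩) ⟨hc, hcK⟩
        rwa [hσc, symmDiff_symmDiff_cancel_right] at h'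
      · refine ⟨cᶜ, ⟨hc.compl, by rw [Finset.card_compl, card_pt, h]⟩, ?_⟩
        have h' := hadd _ _ huniv ⟨hc, hcK⟩
        rwa [show (univ : Finset GolayPt) ∆ c = cᶜ by ext; simp [Finset.mem_symmDiff]] at h'
      · exact absurd (Finset.eq_univ_of_card c (by rw [h, card_pt])) h1
    obtain ⟨o, ho, hWo⟩ := hoct1
    have hall : ∀ o' ∈ octads, W o' := fun o' ho' => by
      obtain ⟨σ, hσ, e⟩ := Golay.transitive_octads ho ho'
      have := hmap o σ hσ hWo
      rwa [show o.map σ.toEmbedding = o' by
        rw [← e]; ext x; simp only [Finset.mem_map, Finset.mem_smul_finset]; rfl] at this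
    intro s hs
    have hspan := inSpan_octads hs
    suffices W s by obtain ⟨_, h⟩ := this; exact h
    clear hs
    induction hspan with
    | empty => exact ⟨isCode_empty, by
        rw [show flip ∅ isCode_empty = 1 from co0_ext fun i => Subtype.ext (by
          funext k; show vec (flip ∅ isCode_empty • eightE i) k = _
          rw [flip_smul, one_smul]; simp)]
        exact one_mem K⟩
    | step e b _ hb ih =>
      refine hadd e b ih (hall b ?_)
      rw [Finset.mem_filter, mem_golaySets] at hb
      exact hb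
  · right
    push Not at hcase
    rintro g ⟨hgK, hgN⟩
    obtain ⟨σ, hσ, e, he, rfl⟩ := exists_monomial hgN
    have hσ1 : σ = 1 := eq_one_of_fix_octads fun o ho => by
      obtain ⟨hoc, ho8⟩ : IsCode o ∧ o.card = 8 := ho
      have h1 : monomial σ hσ e he * flip o hoc * (monomial σ hσ e he)⁻¹ * (flip o hoc)⁻¹ ∈ K := by
        rw [mul_assoc (monomial σ hσ e he) (flip o hoc), mul_assoc (monomial σ hσ e he)]
        exact mul_mem hgK (hKn.conj_mem _ (inv_mem hgK) (flip o hoc))
      have hinv : (flip o hoc)⁻¹ = flip o hoc := by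
        refine inv_eq_of_mul_eq_one_right ?_
        rw [flip_mul]
        refine co0_ext fun i => Subtype.ext ?_
        funext k
        show vec (flip (o ∆ o) _ • eightE i) k = _
        rw [flip_smul, one_smul, symmDiff_self]
        simp
      rw [monomial_flip hσ he hoc, mul_inv_cancel_right, hinv, flip_mul] at h1
      by_contra hne
      have h2 := hcase _ ((hoc.map hσ).symmDiff hoc)
        (Finset.nonempty_iff_ne_empty.mpr fun h => hne (symmDiff_eq_bot.mp h))
        (fun h => ?_)
      · exact h2 h1
      · have := card_symmDiff_add (o.map σ.toEmbedding) o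
        rw [h, Finset.card_map, ho8, Finset.card_univ, card_pt] at this
        omega
    subst hσ1
    by_cases h0 : e = ∅
    · subst h0
      rw [show monomial 1 hσ ∅ he = 1 from co0_ext fun i => by
        rw [monomial_apply_eightE, one_smul]; simp]
      exact one_mem _
    by_cases h1 : e = univ
    · subst h1; exact negOne_mem_center
    exact absurd hgK (hcase e he (Finset.nonempty_iff_ne_empty.mpr h0) h1)

/-- A normal subgroup with all sign changes contains every sextet element. -/
theorem sextet_mem_of_flips {K : Subgroup Co0} [hKn : K.Normal]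
    (h : ∀ c (hc : IsCode c), flip c hc ∈ K) {P : GolayPt → Fin 6} (hP : IsSextet P) :
    sextetElt hP ∈ K := by
  obtain ⟨g, c, hc, e⟩ := exists_conj_flip hP
  have := hKn.conj_mem _ (h c hc) g
  rwa [← e, show g * (g⁻¹ * sextetElt hP * g) * g⁻¹ = sextetElt hP by group] at this

theorem sup_cross_eq_top {K : Subgroup Co0} [K.Normal]
    (h : ∀ c (hc : IsCode c), flip c hc ∈ K) : K ⊔ crossGroup = ⊤ := by
  rw [eq_top_iff, ← redGroup_eq_top, redGroup, Subgroup.closure_le]
  rintro g (⟨σ, hσ, c, hc, rfl⟩ | ⟨P, hP, rfl⟩)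
  · exact Subgroup.mem_sup_right (axis_monomial hσ hc)
  · exact Subgroup.mem_sup_left (sextet_mem_of_flips h hP)

/-- A sextet element does not preserve the standard cross. -/
theorem sextet_not_mem_cross {P : GolayPt → Fin 6} (hP : IsSextet P) :
    sextetElt hP ∉ crossGroup := by
  intro h
  obtain ⟨j, hj⟩ := h none
  have e : vec (sextetElt hP • eightE none) none = tetSign (P none) * (-4) := by
    rw [sextetElt_smul]
    simp only [sextetMap, tetSum, eightE_apply]
    rw [Finset.sum_ite_eq' (tetUnion P {P none}) none (fun _ => (8 : ℤ)),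
      if_pos (by simp [mem_tetUnion])]
    simp
  rcases hj with hj | hj <;> rw [hj] at e <;> simp [eightE, vec, Pi.single_apply, tetSign] at e <;>
    split_ifs at e <;> omega

end Cfsg.Agent.Lib.Leech
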