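import Cfsg.Agent.Lib.Leech.Co0
import Cfsg.Agent.Lib.Golay.Octads

/-!
Sextets and the lattice automorphisms attached to them.
-/

set_option autoImplicit false

namespace Cfsg.Agent.Lib.Leech

open Finset
open scoped symmDiff

/-- The points with a label in `J`. -/
def tetUnion (P : GolayPt → Fin 6) (J : Finset (Fin 6)) : Finset GolayPt :=
  univ.filter fun i => P i ∈ J

theorem mem_tetUnion {P : GolayPt → Fin 6} {J : Finset (Fin 6)} {i : GolayPt} :
    i ∈ tetUnion P J ↔ P i ∈ J := by simp [tetUnion]

/-- A labelled sextet. -/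
structure IsSextet (P : GolayPt → Fin 6) : Prop where
  card : ∀ t, (tetUnion P {t}).card = 4
  pair : ∀ s t, s ≠ t → IsCode (tetUnion P {s, t})

theorem tetUnion_symmDiff (P : GolayPt → Fin 6) (J K : Finset (Fin 6)) :
    tetUnion P (J ∆ K) = tetUnion P J ∆ tetUnion P K := by
  ext i; simp [mem_tetUnion, Finset.mem_symmDiff]

theorem IsSextet.even_union {P : GolayPt → Fin 6} (hP : IsSextet P) {J : Finset (Fin 6)}
    (hJ : 2 ∣ J.card) : IsCode (tetUnion P J) := by
  induction hn : J.card using Nat.strong_induction_on generalizing J with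
  | _ n ih =>
    rcases Nat.eq_zero_or_pos J.card with h0 | hpos
    · rw [Finset.card_eq_zero] at h0
      subst h0
      convert isCode_empty using 1
      ext i; simp [mem_tetUnion]
    · obtain ⟨s, hs, t, ht, hst⟩ := Finset.one_lt_card.mp (show 1 < J.card by omega)
      have e : J = ({s, t} : Finset (Fin 6)) ∆ ((J.erase s).erase t) := by
        ext x
        simp only [Finset.mem_symmDiff, Finset.mem_insert, Finset.mem_singleton, Finset.mem_erase]
        constructor
        · intro hx
          by_cases hxs : x = s
          · exact Or.inl ⟨Or.inl hxs, fun h => h.2.1 hxs⟩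
          · by_cases hxt : x = t
            · exact Or.inl ⟨Or.inr hxt, fun h => h.1 hxt⟩
            · exact Or.inr ⟨⟨hxt, hxs, hx⟩, by tauto⟩
        · rintro (⟨rfl | rfl, -⟩ | ⟨⟨-, -, hx⟩, -⟩) <;> assumption
      have hc : ((J.erase s).erase t).card = J.card - 2 := by
        rw [Finset.card_erase_of_mem (Finset.mem_erase.mpr ⟨Ne.symm hst, ht⟩),
          Finset.card_erase_of_mem hs]
        omega
      rw [e, tetUnion_symmDiff]
      exact (hP.pair s t hst).symmDiff (ih _ (by omega) (by omega) rfl)

/-- Every four points form the tetrad with label `0` of a sextet. -/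
theorem exists_sextet {T : Finset GolayPt} (hT : T.card = 4) :
    ∃ P, IsSextet P ∧ tetUnion P {0} = T := by
  classical
  set O := Golay.Steiner.through octads T with hO
  have hOcard : O.card = 5 := by
    have := Golay.Steiner.card_through Golay.octads_steiner T (by omega)
    rw [hT, Golay.card_golayPt] at this
    rw [hO]
    norm_num at this
    omega
  have hmem : ∀ o ∈ O, o ∈ octads ∧ T ⊆ o := by
    intro o ho
    simpa [hO, Golay.Steiner.through] using ho
  have hfind : ∀ p, p ∉ T → ∃ o ∈ O, p ∈ o := by
    intro p hp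
    obtain ⟨o, ⟨ho, hso⟩, -⟩ := Golay.octads_steiner.2 (insert p T)
      (by rw [Finset.card_insert_of_notMem hp, hT])
    refine ⟨o, ?_, hso (Finset.mem_insert_self _ _)⟩
    simpa [hO, Golay.Steiner.through, ho] using (Finset.subset_insert p T).trans hso
  have huniq : ∀ o ∈ O, ∀ o' ∈ O, ∀ p, p ∉ T → p ∈ o → p ∈ o' → o = o' := by
    intro o ho o' ho' p hp hpo hpo'
    exact Golay.octad_unique (s := insert p T) (hmem o ho).1 (hmem o' ho').1
      (by rw [Finset.card_insert_of_notMem hp, hT])
      (Finset.insert_subset hpo (hmem o ho).2) (Finset.insert_subset hpo' (hmem o' ho').2)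
  let e := O.equivFinOfCardEq hOcard
  let P : GolayPt → Fin 6 := fun p =>
    if h : p ∈ T then 0 else Fin.succ (e ⟨(hfind p h).choose, (hfind p h).choose_spec.1⟩)
  have hP : ∀ (k : Fin 5) p, P p = k.succ ↔ p ∉ T ∧ p ∈ (e.symm k).1 := by
    intro k p
    simp only [P]
    by_cases h : p ∈ T
    · simp [h, (Fin.succ_ne_zero k).symm]
    · rw [dif_neg h]
      simp only [Fin.succ_inj, h, not_false_iff, true_and]
      obtain ⟨ho, hpo⟩ := (hfind p h).choose_spec
      constructor
      · intro hk
        rw [← hk, Equiv.symm_apply_apply]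
        exact hpo
      · intro hk
        have := huniq _ ho _ (e.symm k).2 p h hpo hk
        simp only [this, Subtype.coe_eta, Equiv.apply_symm_apply]
  have h0 : tetUnion P {0} = T := by
    ext p
    simp only [mem_tetUnion, Finset.mem_singleton, P]
    by_cases h : p ∈ T <;> simp [h, Fin.succ_ne_zero]
  have hsucc : ∀ k : Fin 5, tetUnion P {k.succ} = (e.symm k).1 \ T := by
    intro k
    ext p
    simp only [mem_tetUnion, Finset.mem_singleton, hP, Finset.mem_sdiff, and_comm]
  have hcard : ∀ t, (tetUnion P {t}).card = 4 := by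
    intro t
    refine Fin.cases ?_ (fun k => ?_) t
    · rw [h0, hT]
    · rw [hsucc, Finset.card_sdiff_of_subset (hmem _ (e.symm k).2).2, (hmem _ (e.symm k).2).1.2, hT]
  have hu : ∀ J K : Finset (Fin 6), tetUnion P (J ∪ K) = tetUnion P J ∪ tetUnion P K := by
    intro J K; ext i; simp [mem_tetUnion]
  have hoct : ∀ k : Fin 5, IsCode (tetUnion P {0, k.succ}) := by
    intro k
    rw [Finset.insert_eq, hu, h0, hsucc, Finset.union_sdiff_of_subset (hmem _ (e.symm k).2).2]
    exact (hmem _ (e.symm k).2).1.1
  refine ⟨P, ⟨hcard, fun s t hst => ?_⟩, h0⟩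
  induction s using Fin.cases with
  | zero =>
    induction t using Fin.cases with
    | zero => exact absurd rfl hst
    | succ l => exact hoct l
  | succ k =>
    induction t using Fin.cases with
    | zero => rw [Finset.pair_comm]; exact hoct k
    | succ l =>
      have hkl : k ≠ l := fun h => hst (by rw [h])
      have e2 : ({k.succ, l.succ} : Finset (Fin 6)) = {0, k.succ} ∆ {0, l.succ} := by
        revert hkl; revert k l; decide
      rw [e2, tetUnion_symmDiff]
      exact (hoct k).symmDiff (hoct l)

/-- The sum of the coordinates in a tetrad. -/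
def tetSum (P : GolayPt → Fin 6) (x : GolayPt → ℤ) (t : Fin 6) : ℤ := ∑ i ∈ tetUnion P {t}, x i

/-- The sign of a tetrad. -/
def tetSign (t : Fin 6) : ℤ := if t = 0 then -1 else 1

/-- The map attached to a sextet. -/
def sextetMap (P : GolayPt → Fin 6) (x : GolayPt → ℤ) : GolayPt → ℤ :=
  fun i => tetSign (P i) * (tetSum P x (P i) / 2 - x i)

theorem sum_fiber (P : GolayPt → Fin 6) (x : GolayPt → ℤ) :
    ∑ t, tetSum P x t = ∑ i, x i := by
  rw [← Finset.sum_fiberwise univ P x]
  refine Finset.sum_congr rfl fun t _ => ?_
  simp [tetSum, tetUnion]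

theorem parity_of_mem {x : GolayPt → ℤ} (hx : x ∈ leechLattice) (i j : GolayPt) :
    x i % 2 = x j % 2 := by
  rcases mem_leech_iff.mp hx with h | h <;> rw [h.1 i, h.1 j]

variable {P : GolayPt → Fin 6} (hP : IsSextet P)
include hP

theorem tetSum_even {x : GolayPt → ℤ} (hx : x ∈ leechLattice) (t : Fin 6) :
    (2 : ℤ) ∣ tetSum P x t := by
  have h : (2 : ℤ) ∣ ∑ i ∈ tetUnion P {t}, (x i - x none) :=
    Finset.dvd_sum fun i _ => by have := parity_of_mem hx i none; omega
  rw [Finset.sum_sub_distrib, Finset.sum_const, hP.card, nsmul_eq_mul] at h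
  rw [tetSum]
  omega

theorem sum_sextetMap_fiber {x : GolayPt → ℤ} (hx : x ∈ leechLattice) (t : Fin 6) :
    tetSum P (sextetMap P x) t = tetSign t * tetSum P x t := by
  have e : ∀ i ∈ tetUnion P {t}, sextetMap P x i = tetSign t * (tetSum P x t / 2 - x i) := by
    intro i hi
    rw [mem_tetUnion, Finset.mem_singleton] at hi
    simp only [sextetMap, hi]
  rw [tetSum, Finset.sum_congr rfl e, ← Finset.mul_sum, Finset.sum_sub_distrib, Finset.sum_const,
    hP.card, nsmul_eq_mul]
  congr 1
  have := tetSum_even hP hx t
  rw [show ∑ i ∈ tetUnion P {t}, x i = tetSum P x t from rfl]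
  omega

theorem sextetMap_sq {x : GolayPt → ℤ} (hx : x ∈ leechLattice) :
    sextetMap P (sextetMap P x) = x := by
  funext i
  show tetSign (P i) * (tetSum P (sextetMap P x) (P i) / 2 - sextetMap P x i) = x i
  rw [sum_sextetMap_fiber hP hx]
  have := tetSum_even hP hx (P i)
  simp only [sextetMap, tetSign]
  split_ifs <;> omega

theorem sextetMap_add {x y : GolayPt → ℤ} (hx : x ∈ leechLattice) :
    sextetMap P (x + y) = sextetMap P x + sextetMap P y := by
  funext i
  have e : tetSum P (x + y) (P i) = tetSum P x (P i) + tetSum P y (P i) := by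
    simp [tetSum, Finset.sum_add_distrib]
  simp only [sextetMap, Pi.add_apply, e, Int.add_ediv_of_dvd_left (tetSum_even hP hx (P i))]
  ring

theorem sqNorm_sextetMap {x : GolayPt → ℤ} (hx : x ∈ leechLattice) :
    sqNorm (sextetMap P x) = sqNorm x := by
  simp only [sqNorm]
  rw [← Finset.sum_fiberwise univ P, ← Finset.sum_fiberwise univ P (fun i => x i ^ 2)]
  refine Finset.sum_congr rfl fun t _ => ?_
  have hfil : (univ.filter fun i => P i = t) = tetUnion P {t} := by simp [tetUnion]
  rw [hfil]
  have e : ∀ i ∈ tetUnion P {t}, sextetMap P x i ^ 2 =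
      (tetSum P x t / 2) ^ 2 - 2 * (tetSum P x t / 2) * x i + x i ^ 2 := by
    intro i hi
    rw [mem_tetUnion, Finset.mem_singleton] at hi
    simp only [sextetMap, hi, tetSign]
    split_ifs <;> ring
  rw [Finset.sum_congr rfl e, Finset.sum_add_distrib, Finset.sum_sub_distrib, Finset.sum_const,
    hP.card, ← Finset.mul_sum, nsmul_eq_mul]
  have h2 : tetSum P x t = 2 * (tetSum P x t / 2) := by
    have := tetSum_even hP hx t; omega
  rw [show ∑ i ∈ tetUnion P {t}, x i = tetSum P x t from rfl]
  conv_lhs => arg 1; arg 2; arg 2; rw [h2]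
  push_cast
  ring

theorem sum_sextetMap {x : GolayPt → ℤ} (hx : x ∈ leechLattice) :
    ∑ i, sextetMap P x i = ∑ i, x i - 2 * tetSum P x 0 := by
  rw [← sum_fiber P, ← sum_fiber P x, Finset.sum_congr rfl fun t _ => sum_sextetMap_fiber hP hx t]
  simp [Fin.sum_univ_six, tetSign]
  ring

/-- All six tetrads meet a codeword with the same parity. -/
theorem inter_parity {c : Finset GolayPt} (hc : IsCode c) (s t : Fin 6) :
    (c ∩ tetUnion P {s}).card % 2 = (c ∩ tetUnion P {t}).card % 2 := by
  rcases eq_or_ne s t with rfl | hst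
  · rfl
  · have h := hc.even_inter (hP.pair s t hst)
    have e : c ∩ tetUnion P {s, t} = (c ∩ tetUnion P {s}) ∪ (c ∩ tetUnion P {t}) := by
      ext i; simp [mem_tetUnion]; tauto
    rw [e, Finset.card_union_of_disjoint (Finset.disjoint_left.mpr fun i h1 h2 => by
      simp [mem_tetUnion] at h1 h2; exact hst (h1.2.symm.trans h2.2))] at h
    omega

theorem tetSum_mod_four {x : GolayPt → ℤ} {r : ℤ} {c : Finset GolayPt}
    (h : ∀ i, x i % 4 = if i ∈ c then r + 2 - 4 * ((r + 2) / 4) else r) (t : Fin 6) :
    (tetSum P x t - 4 * r - 2 * (c ∩ tetUnion P {t}).card) % 4 = 0 := by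
  have h4 : (4 : ℤ) ∣ ∑ i ∈ tetUnion P {t}, (x i - r - if i ∈ c then 2 else 0) :=
    Finset.dvd_sum fun i _ => by
      have := h i
      split_ifs at this ⊢ <;> omega
  rw [Finset.sum_sub_distrib, Finset.sum_sub_distrib, Finset.sum_const, hP.card, Finset.sum_ite_mem,
    Finset.sum_const, nsmul_eq_mul, nsmul_eq_mul, Finset.inter_comm] at h4
  rw [tetSum]
  omega

theorem half_card {x : GolayPt → ℤ} (hx : x ∈ leechLattice) (J : Finset (Fin 6)) {a b : ℤ}
    (hJ : ∀ t, (tetSum P x t / 2) % 4 = if t ∈ J then a else b) :
    (∑ i, x i - 2 * (a * J.card + b * (6 - (J.card : ℤ)))) % 8 = 0 := by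
  have h8 : (8 : ℤ) ∣ ∑ t : Fin 6, (tetSum P x t - 2 * if t ∈ J then a else b) :=
    Finset.dvd_sum fun t _ => by
      have := hJ t
      have := tetSum_even hP hx t
      split_ifs at * <;> omega
  rw [Finset.sum_sub_distrib, sum_fiber, ← Finset.mul_sum, Finset.sum_ite, Finset.sum_const,
    Finset.sum_const, Finset.filter_mem_eq_inter, Finset.univ_inter, Finset.filter_not,
    Finset.filter_mem_eq_inter, Finset.univ_inter, Finset.card_univ_sdiff, Fintype.card_fin,
    nsmul_eq_mul, nsmul_eq_mul] at h8
  have := Finset.card_le_univ J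
  simp only [Fintype.card_fin] at this
  rw [Nat.cast_sub this] at h8
  obtain ⟨q, hq⟩ := h8
  refine Int.emod_eq_zero_of_dvd ⟨q, ?_⟩
  linear_combination hq

theorem sextetMap_mem {x : GolayPt → ℤ} (hx : x ∈ leechLattice) :
    sextetMap P x ∈ leechLattice := by
  have hsum := sum_sextetMap hP hx
  rcases mem_leech_iff.mp hx with ⟨hp, hc, hs⟩ | ⟨hp, hc, hs⟩
  · -- even vector
    have hS : ∀ t, (tetSum P x t - 2 * (res 2 x ∩ tetUnion P {t}).card) % 4 = 0 := fun t => by
      have := tetSum_mod_four hP (x := x) (r := 0) (c := res 2 x) (fun i => by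
        have := hp i; simp only [mem_res]; split_ifs <;> omega) t
      omega
    by_cases hk : (res 2 x ∩ tetUnion P {0}).card % 2 = 0
    · have hh : ∀ t, (tetSum P x t / 2) % 2 = 0 := fun t => by
        have := inter_parity hP hc t 0; have := hS t; omega
      set J := univ.filter fun t => (tetSum P x t / 2) % 4 = 2 with hJ
      have hcard := half_card hP hx J (a := 2) (b := 0) fun t => by
        have := hh t; simp [hJ]; split_ifs <;> omega
      refine evenVec_mem ⟨fun i => ?_, ?_, ?_⟩
      · have := hh (P i); have := hp i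
        simp only [sextetMap, tetSign]; split_ifs <;> omega
      · convert hc.symmDiff (hP.even_union (J := J) (by omega)) using 1
        ext i
        have := hh (P i); have := hp i
        simp only [Finset.mem_symmDiff, mem_res, mem_tetUnion, hJ, Finset.mem_filter,
          Finset.mem_univ, true_and, sextetMap, tetSign]
        split_ifs <;> omega
      · rw [hsum]; have := hh 0; have := tetSum_even hP hx 0; omega
    · have hh : ∀ t, (tetSum P x t / 2) % 2 = 1 := fun t => by
        have := inter_parity hP hc t 0; have := hS t; omega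
      set J := univ.filter fun t => (tetSum P x t / 2) % 4 = 1 with hJ
      have hcard := half_card hP hx J (a := 1) (b := 3) fun t => by
        have := hh t; simp [hJ]; split_ifs <;> omega
      have hJ' : 2 ∣ (J ∆ {0}).card := by
        have := GolayUnique.card_symmDiff_add J {0}
        rw [Finset.card_singleton] at this
        omega
      refine oddVec_mem ⟨fun i => ?_, ?_, ?_⟩
      · have := hh (P i); have := hp i
        simp only [sextetMap, tetSign]; split_ifs <;> omega
      · convert hc.symmDiff (hP.even_union hJ') using 1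
        ext i
        have hPi := hh (P i)
        have := hp i
        simp only [Finset.mem_symmDiff, mem_res, mem_tetUnion, hJ, Finset.mem_filter,
          Finset.mem_univ, true_and, sextetMap, tetSign, Finset.mem_singleton]
        by_cases h0 : P i = 0
        · rw [h0] at hPi ⊢
          simp
          omega
        · simp [h0]
          omega
      · rw [hsum]; have := hh 0; have := tetSum_even hP hx 0; omega
  · -- odd vector
    have hS : ∀ t, (tetSum P x t - 2 * (res 1 x ∩ tetUnion P {t}).card) % 4 = 0 := fun t => by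
      have := tetSum_mod_four hP (x := x) (r := 3) (c := res 1 x) (fun i => by
        have := hp i; simp only [mem_res]; split_ifs <;> omega) t
      omega
    by_cases hk : (res 1 x ∩ tetUnion P {0}).card % 2 = 0
    · have hh : ∀ t, (tetSum P x t / 2) % 2 = 0 := fun t => by
        have := inter_parity hP hc t 0; have := hS t; omega
      set J := univ.filter fun t => (tetSum P x t / 2) % 4 = 0 with hJ
      have hcard := half_card hP hx J (a := 0) (b := 2) fun t => by
        have := hh t; simp [hJ]; split_ifs <;> omega
      have hJ' : 2 ∣ (J ∆ {0}).card := by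
        have := GolayUnique.card_symmDiff_add J {0}
        rw [Finset.card_singleton] at this
        omega
      refine oddVec_mem ⟨fun i => ?_, ?_, ?_⟩
      · have := hh (P i); have := hp i
        simp only [sextetMap, tetSign]; split_ifs <;> omega
      · convert hc.symmDiff (hP.even_union hJ') using 1
        ext i
        have hPi := hh (P i)
        have := hp i
        simp only [Finset.mem_symmDiff, mem_res, mem_tetUnion, hJ, Finset.mem_filter,
          Finset.mem_univ, true_and, sextetMap, tetSign, Finset.mem_singleton]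
        by_cases h0 : P i = 0
        · rw [h0] at hPi ⊢
          simp
          omega
        · simp [h0]
          omega
      · rw [hsum]; have := hh 0; have := tetSum_even hP hx 0; omega
    · have hh : ∀ t, (tetSum P x t / 2) % 2 = 1 := fun t => by
        have := inter_parity hP hc t 0; have := hS t; omega
      set J := univ.filter fun t => (tetSum P x t / 2) % 4 = 1 with hJ
      have hcard := half_card hP hx J (a := 1) (b := 3) fun t => by
        have := hh t; simp [hJ]; split_ifs <;> omega
      refine evenVec_mem ⟨fun i => ?_, ?_, ?_⟩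
      · have := hh (P i); have := hp i
        simp only [sextetMap, tetSign]; split_ifs <;> omega
      · convert hc.symmDiff (hP.even_union (J := J) (by omega)) using 1
        ext i
        have := hh (P i); have := hp i
        simp only [Finset.mem_symmDiff, mem_res, mem_tetUnion, hJ, Finset.mem_filter,
          Finset.mem_univ, true_and, sextetMap, tetSign]
        split_ifs <;> omega
      · rw [hsum]; have := hh 0; have := tetSum_even hP hx 0; omega

/-- The lattice automorphism attached to a sextet. -/
noncomputable def sextetElt : Co0 :=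
  mkCo0 (sextetMap P) (sextetMap P) (fun _ hx => sextetMap_mem hP hx)
    (fun _ hx => sextetMap_mem hP hx) (fun _ hx => sextetMap_sq hP hx)
    (fun _ hx => sextetMap_sq hP hx) (fun _ hx _ _ => sextetMap_add hP hx)
    (fun _ hx => sqNorm_sextetMap hP hx)

theorem sextetElt_smul (v : leechLattice) : vec (sextetElt hP • v) = sextetMap P (vec v) := rfl

end Cfsg.Agent.Lib.Leech
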