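import Mathlib

/-!
Counting integer tuples with prescribed coordinate values, total weight and residue of the sum,
by a table recursion that the kernel evaluates quickly.
-/

set_option autoImplicit false

namespace Cfsg.Agent.Lib.Leech

open Finset

/-- Table entry. -/
def tabGet (t : List (List ℕ)) (M r : ℕ) : ℕ := (t.getD M []).getD r 0

/-- One more coordinate. -/
def tabStep (w : ℤ → ℕ) (m Mmax : ℕ) (vals : List ℤ) (t : List (List ℕ)) : List (List ℕ) :=
  (List.range (Mmax + 1)).map fun M => (List.range m).map fun r : ℕ =>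
    (vals.map fun v => if w v ≤ M then tabGet t (M - w v) (((r : ℤ) - v) % (m : ℤ)).toNat else 0).sum

/-- The table for a list of coordinates. -/
def tab (w : ℤ → ℕ) (m Mmax : ℕ) : List (List ℤ) → List (List ℕ)
  | [] => (List.range (Mmax + 1)).map fun M => (List.range m).map fun r =>
      if M = 0 ∧ r = 0 then 1 else 0
  | vals :: rest => tabStep w m Mmax vals (tab w m Mmax rest)

theorem tabGet_map (m Mmax : ℕ) (f : ℕ → ℕ → ℕ) {M r : ℕ} (hM : M ≤ Mmax) (hr : r < m) :
    tabGet ((List.range (Mmax + 1)).map fun M => (List.range m).map (f M)) M r = f M r := by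
  simp [tabGet, List.getD_eq_getElem?_getD, Nat.lt_succ_of_le hM, hr]

/-- The tuples that are counted. -/
def tuples (w : ℤ → ℕ) (m : ℕ) {n : ℕ} (V : Fin n → List ℤ) (M r : ℕ) : Finset (Fin n → ℤ) :=
  (Fintype.piFinset fun i => (V i).toFinset).filter
    fun x => (∑ i, w (x i)) = M ∧ (∑ i, x i) % (m : ℤ) = r

theorem card_tuples (w : ℤ → ℕ) (m Mmax : ℕ) {n : ℕ} :
    ∀ (V : Fin n → List ℤ), (∀ i, (V i).Nodup) → ∀ M r : ℕ, M ≤ Mmax → r < m →
      (tuples w m V M r).card = tabGet (tab w m Mmax (List.ofFn V)) M r := by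
  induction n with
  | zero =>
    intro V _ M r hM hr
    rw [List.ofFn_zero, tab, tabGet_map m Mmax (fun M r => if M = 0 ∧ r = 0 then 1 else 0) hM hr]
    simp only [tuples, Finset.card_filter]
    rw [show (Fintype.piFinset fun i => (V i).toFinset) = {Fin.elim0} by
      ext x; simp [funext_iff]]
    rw [Finset.sum_singleton]
    simp only [Finset.univ_eq_empty, Finset.sum_empty, Int.zero_emod]
    congr 1
    apply propext
    omega
  | succ n ih =>
    intro V hnd M r hM hr
    rw [List.ofFn_succ, tab, tabStep, tabGet_map m Mmax (fun M r => ((V 0).map fun v =>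
      if w v ≤ M then tabGet (tab w m Mmax (List.ofFn fun i => V i.succ)) (M - w v)
        (((r : ℤ) - v) % (m : ℤ)).toNat else 0).sum) hM hr,
      ← List.sum_toFinset _ (hnd 0)]
    rw [Finset.card_eq_sum_card_fiberwise (f := fun x : Fin (n + 1) → ℤ => x 0)
      (t := (V 0).toFinset) (fun x hx => by
        simp only [tuples, Finset.mem_coe, Finset.mem_filter, Fintype.mem_piFinset] at hx
        exact hx.1 0)]
    refine Finset.sum_congr rfl fun v hv => ?_
    have hm0 : (0 : ℤ) < m := by omega
    split_ifs with hw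
    · have hr' : (((r : ℤ) - v) % (m : ℤ)).toNat < m := by
        have := Int.emod_lt_of_pos ((r : ℤ) - v) hm0
        have := Int.emod_nonneg ((r : ℤ) - v) hm0.ne'
        omega
      rw [← ih (fun i => V i.succ) (fun i => hnd _) _ _ (by omega) hr']
      have hcast : (((((r : ℤ) - v) % (m : ℤ)).toNat : ℕ) : ℤ) = ((r : ℤ) - v) % (m : ℤ) :=
        Int.toNat_of_nonneg (Int.emod_nonneg _ hm0.ne')
      refine Finset.card_bij' (fun x _ => Fin.tail x) (fun y _ => Fin.cons v y) ?_ ?_ ?_ ?_
      · intro x hx
        simp only [tuples, Finset.mem_filter, Fintype.mem_piFinset] at hx ⊢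
        obtain ⟨⟨h1, h2, h3⟩, rfl⟩ := hx
        rw [Fin.sum_univ_succ] at h2 h3
        refine ⟨fun i => h1 i.succ, by simp only [Fin.tail]; omega, ?_⟩
        rw [hcast]
        simp only [Fin.tail]
        rw [← h3, Int.emod_sub_emod, add_sub_cancel_left]
      · intro y hy
        simp only [tuples, Finset.mem_filter, Fintype.mem_piFinset] at hy ⊢
        obtain ⟨h1, h2, h3⟩ := hy
        refine ⟨⟨fun i => ?_, ?_, ?_⟩, by simp⟩
        · refine Fin.cases ?_ (fun j => ?_) i <;> simp [h1, List.mem_toFinset.mp hv]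
        · simp [Fin.sum_univ_succ]; omega
        · rw [hcast] at h3
          rw [Fin.sum_univ_succ]
          simp only [Fin.cons_zero, Fin.cons_succ]
          rw [Int.add_emod, h3, ← Int.add_emod, add_sub_cancel]
          exact Int.emod_eq_of_lt (by omega) (by omega)
      · intro x hx
        simp only [Finset.mem_filter] at hx
        rw [← hx.2]
        exact Fin.cons_self_tail x
      · intro y _; simp
    · rw [Finset.card_eq_zero, Finset.filter_eq_empty_iff]
      intro x hx hxv
      simp only [tuples, Finset.mem_filter] at hx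
      rw [Fin.sum_univ_succ, hxv] at hx
      omega

/-- Two alphabets, chosen by membership in a set. -/
theorem card_two_alphabets {α : Type*} [Fintype α] [DecidableEq α] (w : ℤ → ℕ) (m Mmax : ℕ)
    (s : Finset α) {V0 V1 : List ℤ} (h0 : V0.Nodup) (h1 : V1.Nodup) {M r : ℕ} (hM : M ≤ Mmax)
    (hr : r < m) {k l : ℕ} (hk : s.card = k) (hl : sᶜ.card = l) :
    ((Fintype.piFinset fun i => if i ∈ s then V1.toFinset else V0.toFinset).filter
      fun x : α → ℤ => (∑ i, w (x i)) = M ∧ (∑ i, x i) % (m : ℤ) = r).card =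
      tabGet (tab w m Mmax (List.replicate k V1 ++ List.replicate l V0)) M r := by
  let e : Fin (k + l) ≃ α := finSumFinEquiv.symm.trans
    ((Equiv.sumCongr (s.equivFinOfCardEq hk).symm
      ((sᶜ.equivFinOfCardEq hl).symm.trans (Equiv.subtypeEquivRight (by simp)))).trans
        (Equiv.sumCompl (· ∈ s)))
  let V : Fin (k + l) → List ℤ := Fin.append (fun _ => V1) (fun _ => V0)
  have hV : List.ofFn V = List.replicate k V1 ++ List.replicate l V0 := by
    rw [List.ofFn_fin_append, List.ofFn_const, List.ofFn_const]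
  have hVs : ∀ i, (V i).toFinset = if e i ∈ s then V1.toFinset else V0.toFinset := by
    intro i
    refine Fin.addCases (fun a => ?_) (fun b => ?_) i
    · have : e (Fin.castAdd l a) ∈ s := by simp [e]
      simp [V, this]
    · have : e (Fin.natAdd k b) ∉ s := by
        have h := ((sᶜ.equivFinOfCardEq hl).symm b).2
        simpa [e] using Finset.mem_compl.mp h
      simp [V, this]
  have hnd : ∀ i, (V i).Nodup := by
    intro i
    refine Fin.addCases (fun a => ?_) (fun b => ?_) i <;> simp [V, h0, h1]
  rw [← hV, ← card_tuples w m Mmax V hnd M r hM hr]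
  refine Finset.card_bij' (fun x _ => x ∘ e) (fun y _ => y ∘ e.symm) ?_ ?_ ?_ ?_
  · intro x hx
    simp only [tuples, Finset.mem_filter, Fintype.mem_piFinset, Function.comp_apply] at hx ⊢
    rw [Equiv.sum_comp e (fun i => w (x i)), Equiv.sum_comp e x]
    exact ⟨fun i => (hVs i).symm ▸ hx.1 (e i), hx.2⟩
  · intro y hy
    simp only [tuples, Finset.mem_filter, Fintype.mem_piFinset, Function.comp_apply] at hy ⊢
    rw [Equiv.sum_comp e.symm (fun i => w (y i)), Equiv.sum_comp e.symm y]
    refine ⟨fun i => ?_, hy.2⟩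
    have := hy.1 (e.symm i)
    rwa [hVs, Equiv.apply_symm_apply] at this
  · intro x _; ext i; simp
  · intro y _; ext i; simp

end Cfsg.Agent.Lib.Leech
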