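import Cfsg.Agent.Lib.Leech.MinIndex
import Cfsg.Agent.Lib.Leech.CountDP
import Cfsg.Agent.Lib.GolayUnique.Golay

/-!
Counting the lattice vectors of small norm.
-/

set_option autoImplicit false

namespace Cfsg.Agent.Lib.Leech

open Finset GolayUnique

/-- Weight of a half coordinate. -/
def evenW (y : ℤ) : ℕ := y.natAbs ^ 2

/-- Weight of `k` when the coordinate is `±(1 + 4 k)`. -/
def oddW (k : ℤ) : ℕ := (k + 2 * k ^ 2).toNat

theorem oddW_cast (k : ℤ) : (oddW k : ℤ) = k + 2 * k ^ 2 := by
  rw [oddW, Int.toNat_of_nonneg]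
  rcases (by omega : 0 ≤ k ∨ k ≤ -1) with h | h <;> nlinarith

theorem evenW_cast (y : ℤ) : (evenW y : ℤ) = y ^ 2 := by
  simp [evenW]

/-- The signless parameter of an odd coordinate. -/
def oddK (a : ℤ) : ℤ := ((if a % 4 = 1 then a else -a) - 1) / 4

theorem card_weight (n : ℕ) :
    (golaySets.filter fun s => s.card = n).card = (Golay.masksOfWeight n).length := by
  rw [← Golay.ncard_wordsOfWeight, ← Set.ncard_coe_finset]
  congr 1
  ext s
  simp only [Finset.coe_filter, mem_golaySets, Set.mem_ofPred_eq]
  exact Iff.rfl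

theorem sum_by_weight (f : ℕ → ℕ) :
    ∑ s ∈ golaySets, f s.card = f 0 + 759 * f 8 + 2576 * f 12 + 759 * f 16 + f 24 := by
  have hmap : ∀ s ∈ golaySets, s.card ∈ ({0, 8, 12, 16, 24} : Finset ℕ) := fun s hs => by
    simpa using (mem_golaySets.mp hs).weights
  rw [← Finset.sum_fiberwise_of_maps_to hmap (fun s => f s.card),
    Finset.sum_congr rfl (fun n _ => (show (∑ s ∈ golaySets.filter (fun s => s.card = n), f s.card)
      = (Golay.masksOfWeight n).length * f n by
      rw [Finset.sum_congr rfl fun s hs => by rw [(Finset.mem_filter.mp hs).2], Finset.sum_const,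
        card_weight, smul_eq_mul]))]
  have e0 : (Golay.masksOfWeight 0).length = 1 := by decide +kernel
  have e8 : (Golay.masksOfWeight 8).length = 759 := by decide +kernel
  have e12 : (Golay.masksOfWeight 12).length = 2576 := by decide +kernel
  have e16 : (Golay.masksOfWeight 16).length = 759 := by decide +kernel
  have e24 : (Golay.masksOfWeight 24).length = 1 := by decide +kernel
  simp [Finset.sum_insert, e0, e8, e12, e16, e24]
  omega

theorem compl_card {s : Finset GolayPt} : sᶜ.card = 24 - s.card := by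
  rw [Finset.card_compl, card_pt]

/-- Even vectors of a given norm with prescribed halved coordinates. -/
theorem ncard_even {V0 V1 : List ℤ} (n0 : V0.Nodup) (n1 : V1.Nodup)
    (p0 : ∀ v ∈ V0, v % 2 = 0) (p1 : ∀ v ∈ V1, v % 2 = 1) {M Mmax : ℕ} (hM : M ≤ Mmax) :
    {x : GolayPt → ℤ | EvenVec x ∧ sqNorm x = 4 * (M : ℤ) ∧
        ∀ i, x i / 2 ∈ (if i ∈ res 2 x then V1 else V0)}.ncard =
      ∑ s ∈ golaySets, tabGet (tab evenW 4 Mmax
        (List.replicate s.card V1 ++ List.replicate (24 - s.card) V0)) M 0 := by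
  classical
  let T : Finset GolayPt → Finset (GolayPt → ℤ) := fun s =>
    (Fintype.piFinset fun i => if i ∈ s then V1.toFinset else V0.toFinset).filter
      fun y => (∑ i, evenW (y i)) = M ∧ (∑ i, y i) % ((4 : ℕ) : ℤ) = ((0 : ℕ) : ℤ)
  have hT : ∀ s, (T s).card = tabGet (tab evenW 4 Mmax
      (List.replicate s.card V1 ++ List.replicate (24 - s.card) V0)) M 0 := fun s =>
    card_two_alphabets evenW 4 Mmax s n0 n1 hM (by norm_num) rfl compl_card
  have hpar : ∀ s, ∀ y ∈ T s, s = res 2 (fun i => 2 * y i) := by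
    intro s y hy
    simp only [T, Finset.mem_filter, Fintype.mem_piFinset] at hy
    ext i
    have := hy.1 i
    rw [mem_res]
    split_ifs at this with h
    · have := p1 _ (List.mem_toFinset.mp this)
      exact iff_of_true h (by omega)
    · have := p0 _ (List.mem_toFinset.mp this)
      exact iff_of_false h (by omega)
  have hset : {x : GolayPt → ℤ | EvenVec x ∧ sqNorm x = 4 * (M : ℤ) ∧
        ∀ i, x i / 2 ∈ (if i ∈ res 2 x then V1 else V0)} =
      ↑((golaySets.biUnion T).image fun y : GolayPt → ℤ => fun i => 2 * y i) := by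
    ext x
    simp only [Finset.coe_image, Set.mem_image, Finset.mem_coe, Finset.mem_biUnion,
      Set.mem_ofPred_eq]
    constructor
    · rintro ⟨⟨hp, hc, hs⟩, hn, hv⟩
      have hx : ∀ i, x i = 2 * (x i / 2) := fun i => by have := hp i; omega
      refine ⟨fun i => x i / 2, ⟨res 2 x, mem_golaySets.mpr hc, ?_⟩, funext fun i => (hx i).symm⟩
      simp only [T, Finset.mem_filter, Fintype.mem_piFinset]
      refine ⟨fun i => ?_, ?_, ?_⟩
      · have := hv i
        split_ifs at this ⊢ <;> exact List.mem_toFinset.mpr this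
      · have : (∑ i, ((evenW (x i / 2) : ℕ) : ℤ)) * 4 = sqNorm x := by
          rw [Finset.sum_mul, sqNorm]
          refine Finset.sum_congr rfl fun i _ => ?_
          rw [evenW_cast]
          conv_rhs => rw [hx i]
          ring
        rw [← Nat.cast_sum, hn] at this
        omega
      · have : ∑ i, x i = 2 * ∑ i, x i / 2 := by
          rw [Finset.mul_sum]; exact Finset.sum_congr rfl fun i _ => hx i
        push_cast
        omega
    · rintro ⟨y, ⟨s, hs, hy⟩, rfl⟩
      have hsy := hpar s y hy
      simp only [T, Finset.mem_filter, Fintype.mem_piFinset] at hy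
      refine ⟨⟨fun i => by simp only; omega, hsy ▸ mem_golaySets.mp hs, ?_⟩, ?_, fun i => ?_⟩
      · have := hy.2.2
        push_cast at this
        rw [← Finset.mul_sum]; omega
      · rw [← hy.2.1, Nat.cast_sum, Finset.mul_sum, sqNorm]
        exact Finset.sum_congr rfl fun i _ => by rw [evenW_cast]; ring
      · have := hy.1 i
        rw [← hsy, Int.mul_ediv_cancel_left _ two_ne_zero]
        split_ifs at this ⊢ <;> exact List.mem_toFinset.mp this
  rw [hset, Set.ncard_coe_finset, Finset.card_image_of_injective _ (fun y y' e => funext fun i => by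
      have h : 2 * y i = 2 * y' i := congrFun e i
      omega),
    Finset.card_biUnion (fun s _ t _ hne => Finset.disjoint_left.mpr fun y hys hyt =>
      hne ((hpar s y hys).trans (hpar t y hyt).symm))]
  exact Finset.sum_congr rfl fun s _ => hT s

/-- Odd vectors of a given norm with prescribed parameters. -/
theorem ncard_odd {V : List ℤ} (nV : V.Nodup) {M Mmax : ℕ} (hM : M ≤ Mmax) :
    {x : GolayPt → ℤ | OddVec x ∧ sqNorm x = 24 + 8 * (M : ℤ) ∧ ∀ i, oddK (x i) ∈ V}.ncard =
      4096 * tabGet (tab oddW 2 Mmax (List.replicate 24 V)) M 1 := by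
  classical
  let T : Finset (GolayPt → ℤ) :=
    (Fintype.piFinset fun i : GolayPt => if i ∈ (∅ : Finset GolayPt) then V.toFinset else V.toFinset).filter
      fun k => (∑ i, oddW (k i)) = M ∧ (∑ i, k i) % ((2 : ℕ) : ℤ) = ((1 : ℕ) : ℤ)
  have hT : T.card = tabGet (tab oddW 2 Mmax (List.replicate 24 V)) M 1 := by
    have := card_two_alphabets oddW 2 Mmax (∅ : Finset GolayPt) nV nV (M := M) (r := 1) hM
      (by norm_num) (k := 0) (l := 24) rfl (by rw [compl_card]; rfl)
    simpa only [List.replicate_zero, List.nil_append] using this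
  let mk : Finset GolayPt × (GolayPt → ℤ) → (GolayPt → ℤ) := fun p i =>
    if i ∈ p.1 then 1 + 4 * p.2 i else -(1 + 4 * p.2 i)
  have hres : ∀ p, res 1 (mk p) = p.1 := by
    intro p
    ext i
    simp only [mem_res, mk]
    split_ifs with h
    · exact iff_of_true (by omega) h
    · exact iff_of_false (by omega) h
  have hk : ∀ p i, oddK (mk p i) = p.2 i := by
    intro p i
    unfold oddK
    simp only [mk]
    split_ifs <;> omega
  have hsum : ∀ D : Finset GolayPt, IsCode D → ∀ z : GolayPt → ℤ, (∀ i, z i % 4 = 1) →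
      (∑ i, (if i ∈ D then z i else -z i)) % 8 = (∑ i, z i) % 8 := by
    intro D hD z hz
    have e := sum_neg_on z Dᶜ
    simp only [Finset.mem_compl, ite_not] at e
    have h4 : (4 : ℤ) ∣ ∑ i ∈ Dᶜ, (z i - 1) :=
      Finset.dvd_sum fun i _ => by have := hz i; omega
    rw [Finset.sum_sub_distrib, Finset.sum_const, nsmul_eq_mul, mul_one, compl_card] at h4
    have := hD.four_dvd
    have := Finset.card_le_univ D
    rw [card_pt] at this
    rw [e]
    omega
  have hset : {x : GolayPt → ℤ | OddVec x ∧ sqNorm x = 24 + 8 * (M : ℤ) ∧ ∀ i, oddK (x i) ∈ V} =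
      ↑((golaySets ×ˢ T).image mk) := by
    ext x
    simp only [Finset.coe_image, Set.mem_image, Finset.mem_coe, Finset.mem_product,
      Set.mem_ofPred_eq]
    constructor
    · rintro ⟨⟨hp, hc, hs⟩, hn, hv⟩
      set k := fun i => oddK (x i) with hkdef
      have hx : mk (res 1 x, k) = x := by
        funext i
        have := hp i
        simp only [mk, hkdef, oddK, mem_res]
        split_ifs <;> omega
      refine ⟨(res 1 x, k), ⟨mem_golaySets.mpr hc, ?_⟩, hx⟩
      simp only [T, Finset.mem_filter, Fintype.mem_piFinset, ite_self]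
      refine ⟨fun i => List.mem_toFinset.mpr (hv i), ?_, ?_⟩
      · have : ∑ i, (1 + 8 * ((oddW (k i) : ℕ) : ℤ)) = sqNorm x := by
          rw [sqNorm]
          refine Finset.sum_congr rfl fun i _ => ?_
          conv_rhs => rw [← hx]
          simp only [mk, oddW_cast]
          split_ifs <;> ring
        rw [Finset.sum_add_distrib, ← Finset.mul_sum, ← Nat.cast_sum, hn, Finset.sum_const,
          Finset.card_univ, card_pt, nsmul_eq_mul, mul_one] at this
        omega
      · have h := hsum (res 1 x) hc (fun i => 1 + 4 * k i) (fun i => by omega)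
        rw [Finset.sum_congr rfl (fun i _ => show (if i ∈ res 1 x then (1 + 4 * k i) else
          -(1 + 4 * k i)) = x i from congrFun hx i), hs, Finset.sum_add_distrib, ← Finset.mul_sum,
          Finset.sum_const, Finset.card_univ, card_pt, nsmul_eq_mul, mul_one] at h
        push_cast
        omega
    · rintro ⟨⟨D, k⟩, ⟨hD, hkT⟩, rfl⟩
      simp only [T, Finset.mem_filter, Fintype.mem_piFinset, ite_self] at hkT
      refine ⟨⟨fun i => ?_, ?_, ?_⟩, ?_, fun i => ?_⟩
      · simp only [mk]; split_ifs <;> omega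
      · rw [hres]; exact mem_golaySets.mp hD
      · have h := hsum D (mem_golaySets.mp hD) (fun i => 1 + 4 * k i) (fun i => by omega)
        rw [Finset.sum_add_distrib (f := fun _ => (1 : ℤ)), ← Finset.mul_sum,
          Finset.sum_const, Finset.card_univ, card_pt, nsmul_eq_mul, mul_one] at h
        have := hkT.2.2
        push_cast at this
        simp only [mk]
        omega
      · rw [← hkT.2.1, Nat.cast_sum, Finset.mul_sum, sqNorm]
        have : ∀ i, mk (D, k) i ^ 2 = 1 + 8 * ((oddW (k i) : ℕ) : ℤ) := fun i => by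
          simp only [mk, oddW_cast]; split_ifs <;> ring
        rw [Finset.sum_congr rfl (fun i _ => this i), Finset.sum_add_distrib, Finset.sum_const,
          Finset.card_univ, card_pt, nsmul_eq_mul, mul_one]
        rfl
      · rw [hk]; exact List.mem_toFinset.mp (hkT.1 i)
  rw [hset, Set.ncard_coe_finset, Finset.card_image_of_injective _ (fun p q e => Prod.ext
      (by rw [← hres p, e, hres q]) (funext fun i => by rw [← hk p i, e, hk q i])),
    Finset.card_product, card_golaySets, hT]

/-- Halved even coordinates of vectors of norm at most 64. -/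
def V0full : List ℤ := [0, 2, -2, 4, -4]

/-- Halved `2 mod 4` coordinates of vectors of norm at most 64. -/
def V1full : List ℤ := [1, -1, 3, -3]

/-- Parameters of the coordinates of odd vectors of norm at most 64. -/
def Vkfull : List ℤ := [0, -1, 1]

theorem sq_le_sqNorm (x : GolayPt → ℤ) (i : GolayPt) : x i ^ 2 ≤ sqNorm x :=
  Finset.single_le_sum (fun k _ => sq_nonneg (x k)) (Finset.mem_univ i)

theorem ncard_shell {M16 : ℕ} (hM : M16 ≤ 4) (h2 : 2 ≤ M16) :
    {x : GolayPt → ℤ | x ∈ leechLattice ∧ sqNorm x = 16 * (M16 : ℤ)}.ncard =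
      (∑ s ∈ golaySets, tabGet (tab evenW 4 16
        (List.replicate s.card V1full ++ List.replicate (24 - s.card) V0full)) (4 * M16) 0) +
      4096 * tabGet (tab oddW 2 5 (List.replicate 24 Vkfull)) (2 * M16 - 3) 1 := by
  have hA := ncard_even (V0 := V0full) (V1 := V1full) (by decide) (by decide) (by decide)
    (by decide) (M := 4 * M16) (Mmax := 16) (by omega)
  have hB := ncard_odd (V := Vkfull) (by decide) (M := 2 * M16 - 3) (Mmax := 5) (by omega)
  rw [← hA, ← hB]
  have hsplit : {x : GolayPt → ℤ | x ∈ leechLattice ∧ sqNorm x = 16 * (M16 : ℤ)} =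
      {x : GolayPt → ℤ | EvenVec x ∧ sqNorm x = 4 * ((4 * M16 : ℕ) : ℤ) ∧
        ∀ i, x i / 2 ∈ (if i ∈ res 2 x then V1full else V0full)} ∪
      {x : GolayPt → ℤ | OddVec x ∧ sqNorm x = 24 + 8 * ((2 * M16 - 3 : ℕ) : ℤ) ∧
        ∀ i, oddK (x i) ∈ Vkfull} := by
    ext x
    simp only [Set.mem_union, Set.mem_ofPred_eq, mem_leech_iff]
    have hbound : sqNorm x = 16 * (M16 : ℤ) → ∀ i, -8 ≤ x i ∧ x i ≤ 8 := by
      intro hn i
      have := sq_le_sqNorm x i
      constructor <;> nlinarith
    constructor
    · rintro ⟨h | h, hn⟩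
      · refine Or.inl ⟨h, by push_cast; omega, fun i => ?_⟩
        have hb := hbound hn i
        have := h.1 i
        simp only [mem_res]
        split_ifs with h2 <;> simp [V1full, V0full] <;> omega
      · refine Or.inr ⟨h, by omega, fun i => ?_⟩
        have hb := sq_le_sqNorm x i
        have hp := h.1 i
        have hb2 : x i ^ 2 ≤ 41 := by
          have e : sqNorm x = x i ^ 2 + ∑ j ∈ univ.erase i, x j ^ 2 :=
            (Finset.add_sum_erase univ (fun j => x j ^ 2) (Finset.mem_univ i)).symm
          have h23 : ∑ _j ∈ univ.erase i, (1 : ℤ) ≤ ∑ j ∈ univ.erase i, x j ^ 2 := by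
            refine Finset.sum_le_sum fun j _ => ?_
            have := h.1 j
            rcases (by omega : 1 ≤ x j ∨ x j ≤ -1) with h' | h' <;> nlinarith
          rw [Finset.sum_const, Finset.card_erase_of_mem (Finset.mem_univ i), Finset.card_univ,
            card_pt, nsmul_eq_mul, mul_one] at h23
          omega
        have h8 : -7 ≤ x i ∧ x i ≤ 7 := by
          have := hbound hn i
          omega
        simp only [oddK, Vkfull, List.mem_cons, List.not_mem_nil, or_false]
        obtain ⟨hl, hu⟩ := h8
        generalize x i = a at hp hb2 hl hu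
        interval_cases a <;> simp_all
    · rintro (⟨h, hn, -⟩ | ⟨h, hn, -⟩)
      · exact ⟨Or.inl h, by push_cast at hn; omega⟩
      · exact ⟨Or.inr h, by omega⟩
  have fA : {x : GolayPt → ℤ | EvenVec x ∧ sqNorm x = 4 * ((4 * M16 : ℕ) : ℤ) ∧
      ∀ i, x i / 2 ∈ (if i ∈ res 2 x then V1full else V0full)}.Finite := by
    apply Set.finite_of_ncard_ne_zero
    rw [hA, sum_by_weight (fun c => tabGet (tab evenW 4 16
      (List.replicate c V1full ++ List.replicate (24 - c) V0full)) (4 * M16) 0)]
    interval_cases M16 <;> decide +kernel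
  have fB : {x : GolayPt → ℤ | OddVec x ∧ sqNorm x = 24 + 8 * ((2 * M16 - 3 : ℕ) : ℤ) ∧
      ∀ i, oddK (x i) ∈ Vkfull}.Finite := by
    apply Set.finite_of_ncard_ne_zero
    rw [hB]
    interval_cases M16 <;> decide +kernel
  rw [hsplit, Set.ncard_union_eq ?_ fA fB]
  exact Set.disjoint_left.mpr fun x hx hy => by
    have := hx.1.1 none
    have := hy.1.1 none
    omega

theorem ncard_norm32 :
    {x : GolayPt → ℤ | x ∈ leechLattice ∧ sqNorm x = 32}.ncard = 196560 := by
  have h := ncard_shell (M16 := 2) (by norm_num) le_rfl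
  rw [sum_by_weight (fun c => tabGet (tab evenW 4 16
    (List.replicate c V1full ++ List.replicate (24 - c) V0full)) (4 * 2) 0)] at h
  norm_num at h
  rw [h]
  decide +kernel

theorem ncard_norm48 :
    {x : GolayPt → ℤ | x ∈ leechLattice ∧ sqNorm x = 48}.ncard = 16773120 := by
  have h := ncard_shell (M16 := 3) (by norm_num) (by norm_num)
  rw [sum_by_weight (fun c => tabGet (tab evenW 4 16
    (List.replicate c V1full ++ List.replicate (24 - c) V0full)) (4 * 3) 0)] at h
  norm_num at h
  rw [h]
  decide +kernel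

theorem ncard_norm64 :
    {x : GolayPt → ℤ | x ∈ leechLattice ∧ sqNorm x = 64}.ncard = 398034000 := by
  have h := ncard_shell (M16 := 4) le_rfl (by norm_num)
  rw [sum_by_weight (fun c => tabGet (tab evenW 4 16
    (List.replicate c V1full ++ List.replicate (24 - c) V0full)) (4 * 4) 0)] at h
  norm_num at h
  rw [h]
  decide +kernel

end Cfsg.Agent.Lib.Leech
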