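import Cfsg.Agent.Lib.Leech.Transitive
import Cfsg.Agent.Lib.Leech.Shells

/-!
The monomial subgroup as the stabiliser of the standard cross, and the order of the automorphism
group.
-/

set_option autoImplicit false

namespace Cfsg.Agent.Lib.Leech

open Finset GolayUnique

theorem eightE_apply (i k : GolayPt) : vec (eightE i) k = if k = i then 8 else 0 := by
  simp [eightE, vec, Pi.single_apply]

theorem eightE_inj {i k : GolayPt} (h : eightE i = eightE k ∨ eightE i = -eightE k) : i = k := by
  by_contra hne
  rcases h with h | h <;> have := congrFun (congrArg vec h) i <;>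
    simp [eightE, vec, hne] at this

/-- A norm 64 vector congruent to some `8 e i` is some `± 8 e j`. -/
theorem eight_congr {i : GolayPt} {w z : leechLattice} (hn : sqNorm (vec w) = 64)
    (h : eightE i - w = (2 : ℤ) • z) : ∃ j, w = eightE j ∨ w = -eightE j := by
  have hz : ∀ k, vec w k = (if k = i then 8 else 0) - 2 * vec z k := fun k => by
    have := congrFun (congrArg vec h) k
    simp [eightE, Pi.single_apply, vec] at this
    simp only [vec]
    omega
  have hb : ∀ k, -8 ≤ vec w k ∧ vec w k ≤ 8 := fun k =>
    coord_le (N := 64) hn.le (by norm_num) (by norm_num)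
  by_cases h8 : ∃ j, vec w j = 8 ∨ vec w j = -8
  · obtain ⟨j, hj⟩ := h8
    exact ⟨j, eq_single_of_eight hn hj⟩
  push Not at h8
  exfalso
  rcases mem_leech_iff.mp z.2 with he | ho
  · have hval : ∀ k, vec w k = 0 ∨ vec w k = 4 ∨ vec w k = -4 := fun k => by
      have := hz k
      have := he.1 k
      have := hb k
      have := h8 k
      simp only [vec] at *
      split_ifs at * <;> omega
    have hsupp : res 2 (vec z) = univ.filter fun k => vec w k ≠ 0 := by
      ext k
      simp only [mem_res, Finset.mem_filter, Finset.mem_univ, true_and]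
      have := hz k
      have := he.1 k
      have := hval k
      simp only [vec] at *
      split_ifs at * <;> omega
    have hcount : sqNorm (vec w) = 16 * ((univ.filter fun k => vec w k ≠ 0).card : ℤ) := by
      rw [sqNorm, Finset.sum_congr rfl fun k _ => show vec w k ^ 2 =
        16 * (if vec w k ≠ 0 then 1 else 0) by
          rcases hval k with e | e | e <;> rw [e] <;> norm_num,
        ← Finset.mul_sum, Finset.sum_boole]
    have := he.2.1.weights
    rw [hsupp] at this
    omega
  · have h4 : 4 * ((univ : Finset GolayPt).card : ℤ) ≤ sqNorm (vec w) := by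
      rw [show (4 : ℤ) * ((univ : Finset GolayPt).card : ℤ) = ∑ _k : GolayPt, (4 : ℤ) by
        rw [Finset.sum_const, nsmul_eq_mul]; ring]
      refine Finset.sum_le_sum fun k _ => ?_
      have := hz k
      have := ho.1 k
      simp only [vec] at *
      rcases (by split_ifs at * <;> omega : 2 ≤ (w : GolayPt → ℤ) k ∨ (w : GolayPt → ℤ) k ≤ -2)
        with e | e <;> nlinarith
    rw [Finset.card_univ, card_pt, hn] at h4
    norm_num at h4

/-- Elements preserving the standard cross. -/
def Axis (g : Co0) : Prop := ∀ i, ∃ j, g • eightE i = eightE j ∨ g • eightE i = -eightE j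

theorem axis_of_one {g : Co0} {i j : GolayPt}
    (h : g • eightE i = eightE j ∨ g • eightE i = -eightE j) : Axis g := by
  intro k
  obtain ⟨z, hz⟩ : ∃ z : leechLattice, eightE i - eightE k = (2 : ℤ) • z :=
    ⟨⟨_, four_pm_mem (i := i) (j := k) 1 (-1) (by norm_num)⟩, by
      apply Subtype.ext
      funext l
      simp [eightE, Pi.single_apply]
      split_ifs <;> norm_num⟩
  have hn : sqNorm (vec (g • eightE k)) = 64 := by rw [norm_smul', sqNorm_eightE]
  rcases h with h | h
  · refine eight_congr (i := j) (z := g • z) hn ?_
    rw [← h, ← smul_sub', hz, smul_zsmul']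
  · refine eight_congr (i := j) (z := eightE j + g • z) hn ?_
    rw [smul_add, ← smul_zsmul', ← hz, smul_sub', h, two_zsmul]
    abel

theorem eight_apply_smul (g : Co0) (v : leechLattice) (j : GolayPt) :
    8 * vec (g • v) j = ∑ i, vec v i * vec (g • eightE i) j := by
  have h : (8 : ℤ) • (g • v) = ∑ i, vec v i • (g • eightE i) := by
    rw [← smul_zsmul', eight_smul_eq_sum, ← toHom_apply, map_sum]
    exact Finset.sum_congr rfl fun i _ => by rw [map_zsmul, toHom_apply]
  have h' := congrFun (congrArg vec h) j
  simpa [vec, AddSubgroup.val_finsetSum, Finset.sum_apply] using h'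

/-- Elements preserving the standard cross are monomial. -/
theorem exists_monomial {g : Co0} (hg : Axis g) :
    ∃ σ, ∃ hσ : σ ∈ M24, ∃ c, ∃ hc : IsCode c, g = monomial σ hσ c hc := by
  choose f hf using hg
  have hinj : Function.Injective f := by
    intro i k hik
    refine eightE_inj (i := i) (k := k) ?_
    rcases hf i with h1 | h1 <;> rcases hf k with h2 | h2 <;> rw [hik] at h1
    · exact Or.inl (smul_left_cancel g (h1.trans h2.symm))
    · exact Or.inr (smul_left_cancel g (by rw [h1, smul_neg', h2, neg_neg]))
    · exact Or.inr (smul_left_cancel g (by rw [h1, smul_neg', h2]))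
    · exact Or.inl (smul_left_cancel g (h1.trans h2.symm))
  set σ : Equiv.Perm GolayPt := Equiv.ofBijective f (Finite.injective_iff_bijective.mp hinj)
    with hσdef
  set c := univ.filter fun j => g • eightE (σ.symm j) = -eightE j with hcdef
  have hσf : ∀ i, σ i = f i := fun i => rfl
  have hsm : ∀ v : leechLattice, vec (g • v) = signedPerm σ c (vec v) := by
    intro v
    funext j
    have e := eight_apply_smul g v j
    have hfj : f (σ.symm j) = j := by rw [← hσf, Equiv.apply_symm_apply]
    rw [Finset.sum_eq_single (σ.symm j) (fun i _ hi => ?_)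
      (fun h => absurd (Finset.mem_univ _) h)] at e
    · simp only [signedPerm, hcdef, Finset.mem_filter, Finset.mem_univ, true_and]
      have h1 := hf (σ.symm j)
      rw [hfj] at h1
      split_ifs with hneg
      · rw [hneg] at e
        simp [eightE, vec] at e ⊢
        omega
      · rw [h1.resolve_right hneg] at e
        simp [eightE, vec] at e ⊢
        omega
    · have hne : j ≠ f i := fun h => hi (by rw [h, ← hσf, Equiv.symm_apply_apply])
      rcases hf i with h | h <;> rw [h] <;> simp [eightE, vec, hne]
  have hc : IsCode c := by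
    have hmem := mem_leech_iff.mp
      (g • (⟨oddBase none, oddBase_mem none⟩ : leechLattice)).2
    have h1 : ∀ j, vec (g • (⟨oddBase none, oddBase_mem none⟩ : leechLattice)) j % 4 =
        if j ∈ c then 3 else 1 := fun j => by
      rw [hsm]
      simp only [signedPerm, vec, oddBase]
      split_ifs <;> rfl
    rcases hmem with he | ho
    · exfalso
      have := he.1 none
      have := h1 none
      simp only [vec] at *
      split_ifs at * <;> omega
    · have e : res 1 (vec (g • (⟨oddBase none, oddBase_mem none⟩ : leechLattice))) = cᶜ := by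
        ext j
        rw [mem_res, h1, Finset.mem_compl]
        split_ifs with h <;> simp [h]
      have h2 := ho.2.1.compl
      rw [show res 1 ((g • (⟨oddBase none, oddBase_mem none⟩ : leechLattice) : leechLattice) :
        GolayPt → ℤ) = cᶜ from e, compl_compl] at h2
      exact h2
  have hσ : σ ∈ M24 := by
    refine mem_M24_of_isCode_map fun s hs => ?_
    set u : leechLattice := ⟨_, two_smul_code_mem hs⟩ with hu
    have h1 : ∀ j, vec (g • u) j % 4 = if σ.symm j ∈ s then 2 else 0 := fun j => by
      rw [hsm]
      simp only [signedPerm, vec, hu]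
      split_ifs <;> rfl
    rcases mem_leech_iff.mp (g • u).2 with he | ho
    · convert he.2.1 using 1
      ext j
      rw [Finset.mem_map_equiv, mem_res, show ((g • u : leechLattice) : GolayPt → ℤ) j % 4 = _
        from h1 j]
      split_ifs with h <;> simp [h]
    · exfalso
      have := ho.1 none
      have := h1 none
      simp only [vec] at *
      split_ifs at * <;> omega
  refine ⟨σ, hσ, c, hc, co0_ext fun i => Subtype.ext ?_⟩
  show vec (g • eightE i) = vec (monomial σ hσ c hc • eightE i)
  rw [hsm, monomial_smul]

theorem monomial_apply_eightE {σ : Equiv.Perm GolayPt} (hσ : σ ∈ M24) {c : Finset GolayPt}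
    (hc : IsCode c) (i : GolayPt) :
    monomial σ hσ c hc • eightE i = if σ i ∈ c then -eightE (σ i) else eightE (σ i) := by
  apply Subtype.ext
  funext k
  show signedPerm σ c (Pi.single i 8) k = _
  by_cases h : σ i ∈ c <;> simp only [h, if_true, if_false] <;>
    rcases eq_or_ne k (σ i) with rfl | hk <;>
    simp [signedPerm, eightE, Pi.single_apply, Equiv.symm_apply_eq, *]

theorem axis_monomial {σ : Equiv.Perm GolayPt} (hσ : σ ∈ M24) {c : Finset GolayPt}
    (hc : IsCode c) : Axis (monomial σ hσ c hc) := fun i => ⟨σ i, by
  rw [monomial_apply_eightE]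
  split_ifs
  · exact Or.inr rfl
  · exact Or.inl rfl⟩

/-- The stabiliser of the standard cross. -/
def crossGroup : Subgroup Co0 where
  carrier := {g | Axis g}
  one_mem' := fun i => ⟨i, Or.inl (one_smul _ _)⟩
  mul_mem' := fun {g h} hg hh i => by
    obtain ⟨j, hj⟩ := hh i
    obtain ⟨k, hk⟩ := hg j
    refine ⟨k, ?_⟩
    rcases hj with hj | hj <;> rcases hk with hk | hk <;>
      simp [mul_smul, hj, hk, smul_neg']
  inv_mem' := fun {g} hg => by
    obtain ⟨j, hj⟩ := hg none
    refine axis_of_one (i := j) (j := none) ?_
    rcases hj with hj | hj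
    · exact Or.inl (by rw [← hj, inv_smul_smul])
    · refine Or.inr ?_
      rw [← neg_neg (eightE j), ← hj, smul_neg', inv_smul_smul]

theorem mem_crossGroup {g : Co0} : g ∈ crossGroup ↔ Axis g := Iff.rfl

/-- Parametrisation of the monomial group. -/
noncomputable def monomialMap
    (p : M24 × {c : Finset GolayPt // IsCode c}) : crossGroup :=
  ⟨monomial p.1.1 p.1.2 p.2.1 p.2.2, axis_monomial p.1.2 p.2.2⟩

theorem monomialMap_bijective : Function.Bijective monomialMap := by
  constructor
  · rintro ⟨⟨σ, hσ⟩, ⟨c, hc⟩⟩ ⟨⟨σ', hσ'⟩, ⟨c', hc'⟩⟩ h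
    have h' : ∀ i, monomial σ hσ c hc • eightE i = monomial σ' hσ' c' hc' • eightE i :=
      fun i => by
        have := congrArg Subtype.val h
        simp only [monomialMap] at this
        rw [this]
    simp only [monomial_apply_eightE] at h'
    have hs : σ = σ' := Equiv.ext fun i => by
      refine eightE_inj ?_
      have := h' i
      split_ifs at this
      · exact Or.inl (neg_injective this)
      · exact Or.inr (by rw [← this, neg_neg])
      · exact Or.inr this
      · exact Or.inl this
    subst hs
    have hcc : c = c' := by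
      ext j
      obtain ⟨i, rfl⟩ := σ.surjective j
      have := h' i
      have hne : eightE (σ i) ≠ -eightE (σ i) := fun e => by
        have := congrFun (congrArg vec e) (σ i)
        simp [eightE, vec] at this
      by_cases h1 : σ i ∈ c <;> by_cases h2 : σ i ∈ c' <;> simp [h1, h2] at this ⊢
      · exact hne this.symm
      · exact hne this
    subst hcc
    rfl
  · rintro ⟨g, hg⟩
    obtain ⟨σ, hσ, c, hc, rfl⟩ := exists_monomial hg
    exact ⟨(⟨σ, hσ⟩, ⟨c, hc⟩), rfl⟩

theorem card_crossGroup : Nat.card crossGroup = 4096 * 244823040 := by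
  rw [← Nat.card_eq_of_bijective _ monomialMap_bijective, Nat.card_prod, Golay.card_M24,
    Nat.card_congr (Equiv.subtypeEquivRight fun c => (mem_golaySets (s := c)).symm),
    Nat.card_eq_finsetCard, card_golaySets, mul_comm]

/-- The signed axes. -/
def axisVec (p : GolayPt × Bool) : leechLattice := if p.2 then eightE p.1 else -eightE p.1

theorem axisVec_injective : Function.Injective axisVec := by
  rintro ⟨i, a⟩ ⟨k, b⟩ h
  have hik : i = k := eightE_inj (by
    cases a <;> cases b <;> simp [axisVec] at h
    · exact Or.inl h
    · exact Or.inr (by rw [← h, neg_neg])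
    · exact Or.inr h
    · exact Or.inl h)
  subst hik
  have hne : eightE i ≠ -eightE i := fun e => by
    have := congrFun (congrArg vec e) i
    simp [eightE, vec] at this
  cases a <;> cases b <;> simp [axisVec] at h ⊢
  · exact hne h.symm
  · exact hne h

theorem orbit_cross : MulAction.orbit crossGroup (eightE none) = Set.range axisVec := by
  ext w
  constructor
  · rintro ⟨⟨g, hg⟩, rfl⟩
    obtain ⟨j, hj | hj⟩ := hg none
    · exact ⟨(j, true), by simp [axisVec, ← hj]⟩
    · exact ⟨(j, false), by simp [axisVec, ← hj]⟩
  · rintro ⟨⟨j, b⟩, rfl⟩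
    obtain ⟨σ, hσ, hσj⟩ := M24_transitive none j
    cases b
    · refine ⟨⟨negOne * monomial σ hσ ∅ isCode_empty,
        mul_mem (s := crossGroup) (axis_of_one (i := none) (j := none) (Or.inr (negOne_smul _)))
          (axis_monomial hσ isCode_empty)⟩, ?_⟩
      show (negOne * monomial σ hσ ∅ isCode_empty) • eightE none = _
      rw [mul_smul, monomial_eightE, hσj, negOne_smul]
      rfl
    · refine ⟨⟨monomial σ hσ ∅ isCode_empty, axis_monomial hσ isCode_empty⟩, ?_⟩
      show monomial σ hσ ∅ isCode_empty • eightE none = _
      rw [monomial_eightE, hσj]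
      rfl

theorem card_stabilizer_eightE :
    Nat.card (MulAction.stabilizer Co0 (eightE none)) = 20891566080 := by
  have h1 := Subgroup.card_mul_index (MulAction.stabilizer crossGroup (eightE none))
  rw [MulAction.index_stabilizer, orbit_cross, Set.ncard_range_of_injective axisVec_injective,
    card_crossGroup, Nat.card_prod, Nat.card_eq_fintype_card (α := GolayPt), card_pt,
    Nat.card_eq_fintype_card (α := Bool), Fintype.card_bool] at h1
  have e : Nat.card (MulAction.stabilizer Co0 (eightE none)) =
      Nat.card (MulAction.stabilizer crossGroup (eightE none)) :=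
    Nat.card_congr
      { toFun := fun g => ⟨⟨g.1, axis_of_one (i := none) (j := none) (Or.inl g.2)⟩, g.2⟩
        invFun := fun h => ⟨h.1.1, h.2⟩
        left_inv := fun g => rfl
        right_inv := fun h => rfl }
  omega

theorem orbit_eightE :
    (MulAction.orbit Co0 (eightE none)).ncard = 398034000 := by
  rw [← ncard_norm64, ← Set.ncard_image_of_injective _ (Subtype.val_injective :
    Function.Injective (fun v : leechLattice => (v : GolayPt → ℤ)))]
  congr 1
  ext x
  constructor
  · rintro ⟨_, ⟨g, rfl⟩, rfl⟩
    exact ⟨(g • eightE none).2, (norm_smul' g _).trans (sqNorm_eightE none)⟩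
  · rintro ⟨hx, hn⟩
    obtain ⟨g, hg⟩ := transitive64 (v := ⟨x, hx⟩) hn
    exact ⟨⟨x, hx⟩, ⟨g⁻¹, by show g⁻¹ • eightE none = _; rw [← hg, inv_smul_smul]⟩, rfl⟩

theorem card_co0 : Nat.card Co0 = 8315553613086720000 := by
  have h := Subgroup.card_mul_index (MulAction.stabilizer Co0 (eightE none))
  rw [MulAction.index_stabilizer, orbit_eightE, card_stabilizer_eightE] at h
  omega

end Cfsg.Agent.Lib.Leech
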