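import Cfsg.Agent.Lib.Leech.TwoVectors
import Cfsg.Agent.Lib.SporStruct.LeechPairs
import Cfsg.Agent.Lib.SporStruct.LeechCounts

/-!
Orders and simplicity of the joint stabilisers of two short vectors.
-/

set_option autoImplicit false

namespace Cfsg.Agent.Lib.Leech

open Finset GolayUnique SporStruct

/-- Conjugation between joint stabilisers. -/
noncomputable def infStabEquiv {G α : Type*} [Group G] [MulAction G α] {a b a' b' : α} (g : G)
    (ha : g • a = a') (hb : g • b = b') :
    ↥(MulAction.stabilizer G a ⊓ MulAction.stabilizer G b) ≃*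
      ↥(MulAction.stabilizer G a' ⊓ MulAction.stabilizer G b') :=
  ((MulAut.conj g).subgroupMap (MulAction.stabilizer G a ⊓ MulAction.stabilizer G b)).trans
    (MulEquiv.subgroupCongr (by
      rw [← ha, ← hb, MulAction.stabilizer_smul_eq_stabilizer_map_conj g a,
        MulAction.stabilizer_smul_eq_stabilizer_map_conj g b]
      exact Subgroup.map_inf _ _ (MulAut.conj g).toMonoidHom (MulAut.conj g).injective))

theorem card_pair_stab {v w : leechLattice} (hv : sqNorm (vec v) = 32) (hw : sqNorm (vec w) = 32)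
    (hd : dotInt (vec v) (vec w) = -8) :
    Nat.card ↥(MulAction.stabilizer Co0 v ⊓ MulAction.stabilizer Co0 w) = 898128000 := by
  classical
  have h := Golay.ncard_mul_card_inf (MulAction.stabilizer Co0 v) w
    {x : leechLattice | sqNorm (vec x) = 32 ∧ dotInt (vec v) (vec x) = -8}
    (fun g hg => ⟨by rw [norm_smul', hw], by
      have h' := dot_smul g v w
      rw [show g • v = v from hg] at h'
      exact h'.trans hd⟩)
    (fun x hx => by
      obtain ⟨g, h1, h2⟩ := LeechPairs.pair_transitive hv hw hv hx.1 (hd.trans hx.2.symm) (Or.inr hx.2)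
      exact ⟨g, h1, h2⟩)
  rw [show {x : leechLattice | sqNorm (vec x) = 32 ∧ dotInt (vec v) (vec x) = -8} =
      ↑((LeechCounts.shell 32).filter fun x => dotInt (vec v) (vec x) = -8) by
        ext x; simp [LeechCounts.mem_shell], Set.ncard_coe_finset,
    show ((LeechCounts.shell 32).filter fun x => dotInt (vec v) (vec x) = -8).card = 47104 from
      (LeechCounts.count32 hv).2.2.1, card_stab32 hv] at h
  omega

theorem isSimple_pair_stab {v w : leechLattice} (hv : sqNorm (vec v) = 32)
    (hw : sqNorm (vec w) = 32) (hd : dotInt (vec v) (vec w) = -8) :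
    IsSimpleGroup ↥(MulAction.stabilizer Co0 v ⊓ MulAction.stabilizer Co0 w) := by
  have ht : (-3 : ℤ) = 5 ∨ (-3 : ℤ) = -3 := Or.inr rfl
  have hn : sqNorm (vec (oddTop (-3) ht)) = 32 := by rw [sqNorm_oddTop]; norm_num
  have hq : (none : GolayPt) ≠ some 0 := by simp
  have hd' := dot_oddTop_pairVec ht
  obtain ⟨g, h1, h2⟩ := LeechPairs.pair_transitive hn (sqNorm_pairVec hq) hv hw
    (hd'.trans hd.symm) (Or.inr hd)
  haveI := isSimple_mcl_std ht (card_pair_stab hn (sqNorm_pairVec hq) hd')
  exact (infStabEquiv g h1 h2).symm.isSimpleGroup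

theorem norm_add48 {u z : leechLattice} (hu : sqNorm (vec u) = 48) (hz : sqNorm (vec z) = 48)
    (hd : dotInt (vec u) (vec z) = -32) :
    sqNorm (vec (u + z)) = 32 ∧ dotInt (vec u) (vec (u + z)) = 16 := by
  simp only [vec, AddSubgroup.coe_add] at *
  rw [sqNorm_add, LeechPairs.dot_add_right, LeechPairs.dot_self]
  omega

theorem transitive48_neg32 {u z u' z' : leechLattice} (hu : sqNorm (vec u) = 48)
    (hz : sqNorm (vec z) = 48) (hd : dotInt (vec u) (vec z) = -32) (hu' : sqNorm (vec u') = 48)
    (hz' : sqNorm (vec z') = 48) (hd' : dotInt (vec u') (vec z') = -32) :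
    ∃ g : Co0, g • u = u' ∧ g • z = z' := by
  obtain ⟨a1, a2⟩ := norm_add48 hu hz hd
  obtain ⟨b1, b2⟩ := norm_add48 hu' hz' hd'
  rw [LeechPairs.dot_comm] at a2 b2
  obtain ⟨g, h1, h2⟩ := LeechPairs.transitive48_16 a1 hu a2 b1 hu' b2
  rw [smul_add', h2] at h1
  exact ⟨g, h2, add_left_cancel h1⟩

theorem card_pair48_stab {u z : leechLattice} (hu : sqNorm (vec u) = 48)
    (hz : sqNorm (vec z) = 48) (hd : dotInt (vec u) (vec z) = -32) :
    Nat.card ↥(MulAction.stabilizer Co0 u ⊓ MulAction.stabilizer Co0 z) = 44352000 := by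
  classical
  set S := {x : leechLattice | sqNorm (vec x) = 48 ∧ dotInt (vec u) (vec x) = -32} with hS
  have h := Golay.ncard_mul_card_inf (MulAction.stabilizer Co0 u) z S
    (fun g hg => ⟨by rw [norm_smul', hz], by
      have h' := dot_smul g u z
      rw [show g • u = u from hg] at h'
      exact h'.trans hd⟩)
    (fun x hx => by
      obtain ⟨g, h1, h2⟩ := transitive48_neg32 hu hz hd hu hx.1 hx.2
      exact ⟨g, h1, h2⟩)
  have e : (fun x => u + x) '' S =
      ↑((LeechCounts.shell 32).filter fun x => dotInt (vec u) (vec x) = 16) := by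
    ext w
    simp only [Set.mem_image, Finset.coe_filter, LeechCounts.mem_shell, Set.mem_ofPred_eq, hS]
    constructor
    · rintro ⟨x, ⟨hx1, hx2⟩, rfl⟩
      have h' := norm_add48 hu hx1 hx2
      exact ⟨by exact_mod_cast h'.1, h'.2⟩
    · rintro ⟨h1, h2⟩
      refine ⟨w - u, ⟨?_, ?_⟩, by abel⟩
      · simp only [vec, AddSubgroup.coe_sub] at *
        rw [sqNorm_sub, LeechPairs.dot_comm]
        omega
      · simp only [vec, AddSubgroup.coe_sub] at *
        rw [LeechPairs.dot_sub_right, LeechPairs.dot_self]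
        omega
  rw [← Set.ncard_image_of_injective S (add_right_injective u), e, Set.ncard_coe_finset,
    show ((LeechCounts.shell 32).filter fun x => dotInt (vec u) (vec x) = 16).card = 11178 from
      (LeechCounts.count48 hu).2.2.2.1, card_stab48 hu] at h
  omega

theorem isSimple_pair48_stab {u z : leechLattice} (hu : sqNorm (vec u) = 48)
    (hz : sqNorm (vec z) = 48) (hd : dotInt (vec u) (vec z) = -32) :
    IsSimpleGroup ↥(MulAction.stabilizer Co0 u ⊓ MulAction.stabilizer Co0 z) := by
  have ht : (5 : ℤ) = 5 ∨ (5 : ℤ) = -3 := Or.inl rfl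
  have hn : sqNorm (vec (oddTop 5 ht)) = 48 := by rw [sqNorm_oddTop]; norm_num
  obtain ⟨g, h1, h2⟩ := transitive48_neg32 hn sqNorm_oddNeg (dot_oddTop_oddNeg ht) hu hz hd
  haveI := isSimple_hs_std ht (card_pair48_stab hn sqNorm_oddNeg (dot_oddTop_oddNeg ht))
  exact (infStabEquiv g h1 h2).symm.isSimpleGroup

end Cfsg.Agent.Lib.Leech
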