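import Cfsg.Agent.Lib.Leech.PointStab
import Cfsg.Agent.Lib.Leech.Dichotomy

/-!
The monomial stabiliser of a vector `4 e p + 4 e q`, and simplicity of the stabiliser of a minimal
vector.
-/

set_option autoImplicit false

namespace Cfsg.Agent.Lib.Leech

open Finset GolayUnique
open scoped symmDiff Pointwise

/-- The vector with two coordinates `4`. -/
def pairVec (p q : GolayPt) (hpq : p ≠ q) : leechLattice :=
  ⟨fun k => if k = p ∨ k = q then 4 else 0, evenVec_mem (evenVec_of_four
    (fun k => by show (if k = p ∨ k = q then (4 : ℤ) else 0) % 4 = 0; split_ifs <;> rfl) (by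
      rw [Finset.sum_ite, Finset.sum_const_zero, add_zero, Finset.sum_const,
        show (univ.filter fun k => k = p ∨ k = q) = {p, q} by ext k; simp,
        Finset.card_pair hpq]
      rfl))⟩

theorem sqNorm_pairVec {p q : GolayPt} (hpq : p ≠ q) : sqNorm (vec (pairVec p q hpq)) = 32 := by
  show ∑ k, (if k = p ∨ k = q then (4 : ℤ) else 0) ^ 2 = 32
  rw [Finset.sum_congr rfl fun k _ => show (if k = p ∨ k = q then (4 : ℤ) else 0) ^ 2 =
      if k = p ∨ k = q then 16 else 0 by split_ifs <;> norm_num,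
    Finset.sum_ite, Finset.sum_const_zero, add_zero, Finset.sum_const,
    show (univ.filter fun k => k = p ∨ k = q) = {p, q} by ext k; simp, Finset.card_pair hpq]
  rfl

variable {p q : GolayPt} (hpq : p ≠ q)
include hpq

/-- Monomial elements fixing `pairVec`. -/
theorem monomial_mem_pairStab_iff {σ : Equiv.Perm GolayPt} (hσ : σ ∈ M24) {c : Finset GolayPt}
    (hc : IsCode c) :
    monomial σ hσ c hc • pairVec p q hpq = pairVec p q hpq ↔
      σ • ({p, q} : Finset GolayPt) = {p, q} ∧ p ∉ c ∧ q ∉ c := by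
  have hmem : ∀ k, k ∈ σ • ({p, q} : Finset GolayPt) ↔ (σ.symm k = p ∨ σ.symm k = q) := fun k => by
    simp [Finset.smul_finset_insert, Finset.smul_finset_singleton, Equiv.symm_apply_eq,
      Equiv.Perm.smul_def]
  constructor
  · intro h
    have hk : ∀ k, signedPerm σ c (vec (pairVec p q hpq)) k = vec (pairVec p q hpq) k := fun k => by
      rw [← monomial_smul hσ hc, h]
    have h1 : ∀ k, ((σ.symm k = p ∨ σ.symm k = q) ↔ (k = p ∨ k = q)) ∧
        ((k = p ∨ k = q) → k ∉ c) := fun k => by
      have := hk k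
      simp only [signedPerm, pairVec, vec] at this
      constructor
      · constructor <;> intro h' <;> by_contra hn <;> split_ifs at this <;>
          first | omega | exact hn ‹_› | exact absurd h' ‹_›
      · intro h' hkc
        rw [if_pos hkc, if_pos h'] at this
        split_ifs at this <;> omega
    refine ⟨?_, (h1 p).2 (Or.inl rfl), (h1 q).2 (Or.inr rfl)⟩
    ext k
    rw [hmem, (h1 k).1]
    simp
  · rintro ⟨hs, hp, hq⟩
    apply Subtype.ext
    funext k
    show signedPerm σ c (vec (pairVec p q hpq)) k = vec (pairVec p q hpq) k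
    have h1 : (σ.symm k = p ∨ σ.symm k = q) ↔ (k = p ∨ k = q) := by
      rw [← hmem, hs]; simp
    simp only [signedPerm, pairVec, vec, h1]
    by_cases hk : k = p ∨ k = q
    · rw [if_neg (by rcases hk with rfl | rfl <;> assumption)]
    · rw [if_neg hk]; simp

theorem card_pairSet :
    Nat.card ↥(M24 ⊓ MulAction.stabilizer (Equiv.Perm GolayPt) ({p, q} : Finset GolayPt)) = 887040 := by
  have h := Golay.ncard_mul_card_inf M24 ({p, q} : Finset GolayPt)
    {s : Finset GolayPt | s.card = 2}
    (fun g _ => by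
      show (g • ({p, q} : Finset GolayPt)).card = 2
      rw [Finset.card_smul_finset, Finset.card_pair hpq])
    (fun s (hs : s.card = 2) => by
      obtain ⟨a, b, hab, rfl⟩ := Finset.card_eq_two.mp hs
      obtain ⟨g, hg, rfl, rfl⟩ := Golay.exists_map_two hpq hab
      exact ⟨g, hg, by simp [Finset.smul_finset_insert, Finset.smul_finset_singleton]⟩)
  rw [show {s : Finset GolayPt | s.card = 2} = ↑((univ : Finset GolayPt).powersetCard 2) by
      ext s; simp,
    Set.ncard_coe_finset, Finset.card_powersetCard, Finset.card_univ, card_pt, Golay.card_M24,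
    show Nat.choose 24 2 = 276 by decide] at h
  omega

theorem card_codes_avoiding : (golaySets.filter fun c => p ∉ c ∧ q ∉ c).card = 1024 := by
  classical
  obtain ⟨a, ha, hpa, hqa⟩ := separated hpq
  obtain ⟨b, hb, hqb, hpb⟩ := separated (Ne.symm hpq)
  set F := fun (i j : Bool) => golaySets.filter fun c => decide (p ∈ c) = i ∧ decide (q ∈ c) = j
  have hF0 : F false false = golaySets.filter fun c => p ∉ c ∧ q ∉ c := by
    simp only [F]; apply Finset.filter_congr; simp
  have shift : ∀ (x : Finset GolayPt) (i j : Bool), IsCode x →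
      (F i j).card = (F (xor i (decide (p ∈ x))) (xor j (decide (q ∈ x)))).card := by
    intro x i j hx
    refine Finset.card_bij' (fun c _ => c ∆ x) (fun c _ => c ∆ x) ?_ ?_ ?_ ?_
    · intro c hc
      simp only [F, Finset.mem_filter] at hc ⊢
      refine ⟨golay_good.symmDiff_mem _ hc.1 _ (mem_golaySets.mpr hx), ?_⟩
      rw [← hc.2.1, ← hc.2.2]
      by_cases h1 : p ∈ c <;> by_cases h2 : p ∈ x <;> by_cases h3 : q ∈ c <;> by_cases h4 : q ∈ x <;>
        simp [Finset.mem_symmDiff, h1, h2, h3, h4]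
    · intro c hc
      simp only [F, Finset.mem_filter] at hc ⊢
      refine ⟨golay_good.symmDiff_mem _ hc.1 _ (mem_golaySets.mpr hx), ?_⟩
      obtain ⟨h5, h6⟩ := hc.2
      revert h5 h6
      by_cases h1 : p ∈ c <;> by_cases h2 : p ∈ x <;> by_cases h3 : q ∈ c <;> by_cases h4 : q ∈ x <;>
        cases i <;> cases j <;> simp [Finset.mem_symmDiff, h1, h2, h3, h4]
    · intro c _; simp
    · intro c _; simp
  have e1 := shift a false false ha
  have e2 := shift b false false hb
  have e3 := shift univ false false isCode_univ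
  simp [hpa, hqa, hpb, hqb] at e1 e2 e3
  have hpart : golaySets.card = ∑ i : Bool × Bool, (F i.1 i.2).card := by
    rw [Finset.card_eq_sum_card_fiberwise (f := fun c => (decide (p ∈ c), decide (q ∈ c)))
      (t := univ) (fun _ _ => Finset.mem_univ _)]
    refine Finset.sum_congr rfl fun i _ => ?_
    simp only [F, Prod.ext_iff]
  rw [card_golaySets, Fintype.sum_prod_type] at hpart
  simp only [Fintype.sum_bool] at hpart
  rw [← hF0]
  omega

theorem card_cross_pairStab :
    Nat.card ↥(crossGroup ⊓ MulAction.stabilizer Co0 (pairVec p q hpq)) = 887040 * 1024 := by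
  classical
  rw [← card_pairSet hpq, ← card_codes_avoiding hpq, ← Nat.card_eq_finsetCard, ← Nat.card_prod]
  refine (Nat.card_eq_of_bijective (fun x : ↥(M24 ⊓ MulAction.stabilizer (Equiv.Perm GolayPt)
      ({p, q} : Finset GolayPt)) × {c // c ∈ golaySets.filter fun c => p ∉ c ∧ q ∉ c} =>
    (⟨monomial x.1.1 x.1.2.1 x.2.1 (mem_golaySets.mp (Finset.mem_filter.mp x.2.2).1),
      axis_monomial _ _, (monomial_mem_pairStab_iff hpq _ _).mpr
        ⟨x.1.2.2, (Finset.mem_filter.mp x.2.2).2⟩⟩ :
      ↥(crossGroup ⊓ MulAction.stabilizer Co0 (pairVec p q hpq)))) ⟨?_, ?_⟩).symm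
  · rintro ⟨⟨σ, hσ⟩, ⟨c, hc⟩⟩ ⟨⟨σ', hσ'⟩, ⟨c', hc'⟩⟩ h
    have h' : monomialMap (⟨σ, hσ.1⟩, ⟨c, mem_golaySets.mp (Finset.mem_filter.mp hc).1⟩) =
        monomialMap (⟨σ', hσ'.1⟩, ⟨c', mem_golaySets.mp (Finset.mem_filter.mp hc').1⟩) :=
      Subtype.ext (congrArg Subtype.val h :)
    have h2 := monomialMap_bijective.1 h'
    simp only [Prod.mk.injEq, Subtype.mk.injEq] at h2 ⊢
    exact h2
  · rintro ⟨g, hgN, hgv⟩
    obtain ⟨σ, hσ, c, hc, rfl⟩ := exists_monomial hgN
    obtain ⟨hs, hp, hq⟩ := (monomial_mem_pairStab_iff hpq hσ hc).mp hgv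
    exact ⟨(⟨σ, hσ, hs⟩, ⟨c, Finset.mem_filter.mpr ⟨mem_golaySets.mpr hc, hp, hq⟩⟩), rfl⟩

/-- A permutation swapping `p` and `q` does not commute with their stabiliser. -/
theorem eq_one_of_commute {σ : Equiv.Perm GolayPt} (hσ : σ ∈ M24)
    (hs : σ • ({p, q} : Finset GolayPt) = {p, q})
    (hcomm : ∀ τ ∈ M24, τ p = p → τ q = q → σ * τ = τ * σ) : σ = 1 := by
  classical
  have hpair : ∀ k, σ k ∈ ({p, q} : Finset GolayPt) ↔ k ∈ ({p, q} : Finset GolayPt) := fun k => by
    conv_lhs => rw [← hs]
    exact Finset.smul_mem_smul_finset_iff σ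
  have hfix : ∀ i, i ≠ p → i ≠ q → σ i = i := by
    intro i hip hiq
    by_contra hne
    have hσi : σ i ≠ p ∧ σ i ≠ q := by
      have := (hpair i).not.mpr (by simp [hip, hiq])
      simpa using this
    obtain ⟨k, hk⟩ : ∃ k, k ∉ ({p, q, i, σ i} : Finset GolayPt) := by
      by_contra hno
      push Not at hno
      have := Finset.card_le_card (show (univ : Finset GolayPt) ⊆ {p, q, i, σ i} from
        fun x _ => hno x)
      have := Finset.card_le_four (a := p) (b := q) (c := i) (d := σ i)
      rw [Finset.card_univ, card_pt] at *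
      omega
    simp only [Finset.mem_insert, Finset.mem_singleton, not_or] at hk
    obtain ⟨τ, hτ, h⟩ := Golay.exists_map_tuple (n := 4) (by norm_num)
      ⟨![p, q, i, σ i], Golay.injective_quad hpq (Ne.symm hip) (Ne.symm hσi.1) (Ne.symm hiq)
        (Ne.symm hσi.2) (Ne.symm hne)⟩
      ⟨![p, q, i, k], Golay.injective_quad hpq (Ne.symm hip) (Ne.symm hk.1) (Ne.symm hiq)
        (Ne.symm hk.2.1) (Ne.symm hk.2.2.1)⟩
    have e := congrArg (fun e : Equiv.Perm GolayPt => e i) (hcomm τ hτ (h 0) (h 1))
    simp only [Equiv.Perm.mul_apply] at e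
    rw [show τ i = i from h 2, show τ (σ i) = k from h 3] at e
    exact hk.2.2.2 e.symm
  by_cases hp : σ p = p
  · refine Equiv.ext fun i => ?_
    by_cases hi : i = p
    · rw [hi]; exact hp
    by_cases hi' : i = q
    · subst hi'
      have := (hpair i).mpr (by simp)
      simp only [Finset.mem_insert, Finset.mem_singleton] at this
      exact this.resolve_left fun h => hpq (σ.injective (hp.trans h.symm))
    · exact hfix i hi hi'
  · exfalso
    have hp' : σ p = q := by
      have := (hpair p).mpr (by simp)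
      simp only [Finset.mem_insert, Finset.mem_singleton] at this
      exact this.resolve_left hp
    have hq' : σ q = p := by
      have := (hpair q).mpr (by simp)
      simp only [Finset.mem_insert, Finset.mem_singleton] at this
      exact this.resolve_right fun h => hpq (σ.injective (hp'.trans h.symm))
    obtain ⟨c, hc, hpc, hqc⟩ := separated hpq
    have e : c ∆ c.map σ.toEmbedding = {p, q} := by
      ext i
      rw [Finset.mem_symmDiff, Finset.mem_map_equiv, Finset.mem_insert, Finset.mem_singleton]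
      by_cases hi : i = p
      · subst hi; rw [show σ.symm i = q by rw [Equiv.symm_apply_eq, hq']]; simp [hpc, hqc]
      by_cases hi' : i = q
      · subst hi'; rw [show σ.symm i = p by rw [Equiv.symm_apply_eq, hp']]; simp [hpc, hqc]
      · rw [show σ.symm i = i by rw [Equiv.symm_apply_eq, hfix i hi hi']]; simp [hi, hi']
    have := (hc.symmDiff (hc.map hσ)).weights
    rw [e, Finset.card_pair hpq] at this
    omega

/-- Normal subgroups without elements of order `7` have `2`-part at most `2 ^ 10`. -/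
theorem factorization_two_le (K : Subgroup (MulAction.stabilizer Co0 (pairVec p q hpq)))
    (hKn : K.Normal) (h7 : ¬ 7 ∣ Nat.card K) : (Nat.card K).factorization 2 ≤ 10 := by
  classical
  by_contra hlt
  have h11 : 2 ^ 11 ∣ Nat.card K :=
    (Nat.pow_dvd_pow 2 (by omega : 11 ≤ (Nat.card K).factorization 2)).trans (Nat.ordProj_dvd _ 2)
  let G' := MulAction.stabilizer Co0 (pairVec p q hpq)
  set N' := crossGroup.subgroupOf G' with hN'
  haveI : K.Normal := hKn
  have hN'card : Nat.card N' = 887040 * 1024 := by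
    rw [← card_cross_pairStab hpq, hN', ← Subgroup.inf_subgroupOf_right,
      Nat.card_congr (Subgroup.subgroupOfEquivOfLe
        (inf_le_right : crossGroup ⊓ G' ≤ G')).toEquiv]
  -- the intersection with the monomial stabiliser
  obtain ⟨m, hm⟩ := Subgroup.relIndex_dvd_index_of_normal K N'
  have h1 := Subgroup.card_mul_index K
  have h2 := Subgroup.card_mul_index (K.subgroupOf N')
  rw [← Subgroup.relIndex, hN'card] at h2
  rw [hm, card_stab32 (sqNorm_pairVec hpq)] at h1
  set S := K.subgroupOf N' with hS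
  have hkey : Nat.card K * m * (887040 * 1024) = Nat.card S * 42305421312000 := by
    rw [← h2, ← h1]; ring
  have hSdiv : 2 ^ 11 ∣ Nat.card S := by
    have h' : 2 ^ 29 ∣ Nat.card S * 42305421312000 := by
      rw [← hkey, show 2 ^ 29 = 2 ^ 11 * 2 ^ 18 by norm_num]
      exact mul_dvd_mul (h11.trans (dvd_mul_right _ _)) (by norm_num)
    rw [show 42305421312000 = 2 ^ 18 * 161382375 by norm_num,
      show 2 ^ 29 = 2 ^ 18 * 2 ^ 11 by norm_num,
      show Nat.card S * (2 ^ 18 * 161382375) = 2 ^ 18 * (Nat.card S * 161382375) by ring] at h'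
    exact (Nat.Coprime.dvd_mul_right (by norm_num)).mp (Nat.dvd_of_mul_dvd_mul_left (by norm_num) h')
  -- permutation parts of `S` meet the point stabiliser trivially
  set M := M24 ⊓ MulAction.stabilizer (Equiv.Perm GolayPt) p ⊓
    MulAction.stabilizer (Equiv.Perm GolayPt) q with hM
  haveI hMsimple : IsSimpleGroup M := Golay.isSimple_stab_two hpq
  have hperm : ∀ τ (hτ : τ ∈ M), monomial τ hτ.1.1 ∅ isCode_empty • pairVec p q hpq =
      pairVec p q hpq := fun τ hτ => by
    refine (monomial_mem_pairStab_iff hpq _ _).mpr ⟨?_, by simp, by simp⟩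
    simp [Finset.smul_finset_insert, Finset.smul_finset_singleton, show τ • p = p from hτ.1.2,
      show τ • q = q from hτ.2]
  let T : Subgroup M :=
    { carrier := {τ | ∃ g : G', g ∈ K ∧ ∃ c, ∃ hc : IsCode c,
        (g : Co0) = monomial τ.1 τ.2.1.1 c hc}
      one_mem' := ⟨1, one_mem K, ∅, isCode_empty, co0_ext fun i => by
        rw [monomial_eightE]; exact one_smul _ _⟩
      mul_mem' := fun {a b} ⟨g, hg, c, hc, e⟩ ⟨g', hg', c', hc', e'⟩ =>
        ⟨g * g', mul_mem hg hg', c ∆ c'.map (a.1 : Equiv.Perm GolayPt).toEmbedding,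
          hc.symmDiff (hc'.map a.2.1.1), by
          rw [Subgroup.coe_mul, e, e']
          refine co0_ext fun i => ?_
          rw [mul_smul, monomial_apply_eightE, monomial_apply_eightE]
          show _ = if (a.1 * b.1) i ∈ _ then -eightE ((a.1 * b.1) i) else eightE ((a.1 * b.1) i)
          simp only [Equiv.Perm.mul_apply, Finset.mem_symmDiff, Finset.mem_map_equiv,
            Equiv.symm_apply_apply]
          by_cases h1 : b.1 i ∈ c' <;> by_cases h2 : a.1 (b.1 i) ∈ c <;>
            simp [h1, h2, smul_neg', monomial_apply_eightE]⟩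
      inv_mem' := fun {a} ⟨g, hg, c, hc, e⟩ =>
        ⟨g⁻¹, inv_mem hg, c.map (a.1⁻¹ : Equiv.Perm GolayPt).toEmbedding,
          hc.map (inv_mem a.2.1.1), by
          rw [Subgroup.coe_inv, e]
          refine co0_ext fun i => ?_
          rw [inv_smul_eq_iff, monomial_apply_eightE]
          show eightE i = monomial a.1 _ c hc • _
          simp only [Finset.mem_map_equiv]
          by_cases h1 : i ∈ c <;>
            simp [h1, smul_neg', monomial_apply_eightE, Equiv.Perm.inv_def]⟩ }
  haveI : T.Normal := ⟨fun a ⟨g, hg, c, hc, e⟩ b => by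
    refine ⟨⟨monomial b.1 b.2.1.1 ∅ isCode_empty, hperm b.1 b.2⟩ * g *
      (⟨monomial b.1 b.2.1.1 ∅ isCode_empty, hperm b.1 b.2⟩ : G')⁻¹, hKn.conj_mem g hg _,
      c.map (b.1 : Equiv.Perm GolayPt).toEmbedding, hc.map b.2.1.1, ?_⟩
    rw [Subgroup.coe_mul, Subgroup.coe_mul, Subgroup.coe_inv, e]
    rw [mul_inv_eq_iff_eq_mul]
    refine co0_ext fun i => ?_
    rw [mul_smul, mul_smul, monomial_eightE, monomial_apply_eightE, monomial_apply_eightE]
    show _ = if (b.1 * a.1 * b.1⁻¹) (b.1 i) ∈ _ then -eightE ((b.1 * a.1 * b.1⁻¹) (b.1 i))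
      else eightE ((b.1 * a.1 * b.1⁻¹) (b.1 i))
    simp only [Equiv.Perm.mul_apply, Equiv.Perm.inv_def, Equiv.symm_apply_apply,
      Finset.mem_map_equiv]
    by_cases h1 : a.1 i ∈ c <;> simp [h1, smul_neg', monomial_eightE]⟩
  have hT : T = ⊥ := by
    rcases hMsimple.eq_bot_or_eq_top_of_normal T ‹_› with h | h
    · exact h
    exfalso
    haveI : Fact (Nat.Prime 7) := ⟨by norm_num⟩
    obtain ⟨τ, hτ⟩ := exists_prime_orderOf_dvd_card' (G := M) 7 (by
      rw [hM, Golay.card_stab_two hpq]; norm_num)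
    obtain ⟨g, hg, c, hc, e⟩ : τ ∈ T := h ▸ Subgroup.mem_top τ
    refine h7 (dvd_trans ?_ (orderOf_dvd_natCard (⟨g, hg⟩ : K)))
    rw [Subgroup.orderOf_mk, ← Subgroup.orderOf_coe g, e]
    -- a monomial element has order a multiple of that of its permutation
    set N := orderOf (monomial τ.1 τ.2.1.1 c hc)
    rw [← hτ, ← Subgroup.orderOf_coe τ, orderOf_dvd_iff_pow_eq_one]
    refine Equiv.ext fun i => eightE_inj ?_
    have hpow : ∀ n : ℕ, monomial τ.1 τ.2.1.1 c hc ^ n • eightE i = eightE ((τ.1 ^ n) i) ∨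
        monomial τ.1 τ.2.1.1 c hc ^ n • eightE i = -eightE ((τ.1 ^ n) i) := by
      intro n
      induction n with
      | zero => left; simp
      | succ n ih =>
        rw [pow_succ', mul_smul, pow_succ', Equiv.Perm.mul_apply]
        rcases ih with ih | ih <;> rw [ih] <;>
          simp only [smul_neg', monomial_apply_eightE] <;> split_ifs <;> simp
    rcases hpow N with h' | h' <;> rw [pow_orderOf_eq_one, one_smul] at h'
    · exact Or.inl h'.symm
    · exact Or.inr (by rw [Equiv.Perm.one_apply, h', neg_neg])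
  -- so `S` consists of sign changes
  have hflips : ∀ x : S, ∃ c, ∃ hc : IsCode c, p ∉ c ∧ q ∉ c ∧ ((x.1 : G') : Co0) = flip c hc := by
    rintro ⟨⟨g, hgN⟩, hgK⟩
    obtain ⟨σ, hσ, c, hc, e⟩ := exists_monomial (show Axis (g : Co0) from hgN)
    obtain ⟨hs, hp, hq⟩ := (monomial_mem_pairStab_iff hpq hσ hc).mp (e ▸ g.2)
    have hσ1 : σ = 1 := by
      refine eq_one_of_commute hpq hσ hs fun τ hτ hτp hτq => ?_
      have hτM : τ ∈ M := ⟨⟨hτ, hτp⟩, hτq⟩
      have hmem : σ * τ * σ⁻¹ * τ⁻¹ ∈ M := by
        have hσpair : ∀ k ∈ ({p, q} : Finset GolayPt), σ⁻¹ k ∈ ({p, q} : Finset GolayPt) :=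
          fun k hk => by
            rw [← hs] at hk
            exact Finset.inv_smul_mem_iff.mpr hk
        have hfx : ∀ k ∈ ({p, q} : Finset GolayPt), (σ * τ * σ⁻¹ * τ⁻¹) k = k := by
          intro k hk
          have hτk : τ⁻¹ k = k := by
            simp only [Finset.mem_insert, Finset.mem_singleton] at hk
            rcases hk with rfl | rfl <;> rw [Equiv.Perm.inv_eq_iff_eq]
            · exact hτp.symm
            · exact hτq.symm
          have h' := hσpair k hk
          simp only [Finset.mem_insert, Finset.mem_singleton] at h'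
          have hτ' : τ (σ⁻¹ k) = σ⁻¹ k := by
            rcases h' with h' | h' <;> rw [h'] <;> assumption
          rw [Equiv.Perm.mul_apply, Equiv.Perm.mul_apply, Equiv.Perm.mul_apply, hτk, hτ',
            Equiv.Perm.inv_def, Equiv.apply_symm_apply]
        exact ⟨⟨M24.mul_mem (M24.mul_mem (M24.mul_mem hσ hτ) (M24.inv_mem hσ)) (M24.inv_mem hτ),
          hfx p (by simp)⟩, hfx q (by simp)⟩
      have hin : (⟨_, hmem⟩ : M) ∈ T := by
        set t : G' := ⟨monomial τ hτ ∅ isCode_empty, hperm τ hτM⟩ with ht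
        refine ⟨g * (t * g⁻¹ * t⁻¹), mul_mem hgK (hKn.conj_mem _ (inv_mem hgK) t),
          c ∆ c.map (σ * τ * σ⁻¹ : Equiv.Perm GolayPt).toEmbedding,
          hc.symmDiff (hc.map (mul_mem (mul_mem hσ hτ) (inv_mem hσ))), ?_⟩
        simp only [Subgroup.coe_mul, Subgroup.coe_inv, e, ht]
        rw [← mul_assoc, ← mul_assoc, mul_inv_eq_iff_eq_mul]
        refine co0_ext fun i => ?_
        have hinv : ∀ j, (monomial σ hσ c hc)⁻¹ • eightE j =
            if j ∈ c then -eightE (σ⁻¹ j) else eightE (σ⁻¹ j) := fun j => by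
          rw [inv_smul_eq_iff]
          split_ifs with h' <;> simp [smul_neg', monomial_apply_eightE, h', Equiv.Perm.inv_def]
        rw [mul_smul, mul_smul, hinv, mul_smul, monomial_eightE, monomial_apply_eightE]
        simp only [Finset.mem_symmDiff, Finset.mem_map_equiv, Equiv.Perm.mul_apply,
          Equiv.Perm.inv_def, Equiv.symm_apply_apply]
        have hsym : (σ * τ * σ⁻¹ : Equiv.Perm GolayPt).symm (σ (τ (σ.symm i))) = i := by
          rw [Equiv.symm_apply_eq]; rfl
        rw [show (σ * τ * Equiv.symm σ : Equiv.Perm GolayPt).symm (σ (τ (σ.symm i))) = i from hsym]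
        by_cases h1 : i ∈ c <;> by_cases h2 : σ (τ (σ.symm i)) ∈ c <;>
          simp [h1, h2, smul_neg', monomial_eightE, monomial_apply_eightE]
      rw [hT, Subgroup.mem_bot] at hin
      have h' : σ * τ * σ⁻¹ * τ⁻¹ = 1 := congrArg Subtype.val hin
      rw [mul_inv_eq_one, mul_inv_eq_iff_eq_mul] at h'
      exact h'
    subst hσ1
    exact ⟨c, hc, hp, hq, e⟩
  choose f hf hfp hfq hfe using hflips
  have hle : Nat.card S ≤ 1024 := by
    rw [← card_codes_avoiding hpq, ← Nat.card_eq_finsetCard]
    refine Nat.card_le_card_of_injective (fun x => ⟨f x, Finset.mem_filter.mpr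
      ⟨mem_golaySets.mpr (hf x), hfp x, hfq x⟩⟩) fun a b h => ?_
    apply Subtype.ext; apply Subtype.ext; apply Subtype.ext
    show ((a.1 : G') : Co0) = ((b.1 : G') : Co0)
    rw [hfe a, hfe b]
    exact flip_congr _ _ (congrArg Subtype.val h)
  have := Nat.le_of_dvd Nat.card_pos hSdiv
  omega

omit hpq in
/-- The stabiliser of a minimal vector is simple. -/
theorem isSimple_co2 {v : leechLattice} (hv : sqNorm (vec v) = 32) :
    IsSimpleGroup (MulAction.stabilizer Co0 v) := by
  have ht : (-3 : ℤ) = 5 ∨ (-3 : ℤ) = -3 := Or.inr rfl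
  have hn : sqNorm (vec (oddTop (-3) ht)) = 32 := by rw [sqNorm_oddTop]; norm_num
  have hpq : (none : GolayPt) ≠ some 0 := by simp
  have htr : ∀ w : leechLattice, sqNorm (vec w) = 32 → ∃ g : Co0, g • oddTop (-3) ht = w := by
    intro w hw
    obtain ⟨g₁, h₁⟩ := transitive32 hpq hn
    obtain ⟨g₂, h₂⟩ := transitive32 hpq hw
    exact exists_smul_eq_of (h₁.trans h₂.symm)
  obtain ⟨g, hg⟩ := htr v hv
  obtain ⟨g', hg'⟩ := htr _ (sqNorm_pairVec hpq)
  refine isSimple_stab_of_orbit hg (isSimple_oddTop ht (by rw [card_stab32 hn]; norm_num) ?_)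
  intro K hK hdvd p hp hpK k hk hmod
  rw [card_stab32 hn, show 42305421312000 = 4147200 * 10200960 by norm_num] at hdvd
  have hd' : Nat.card K ∣ 4147200 := Nat.dvd_of_mul_dvd_mul_right (by norm_num) hdvd
  have hfac : p ^ (Nat.card K).factorization p ∣ 4147200 := (Nat.ordProj_dvd _ p).trans hd'
  have h2 : (Nat.card K).factorization 2 ≤ 10 := by
    let e := MulAction.stabilizerEquivStabilizer hg'.symm
    haveI : (K.map e.toMonoidHom).Normal := Subgroup.Normal.map hK _ e.surjective
    have hcard : Nat.card (K.map e.toMonoidHom) = Nat.card K :=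
      Subgroup.card_map_of_injective e.injective
    rw [← hcard]
    exact factorization_two_le hpq _ ‹_› (by rw [hcard]; exact fun h => absurd (h.trans hd') (by norm_num))
  have hp' : p = 2 ∨ p = 3 ∨ p = 5 := by
    have h := hpK.trans hd'
    rw [show 4147200 = 2 ^ 11 * 3 ^ 4 * 5 ^ 2 by norm_num, hp.dvd_mul, hp.dvd_mul] at h
    rcases h with (h | h) | h <;> have := hp.dvd_of_dvd_pow h
    · exact Or.inl ((Nat.prime_dvd_prime_iff_eq hp Nat.prime_two).mp this)
    · exact Or.inr (Or.inl ((Nat.prime_dvd_prime_iff_eq hp Nat.prime_three).mp this))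
    · exact Or.inr (Or.inr ((Nat.prime_dvd_prime_iff_eq hp (by norm_num)).mp this))
  unfold Nat.ModEq at hmod
  rcases hp' with rfl | rfl | rfl
  · generalize (Nat.card K).factorization 2 = n at hk hmod h2
    interval_cases n <;> interval_cases k <;> simp_all
  · generalize (Nat.card K).factorization 3 = n at hk hmod hfac
    have := le_of_dvd_list hfac (n := 4) (by norm_num)
    interval_cases n <;> interval_cases k <;> simp_all
  · generalize (Nat.card K).factorization 5 = n at hk hmod hfac
    have := le_of_dvd_list hfac (n := 2) (by norm_num)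
    interval_cases n <;> interval_cases k <;> simp_all

end Cfsg.Agent.Lib.Leech
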