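import Cfsg.Agent.Lib.Leech.CodeSets

/-!
The rank-24 lattice `leechLattice`: equality with `leechSet`, membership forms, divisibility of norms
and inner products, basic vectors.
-/

set_option autoImplicit false

namespace Cfsg.Agent.Lib.Leech

open Finset

/-- The positions where the coordinate is congruent to `k` modulo 4 (`k` in `0..3`). -/
def res (k : ℤ) (x : GolayPt → ℤ) : Finset GolayPt := univ.filter fun i => x i % 4 = k

theorem mem_res {k : ℤ} {x : GolayPt → ℤ} {i : GolayPt} : i ∈ res k x ↔ x i % 4 = k := by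
  simp [res]

/-- Even lattice vectors. -/
def EvenVec (x : GolayPt → ℤ) : Prop :=
  (∀ i, x i % 2 = 0) ∧ IsCode (res 2 x) ∧ (∑ i, x i) % 8 = 0

/-- Odd lattice vectors. -/
def OddVec (x : GolayPt → ℤ) : Prop :=
  (∀ i, x i % 2 = 1) ∧ IsCode (res 1 x) ∧ (∑ i, x i) % 8 = 4

theorem filter_modEq (x : GolayPt → ℤ) (k : ℤ) :
    (univ.filter fun i => x i ≡ k [ZMOD 4]) = res (k % 4) x := by
  ext i
  rw [mem_res]
  exact Finset.mem_filter.trans ⟨fun h => h.2, fun h => ⟨Finset.mem_univ _, h⟩⟩

theorem mem_leechSet_iff {x : GolayPt → ℤ} : x ∈ leechSet ↔ EvenVec x ∨ OddVec x := by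
  constructor
  · rintro ⟨m, hm, hs, hc⟩
    simp only [Int.ModEq] at hm hs
    rcases Int.emod_two_eq_zero_or_one m with h | h
    · left
      refine ⟨fun i => by have := hm i; omega, ?_, by omega⟩
      have := hc 2
      rw [filter_modEq] at this
      exact this
    · right
      refine ⟨fun i => by have := hm i; omega, ?_, by omega⟩
      have := hc 1
      rw [filter_modEq] at this
      exact this
  · rintro (⟨hp, hc, hs⟩ | ⟨hp, hc, hs⟩)
    · refine ⟨0, fun i => hp i, by simpa [Int.ModEq] using hs, fun k => ?_⟩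
      rw [filter_modEq]
      have h0 : res 0 x = (res 2 x)ᶜ := by
        ext i; have := hp i; simp [res]; omega
      have hodd : ∀ j : ℤ, j % 2 = 1 → res j x = ∅ := by
        intro j hj
        ext i; have := hp i; simp [res]; omega
      have hk : k % 4 = 0 ∨ k % 4 = 1 ∨ k % 4 = 2 ∨ k % 4 = 3 := by omega
      rcases hk with h | h | h | h <;> rw [h]
      · rw [h0]; exact hc.compl
      · rw [hodd 1 rfl]; exact isCode_empty
      · exact hc
      · rw [hodd 3 rfl]; exact isCode_empty
    · refine ⟨1, fun i => hp i, by simpa [Int.ModEq] using hs, fun k => ?_⟩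
      rw [filter_modEq]
      have h3 : res 3 x = (res 1 x)ᶜ := by
        ext i; have := hp i; simp [res]; omega
      have heven : ∀ j : ℤ, j % 2 = 0 → res j x = ∅ := by
        intro j hj
        ext i; have := hp i; simp [res]; omega
      have hk : k % 4 = 0 ∨ k % 4 = 1 ∨ k % 4 = 2 ∨ k % 4 = 3 := by omega
      rcases hk with h | h | h | h <;> rw [h]
      · rw [heven 0 rfl]; exact isCode_empty
      · exact hc
      · rw [heven 2 rfl]; exact isCode_empty
      · rw [h3]; exact hc.compl

theorem sum_add (x y : GolayPt → ℤ) : ∑ i, (x + y) i = ∑ i, x i + ∑ i, y i := by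
  simp [Finset.sum_add_distrib]

theorem EvenVec.add_even {x y : GolayPt → ℤ} (hx : EvenVec x) (hy : EvenVec y) :
    EvenVec (x + y) := by
  refine ⟨fun i => ?_, ?_, ?_⟩
  · have := hx.1 i; have := hy.1 i; simp only [Pi.add_apply]; omega
  · convert hx.2.1.symmDiff hy.2.1 using 1
    ext i; have := hx.1 i; have := hy.1 i
    simp [res, Finset.mem_symmDiff]; omega
  · have := hx.2.2; have := hy.2.2; rw [sum_add]; omega

theorem EvenVec.add_odd {x y : GolayPt → ℤ} (hx : EvenVec x) (hy : OddVec y) :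
    OddVec (x + y) := by
  refine ⟨fun i => ?_, ?_, ?_⟩
  · have := hx.1 i; have := hy.1 i; simp only [Pi.add_apply]; omega
  · convert hx.2.1.symmDiff hy.2.1 using 1
    ext i; have := hx.1 i; have := hy.1 i
    simp [res, Finset.mem_symmDiff]; omega
  · have := hx.2.2; have := hy.2.2; rw [sum_add]; omega

theorem OddVec.add_odd {x y : GolayPt → ℤ} (hx : OddVec x) (hy : OddVec y) :
    EvenVec (x + y) := by
  refine ⟨fun i => ?_, ?_, ?_⟩
  · have := hx.1 i; have := hy.1 i; simp only [Pi.add_apply]; omega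
  · convert (hx.2.1.symmDiff hy.2.1).compl using 1
    ext i; have := hx.1 i; have := hy.1 i
    simp [res, Finset.mem_symmDiff]; omega
  · have := hx.2.2; have := hy.2.2; rw [sum_add]; omega

theorem add_mem_leechSet {x y : GolayPt → ℤ} (hx : x ∈ leechSet) (hy : y ∈ leechSet) :
    x + y ∈ leechSet := by
  rw [mem_leechSet_iff] at *
  rcases hx with hx | hx <;> rcases hy with hy | hy
  · exact Or.inl (hx.add_even hy)
  · exact Or.inr (hx.add_odd hy)
  · rw [add_comm]; exact Or.inr (hy.add_odd hx)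
  · exact Or.inl (hx.add_odd hy)

theorem neg_mem_leechSet {x : GolayPt → ℤ} (hx : x ∈ leechSet) : -x ∈ leechSet := by
  rw [mem_leechSet_iff] at *
  rcases hx with hx | hx
  · refine Or.inl ⟨fun i => by have := hx.1 i; simp only [Pi.neg_apply]; omega, ?_, ?_⟩
    · convert hx.2.1 using 1
      ext i; have := hx.1 i; simp [res]; omega
    · have := hx.2.2
      simp only [Pi.neg_apply, Finset.sum_neg_distrib]; omega
  · refine Or.inr ⟨fun i => by have := hx.1 i; simp only [Pi.neg_apply]; omega, ?_, ?_⟩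
    · convert hx.2.1.compl using 1
      ext i; have := hx.1 i; simp [res]; omega
    · have := hx.2.2
      simp only [Pi.neg_apply, Finset.sum_neg_distrib]; omega

theorem zero_mem_leechSet : (0 : GolayPt → ℤ) ∈ leechSet := by
  rw [mem_leechSet_iff]
  refine Or.inl ⟨fun i => rfl, ?_, by simp⟩
  convert isCode_empty using 1
  ext i; simp [res]

/-- `leechSet` as an additive subgroup. -/
def leechSetSubgroup : AddSubgroup (GolayPt → ℤ) where
  carrier := leechSet
  zero_mem' := zero_mem_leechSet
  add_mem' := add_mem_leechSet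
  neg_mem' := neg_mem_leechSet

theorem leechLattice_eq : leechLattice = leechSetSubgroup :=
  le_antisymm ((AddSubgroup.closure_le _).mpr fun _ h => h) fun _ h => AddSubgroup.subset_closure h

theorem mem_leech_iff {x : GolayPt → ℤ} : x ∈ leechLattice ↔ EvenVec x ∨ OddVec x := by
  rw [leechLattice_eq]
  exact mem_leechSet_iff

theorem evenVec_mem {x : GolayPt → ℤ} (hx : EvenVec x) : x ∈ leechLattice :=
  mem_leech_iff.mpr (Or.inl hx)

theorem oddVec_mem {x : GolayPt → ℤ} (hx : OddVec x) : x ∈ leechLattice :=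
  mem_leech_iff.mpr (Or.inr hx)

/-! ### Norms and inner products -/

theorem EvenVec.sqNorm_dvd {x : GolayPt → ℤ} (hx : EvenVec x) : (16 : ℤ) ∣ sqNorm x := by
  have h1 : (16 : ℤ) ∣ ∑ i, (x i ^ 2 - if i ∈ res 2 x then 4 else 0) := by
    refine Finset.dvd_sum fun i _ => ?_
    have hp := hx.1 i
    simp only [mem_res]
    split_ifs with h
    · obtain ⟨k, hk⟩ : ∃ k, x i = 4 * k + 2 := ⟨x i / 4, by omega⟩
      exact ⟨k ^ 2 + k, by rw [hk]; ring⟩
    · obtain ⟨k, hk⟩ : ∃ k, x i = 4 * k := ⟨x i / 4, by omega⟩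
      exact ⟨k ^ 2, by rw [hk]; ring⟩
  rw [Finset.sum_sub_distrib] at h1
  simp only [Finset.sum_ite_mem, Finset.univ_inter, Finset.sum_const, nsmul_eq_mul] at h1
  have := hx.2.1.four_dvd
  simp only [sqNorm]
  omega

theorem OddVec.sqNorm_dvd {x : GolayPt → ℤ} (hx : OddVec x) : (16 : ℤ) ∣ sqNorm x := by
  have hpt : ∀ i ∈ (univ : Finset GolayPt),
      (16 : ℤ) ∣ (x i ^ 2 - (2 * x i - 1 - 4 * if i ∈ res 1 x then 0 else x i)) := by
    intro i _
    have hp := hx.1 i
    simp only [mem_res]
    split_ifs with h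
    · obtain ⟨k, hk⟩ : ∃ k, x i = 4 * k + 1 := ⟨x i / 4, by omega⟩
      exact ⟨k ^ 2, by rw [hk]; ring⟩
    · obtain ⟨k, hk⟩ : ∃ k, x i = 4 * k + 3 := ⟨x i / 4, by omega⟩
      exact ⟨k ^ 2 + 2 * k + 1, by rw [hk]; ring⟩
  have h1 := Finset.dvd_sum hpt
  have h2 : (4 : ℤ) ∣ ∑ i, ((if i ∈ res 1 x then 0 else x i) + if i ∈ res 1 x then 0 else 1) := by
    refine Finset.dvd_sum fun i _ => ?_
    have hp := hx.1 i
    simp only [mem_res]
    split_ifs with h <;> omega
  rw [Finset.sum_add_distrib] at h2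
  have h3 : ∑ i : GolayPt, (if i ∈ res 1 x then (0 : ℤ) else 1) = 24 - (res 1 x).card := by
    rw [Finset.sum_ite, Finset.sum_const_zero, zero_add, Finset.sum_const, nsmul_eq_mul, mul_one,
      Finset.filter_not, Finset.filter_mem_eq_inter, Finset.univ_inter,
      ← Finset.compl_eq_univ_sdiff, Finset.card_compl]
    have : (res 1 x).card ≤ Fintype.card GolayPt := Finset.card_le_univ _
    have h24 : Fintype.card GolayPt = 24 := by simp [GolayPt]
    omega
  simp only [Finset.sum_sub_distrib, ← Finset.mul_sum, Finset.sum_const, Finset.card_univ,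
    nsmul_eq_mul, mul_one] at h1
  have h24 : Fintype.card GolayPt = 24 := by simp [GolayPt]
  rw [h24] at h1
  have := hx.2.1.four_dvd
  have := hx.2.2
  simp only [sqNorm]
  omega

theorem sqNorm_dvd {x : GolayPt → ℤ} (hx : x ∈ leechLattice) : (16 : ℤ) ∣ sqNorm x := by
  rcases mem_leech_iff.mp hx with h | h
  · exact h.sqNorm_dvd
  · exact h.sqNorm_dvd

theorem sqNorm_add {α : Type*} [Fintype α] (x y : α → ℤ) :
    sqNorm (x + y) = sqNorm x + 2 * dotInt x y + sqNorm y := by
  simp only [sqNorm, dotInt, Pi.add_apply, Finset.mul_sum, ← Finset.sum_add_distrib]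
  exact Finset.sum_congr rfl fun i _ => by ring

theorem sqNorm_neg {α : Type*} [Fintype α] (x : α → ℤ) : sqNorm (-x) = sqNorm x := by
  simp [sqNorm]

theorem sqNorm_sub {α : Type*} [Fintype α] (x y : α → ℤ) :
    sqNorm (x - y) = sqNorm x - 2 * dotInt x y + sqNorm y := by
  simp only [sqNorm, dotInt, Pi.sub_apply, Finset.mul_sum, ← Finset.sum_add_distrib,
    ← Finset.sum_sub_distrib]
  exact Finset.sum_congr rfl fun i _ => by ring

theorem sqNorm_nonneg {α : Type*} [Fintype α] (x : α → ℤ) : 0 ≤ sqNorm x :=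
  Finset.sum_nonneg fun i _ => sq_nonneg _

theorem sqNorm_eq_zero {α : Type*} [Fintype α] {x : α → ℤ} : sqNorm x = 0 ↔ x = 0 := by
  simp [sqNorm, Finset.sum_eq_zero_iff_of_nonneg (fun i _ => sq_nonneg (x i)), funext_iff]

theorem dotInt_dvd {x y : GolayPt → ℤ} (hx : x ∈ leechLattice) (hy : y ∈ leechLattice) :
    (8 : ℤ) ∣ dotInt x y := by
  have h1 := sqNorm_dvd hx
  have h2 := sqNorm_dvd hy
  have h3 := sqNorm_dvd (leechLattice.add_mem hx hy)
  rw [sqNorm_add] at h3
  omega

/-! ### Monomial symmetries -/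

theorem sum_neg_on (x : GolayPt → ℤ) (c : Finset GolayPt) :
    ∑ i, (if i ∈ c then -x i else x i) = ∑ i, x i - 2 * ∑ i ∈ c, x i := by
  have e : ∀ i, (if i ∈ c then -x i else x i) = x i - 2 * (if i ∈ c then x i else 0) := fun i => by
    split_ifs <;> ring
  rw [Finset.sum_congr rfl fun i _ => e i, Finset.sum_sub_distrib, ← Finset.mul_sum,
    Finset.sum_ite_mem, Finset.univ_inter]

theorem signs_mem {c : Finset GolayPt} (hc : IsCode c) {x : GolayPt → ℤ} (hx : x ∈ leechLattice) :
    (fun i => if i ∈ c then -x i else x i) ∈ leechLattice := by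
  rw [mem_leech_iff] at *
  have h4c := hc.four_dvd
  rcases hx with hx | hx
  · refine Or.inl ⟨fun i => ?_, ?_, ?_⟩
    · have := hx.1 i; dsimp only; split_ifs <;> omega
    · convert hx.2.1 using 1
      ext i; have := hx.1 i; simp [res]; split_ifs <;> omega
    · rw [sum_neg_on]
      have hev := hc.even_inter hx.2.1
      have h4 : (4 : ℤ) ∣ ∑ i ∈ c, (x i - if i ∈ res 2 x then 2 else 0) := by
        refine Finset.dvd_sum fun i _ => ?_
        have := hx.1 i
        simp only [mem_res]
        split_ifs <;> omega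
      rw [Finset.sum_sub_distrib, Finset.sum_ite_mem, Finset.sum_const, nsmul_eq_mul] at h4
      have := hx.2.2
      omega
  · refine Or.inr ⟨fun i => ?_, ?_, ?_⟩
    · have := hx.1 i; dsimp only; split_ifs <;> omega
    · convert hx.2.1.symmDiff hc using 1
      ext i; have := hx.1 i
      simp [res, Finset.mem_symmDiff]; split_ifs with h <;> simp [h] <;> omega
    · rw [sum_neg_on]
      have hev := hc.even_inter hx.2.1
      have h4 : (4 : ℤ) ∣ ∑ i ∈ c, (x i + 1 - if i ∈ res 1 x then 2 else 0) := by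
        refine Finset.dvd_sum fun i _ => ?_
        have := hx.1 i
        simp only [mem_res]
        split_ifs <;> omega
      rw [Finset.sum_sub_distrib, Finset.sum_add_distrib, Finset.sum_ite_mem, Finset.sum_const,
        Finset.sum_const, nsmul_eq_mul, nsmul_eq_mul] at h4
      have := hx.2.2
      omega

theorem perm_mem {σ : Equiv.Perm GolayPt} (hσ : σ ∈ M24) {x : GolayPt → ℤ}
    (hx : x ∈ leechLattice) : (fun i => x (σ i)) ∈ leechLattice := by
  rw [mem_leech_iff] at *
  have hres : ∀ k, res k (fun i => x (σ i)) = univ.filter fun i => σ i ∈ res k x := fun k => by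
    ext i; simp [res]
  rcases hx with hx | hx
  · refine Or.inl ⟨fun i => hx.1 _, ?_, ?_⟩
    · rw [hres]; exact isCode_preimage hσ hx.2.1
    · rw [Equiv.sum_comp σ]; exact hx.2.2
  · refine Or.inr ⟨fun i => hx.1 _, ?_, ?_⟩
    · rw [hres]; exact isCode_preimage hσ hx.2.1
    · rw [Equiv.sum_comp σ]; exact hx.2.2

theorem two_smul_code_mem {s : Finset GolayPt} (hs : IsCode s) :
    (fun i => if i ∈ s then (2 : ℤ) else 0) ∈ leechLattice := by
  refine evenVec_mem ⟨fun i => ?_, ?_, ?_⟩
  · dsimp only; split_ifs <;> rfl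
  · convert hs using 1
    ext i; by_cases h : i ∈ s <;> simp [res, h]
  · have := hs.four_dvd
    rw [Finset.sum_ite_mem, Finset.univ_inter, Finset.sum_const, nsmul_eq_mul]
    omega

theorem evenVec_of_four {x : GolayPt → ℤ} (h : ∀ i, x i % 4 = 0) (hs : (∑ i, x i) % 8 = 0) :
    EvenVec x := by
  refine ⟨fun i => ?_, ?_, hs⟩
  · have := h i; omega
  · convert isCode_empty using 1
    ext i; have := h i; simp [res]; omega

theorem single_eight_mem (i : GolayPt) : (Pi.single i 8 : GolayPt → ℤ) ∈ leechLattice := by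
  refine evenVec_mem (evenVec_of_four (fun j => ?_) ?_)
  · rcases eq_or_ne j i with rfl | h <;> simp [*]
  · simp [Finset.sum_pi_single']

theorem eight_smul_mem (x : GolayPt → ℤ) : (fun i => 8 * x i) ∈ leechLattice := by
  refine evenVec_mem (evenVec_of_four (fun j => ?_) ?_)
  · omega
  · rw [← Finset.mul_sum]; omega

theorem four_pm_mem {i j : GolayPt} (a b : ℤ) (hab : (a + b) % 2 = 0) :
    (Pi.single i (4 * a) + Pi.single j (4 * b) : GolayPt → ℤ) ∈ leechLattice := by
  refine evenVec_mem (evenVec_of_four (fun k => ?_) ?_)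
  · simp only [Pi.add_apply, Pi.single_apply]; split_ifs <;> omega
  · rw [sum_add]; simp [Finset.sum_pi_single']; omega

/-- The vector with one coordinate `-3` and all others `1`. -/
def oddBase (i : GolayPt) : GolayPt → ℤ := fun j => if j = i then -3 else 1

theorem oddBase_mem (i : GolayPt) : oddBase i ∈ leechLattice := by
  refine oddVec_mem ⟨fun j => ?_, ?_, ?_⟩
  · unfold oddBase; split_ifs <;> rfl
  · convert isCode_univ using 1
    ext j
    simp only [Finset.mem_univ, iff_true]
    rw [mem_res]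
    unfold oddBase
    split_ifs <;> rfl
  · unfold oddBase
    rw [Finset.sum_ite]
    simp [Finset.filter_eq', Finset.filter_ne', GolayPt]

end Cfsg.Agent.Lib.Leech
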