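import Cfsg.Agent.Lib.Leech.MinIndex
import Cfsg.Agent.Lib.GolayUnique.Golay
import Cfsg.Prelude.Def_SporadicCombinatorics

/-!
The automorphism group of the lattice: linearity, extension to the ambient space, finiteness,
monomial elements, the centre.
-/

set_option autoImplicit false

namespace Cfsg.Agent.Lib.Leech

open Finset GolayUnique

/-- The underlying integer vector. -/
abbrev vec (v : leechLattice) : GolayPt → ℤ := (v : GolayPt → ℤ)

theorem smul_apply (g : Co0) (v : leechLattice) : g • v = (g : Equiv.Perm leechLattice) v := rfl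

theorem smul_add' (g : Co0) (v w : leechLattice) : g • (v + w) = g • v + g • w := g.2.1 v w

/-- An element of `Co0` as an additive map. -/
def toHom (g : Co0) : leechLattice →+ leechLattice :=
  AddMonoidHom.mk' (fun v => g • v) (smul_add' g)

theorem toHom_apply (g : Co0) (v : leechLattice) : toHom g v = g • v := rfl

theorem smul_zero' (g : Co0) : g • (0 : leechLattice) = 0 := (toHom g).map_zero

theorem smul_neg' (g : Co0) (v : leechLattice) : g • (-v) = -(g • v) := (toHom g).map_neg v

theorem smul_sub' (g : Co0) (v w : leechLattice) : g • (v - w) = g • v - g • w :=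
  (toHom g).map_sub v w

theorem smul_zsmul' (g : Co0) (n : ℤ) (v : leechLattice) : g • (n • v) = n • (g • v) :=
  map_zsmul (toHom g) n v

theorem norm_smul' (g : Co0) (v : leechLattice) : sqNorm (vec (g • v)) = sqNorm (vec v) := g.2.2 v

theorem dot_smul (g : Co0) (v w : leechLattice) :
    dotInt (vec (g • v)) (vec (g • w)) = dotInt (vec v) (vec w) := by
  have h := norm_smul' g (v + w)
  rw [smul_add'] at h
  simp only [vec, AddSubgroup.coe_add, sqNorm_add] at h
  have h1 := norm_smul' g v
  have h2 := norm_smul' g w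
  simp only [vec] at h1 h2 ⊢
  omega

/-- `8` times the `i`-th unit vector. -/
def eightE (i : GolayPt) : leechLattice := ⟨Pi.single i 8, single_eight_mem i⟩

theorem eight_smul_eq_sum (v : leechLattice) :
    (8 : ℤ) • v = ∑ i, vec v i • eightE i := by
  apply Subtype.ext
  rw [AddSubgroup.coe_zsmul, AddSubgroup.val_finsetSum]
  funext j
  simp only [AddSubgroup.coe_zsmul, eightE, Finset.sum_apply, Pi.smul_apply, Pi.single_apply,
    smul_eq_mul, mul_ite, mul_zero, Finset.sum_ite_eq, Finset.mem_univ, if_true, vec]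
  ring

theorem leech_zsmul_injective {n : ℤ} (hn : n ≠ 0) :
    Function.Injective fun v : leechLattice => n • v := by
  intro v w h
  apply Subtype.ext
  funext i
  have := congrFun (congrArg vec h) i
  simpa [vec, hn] using this

theorem sqNorm_eightE (i : GolayPt) : sqNorm (vec (eightE i)) = 64 := by
  show ∑ k, (Pi.single i 8 : GolayPt → ℤ) k ^ 2 = 64
  rw [Finset.sum_eq_single i (fun k _ hk => by rw [Pi.single_eq_of_ne hk]; rfl)
    (fun h => absurd (Finset.mem_univ i) h), Pi.single_eq_same]
  norm_num

/-- An element of `Co0` is determined by the images of the vectors `8 e i`. -/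
theorem co0_ext {g h : Co0} (hgh : ∀ i, g • eightE i = h • eightE i) : g = h := by
  apply Subtype.ext
  apply Equiv.ext
  intro v
  show g • v = h • v
  apply leech_zsmul_injective (n := 8) (by norm_num)
  show (8 : ℤ) • (g • v) = (8 : ℤ) • (h • v)
  rw [← smul_zsmul', ← smul_zsmul', eight_smul_eq_sum, ← toHom_apply g, ← toHom_apply h,
    map_sum, map_sum]
  refine Finset.sum_congr rfl fun i _ => ?_
  rw [map_zsmul, map_zsmul, toHom_apply, toHom_apply, hgh]

theorem abs_coord_le (v : leechLattice) {N : ℕ} (hv : sqNorm (vec v) ≤ (N : ℤ)) (i : GolayPt) :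
    -(N : ℤ) ≤ vec v i ∧ vec v i ≤ (N : ℤ) := by
  have h : (vec v i) ^ 2 ≤ (N : ℤ) :=
    le_trans (Finset.single_le_sum (fun k _ => sq_nonneg (vec v k)) (Finset.mem_univ i)) hv
  constructor <;> nlinarith [sq_nonneg (vec v i + 1), sq_nonneg (vec v i - 1)]

instance co0Finite : Finite Co0 := by
  have hfin : Finite {v : leechLattice // sqNorm (vec v) ≤ ((64 : ℕ) : ℤ)} := by
    apply Finite.of_injective (fun v i => (⟨vec v.1 i, Finset.mem_Icc.mpr
      (abs_coord_le v.1 v.2 i)⟩ : Finset.Icc (-((64 : ℕ) : ℤ)) ((64 : ℕ) : ℤ)))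
    intro v w h
    apply Subtype.ext
    apply Subtype.ext
    funext i
    exact congrArg Subtype.val (congrFun h i)
  apply Finite.of_injective (fun (g : Co0) i =>
    (⟨g • eightE i, by
      rw [norm_smul', sqNorm_eightE]
      norm_num⟩ :
      {v : leechLattice // sqNorm (vec v) ≤ ((64 : ℕ) : ℤ)}))
  intro g h e
  exact co0_ext fun i => congrArg Subtype.val (congrFun e i)

/-! ### Building elements -/

/-- An element of `Co0` from a bijective additive norm preserving map of the ambient group. -/
def mkCo0 (f g : (GolayPt → ℤ) → (GolayPt → ℤ))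
    (hf : ∀ x ∈ leechLattice, f x ∈ leechLattice) (hg : ∀ x ∈ leechLattice, g x ∈ leechLattice)
    (hgf : ∀ x ∈ leechLattice, g (f x) = x) (hfg : ∀ x ∈ leechLattice, f (g x) = x)
    (hadd : ∀ x ∈ leechLattice, ∀ y ∈ leechLattice, f (x + y) = f x + f y)
    (hnorm : ∀ x ∈ leechLattice, sqNorm (f x) = sqNorm x) : Co0 :=
  ⟨{ toFun := fun v => ⟨f (vec v), hf _ v.2⟩
     invFun := fun v => ⟨g (vec v), hg _ v.2⟩
     left_inv := fun v => Subtype.ext (hgf _ v.2)
     right_inv := fun v => Subtype.ext (hfg _ v.2) },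
    fun v w => Subtype.ext (hadd _ v.2 _ w.2), fun v => hnorm _ v.2⟩

theorem mkCo0_smul (f g : (GolayPt → ℤ) → (GolayPt → ℤ)) (hf hg hgf hfg hadd hnorm)
    (v : leechLattice) : vec (mkCo0 f g hf hg hgf hfg hadd hnorm • v) = f (vec v) := rfl

theorem signedPerm_mem {σ : Equiv.Perm GolayPt} (hσ : σ ∈ M24) {c : Finset GolayPt}
    (hc : IsCode c) {x : GolayPt → ℤ} (hx : x ∈ leechLattice) :
    signedPerm σ c x ∈ leechLattice :=
  signs_mem hc (perm_mem (inv_mem hσ) hx)

theorem signedPerm_add (σ : Equiv.Perm GolayPt) (c : Finset GolayPt) (x y : GolayPt → ℤ) :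
    signedPerm σ c (x + y) = signedPerm σ c x + signedPerm σ c y := by
  funext i
  simp only [signedPerm, Pi.add_apply]
  split_ifs <;> ring

theorem sqNorm_signedPerm (σ : Equiv.Perm GolayPt) (c : Finset GolayPt) (x : GolayPt → ℤ) :
    sqNorm (signedPerm σ c x) = sqNorm x := by
  simp only [sqNorm]
  rw [← Equiv.sum_comp σ.symm (fun i => x i ^ 2)]
  refine Finset.sum_congr rfl fun i _ => ?_
  simp only [signedPerm]
  split_ifs <;> ring

theorem signedPerm_inverse (σ : Equiv.Perm GolayPt) (c : Finset GolayPt) (x : GolayPt → ℤ) :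
    signedPerm σ.symm (Finset.univ.filter fun i => σ i ∈ c) (signedPerm σ c x) = x := by
  funext i
  simp only [signedPerm, Finset.mem_filter, Finset.mem_univ, true_and, Equiv.symm_symm,
    Equiv.symm_apply_apply]
  split_ifs <;> ring

theorem signedPerm_inverse' (σ : Equiv.Perm GolayPt) (c : Finset GolayPt) (x : GolayPt → ℤ) :
    signedPerm σ c (signedPerm σ.symm (Finset.univ.filter fun i => σ i ∈ c) x) = x := by
  funext i
  simp only [signedPerm, Finset.mem_filter, Finset.mem_univ, true_and, Equiv.symm_symm,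
    Equiv.apply_symm_apply]
  split_ifs <;> ring

/-- The monomial elements. -/
noncomputable def monomial (σ : Equiv.Perm GolayPt) (hσ : σ ∈ M24) (c : Finset GolayPt) (hc : IsCode c) : Co0 :=
  mkCo0 (signedPerm σ c) (signedPerm σ.symm (Finset.univ.filter fun i => σ i ∈ c))
    (fun _ hx => signedPerm_mem hσ hc hx)
    (fun _ hx => signedPerm_mem (inv_mem hσ) (isCode_preimage hσ hc) hx)
    (fun x _ => signedPerm_inverse σ c x) (fun x _ => signedPerm_inverse' σ c x)
    (fun x _ y _ => signedPerm_add σ c x y) (fun x _ => sqNorm_signedPerm σ c x)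

theorem monomial_smul {σ : Equiv.Perm GolayPt} (hσ : σ ∈ M24) {c : Finset GolayPt} (hc : IsCode c)
    (v : leechLattice) : vec (monomial σ hσ c hc • v) = signedPerm σ c (vec v) := rfl

/-- Sign changes on a codeword. -/
noncomputable def flip (c : Finset GolayPt) (hc : IsCode c) : Co0 :=
  monomial 1 (one_mem _) c hc

theorem flip_smul {c : Finset GolayPt} (hc : IsCode c) (v : leechLattice) (i : GolayPt) :
    vec (flip c hc • v) i = if i ∈ c then -vec v i else vec v i := rfl

/-- Negation. -/
noncomputable def negOne : Co0 := flip univ isCode_univ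

theorem negOne_smul (v : leechLattice) : negOne • v = -v := by
  apply Subtype.ext
  funext i
  simp [negOne, flip_smul]

/-- The code group is transitive on points. -/
theorem M24_transitive (i j : GolayPt) : ∃ σ ∈ M24, σ i = j := by
  obtain ⟨d, hd, hd12⟩ := golay_good.exists_dodecad
  have key : ∀ p : GolayPt, ∃ d' ∈ dodecads, p ∈ d' ∧ ∃ q, q ∉ d' := by
    intro p
    have hdc : dᶜ.card = 12 := by rw [compl_card_pt, hd12]
    by_cases hp : p ∈ d
    · obtain ⟨q, hq⟩ := Finset.card_pos.mp (show 0 < dᶜ.card by omega)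
      exact ⟨d, ⟨mem_golaySets.mp hd, hd12⟩, hp, q, Finset.mem_compl.mp hq⟩
    · obtain ⟨q, hq⟩ := Finset.card_pos.mp (show 0 < d.card by omega)
      exact ⟨dᶜ, ⟨(mem_golaySets.mp hd).compl, hdc⟩, Finset.mem_compl.mpr hp, q,
        fun h => Finset.mem_compl.mp h hq⟩
  obtain ⟨d₁, hd₁, hi, e₁, he₁⟩ := key i
  obtain ⟨d₂, hd₂, hj, e₂, he₂⟩ := key j
  obtain ⟨f, hf, -, hfi, -⟩ := M24_dodecad_flag hd₁ hd₂ hi he₁ hj he₂
  exact ⟨f, hf, hfi⟩
where
  compl_card_pt {s : Finset GolayPt} : sᶜ.card = 24 - s.card := by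
    rw [Finset.card_compl, card_pt]

/-! ### The centre -/

theorem separated {i j : GolayPt} (h : i ≠ j) : ∃ c, IsCode c ∧ i ∈ c ∧ j ∉ c := golay_sep h

/-- A central element acts on each `8 e i` by a sign. -/
theorem center_eightE {z : Co0} (hz : z ∈ Subgroup.center Co0) (i : GolayPt) :
    z • eightE i = eightE i ∨ z • eightE i = -eightE i := by
  have hcomm : ∀ (g : Co0) (v : leechLattice), z • g • v = g • z • v := fun g v => by
    rw [← mul_smul, ← mul_smul, Subgroup.mem_center_iff.mp hz g]
  set u := z • eightE i with hu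
  have hsupp : ∀ k, k ≠ i → vec u k = 0 := by
    intro k hk
    obtain ⟨c, hc, hic, hkc⟩ := separated (Ne.symm hk)
    have h1 : flip c hc • eightE i = -eightE i := by
      apply Subtype.ext
      funext l
      show vec (flip c hc • eightE i) l = vec (-eightE i) l
      rw [flip_smul]
      rcases eq_or_ne l i with rfl | hl
      · simp [eightE, vec, hic]
      · simp [eightE, vec, hl]
    have h2 := hcomm (flip c hc) (eightE i)
    rw [h1, smul_neg', ← hu] at h2
    have h3 := congrFun (congrArg vec h2) k
    rw [flip_smul, if_neg hkc] at h3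
    simp [vec] at h3 ⊢
    omega
  have hn : sqNorm (vec u) = 64 := by
    rw [hu, norm_smul', sqNorm_eightE]
  have hval : vec u i ^ 2 = 64 := by
    rw [← hn, sqNorm, Finset.sum_eq_single i (fun k _ hk => by rw [hsupp k hk]; rfl)
      (fun h => absurd (Finset.mem_univ i) h)]
  have h8 : vec u i = 8 ∨ vec u i = -8 := by
    have h : (vec u i - 8) * (vec u i + 8) = 0 := by linear_combination hval
    rcases mul_eq_zero.mp h with h | h <;> omega
  rcases h8 with h | h
  · left
    apply Subtype.ext
    funext k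
    rcases eq_or_ne k i with rfl | hk
    · simpa [eightE] using h
    · simpa [eightE, Pi.single_apply, hk] using hsupp k hk
  · right
    apply Subtype.ext
    funext k
    rcases eq_or_ne k i with rfl | hk
    · simpa [eightE] using h
    · simpa [eightE, Pi.single_apply, hk] using hsupp k hk

theorem monomial_eightE {σ : Equiv.Perm GolayPt} (hσ : σ ∈ M24) (i : GolayPt) :
    monomial σ hσ ∅ isCode_empty • eightE i = eightE (σ i) := by
  apply Subtype.ext
  funext k
  show signedPerm σ ∅ (Pi.single i 8) k = (Pi.single (σ i) 8 : GolayPt → ℤ) k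
  simp [signedPerm, Pi.single_apply, Equiv.symm_apply_eq]

theorem center_co0_eq {z : Co0} (hz : z ∈ Subgroup.center Co0) : z = 1 ∨ z = negOne := by
  have hcomm : ∀ (g : Co0) (v : leechLattice), z • g • v = g • z • v := fun g v => by
    rw [← mul_smul, ← mul_smul, Subgroup.mem_center_iff.mp hz g]
  have hmove : ∀ σ (hσ : σ ∈ M24) i,
      z • eightE (σ i) = monomial σ hσ ∅ isCode_empty • (z • eightE i) := fun σ hσ i => by
    rw [← monomial_eightE hσ, hcomm]
  rcases center_eightE hz none with h | h
  · left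
    refine co0_ext fun i => ?_
    obtain ⟨σ, hσ, rfl⟩ := M24_transitive none i
    rw [hmove σ hσ, h, monomial_eightE, one_smul]
  · right
    refine co0_ext fun i => ?_
    obtain ⟨σ, hσ, rfl⟩ := M24_transitive none i
    rw [hmove σ hσ, h, smul_neg', monomial_eightE, negOne_smul]

theorem negOne_mem_center : negOne ∈ Subgroup.center Co0 := by
  rw [Subgroup.mem_center_iff]
  intro g
  refine co0_ext fun i => ?_
  rw [mul_smul, mul_smul, negOne_smul, negOne_smul, smul_neg']

theorem negOne_ne_one : negOne ≠ 1 := by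
  intro h
  have := congrArg (fun g : Co0 => vec (g • eightE none) none) h
  simp [negOne_smul, eightE, vec] at this

theorem card_center : Nat.card (Subgroup.center Co0) = 2 := by
  have h : (Subgroup.center Co0 : Set Co0) = {1, negOne} := by
    ext z
    simp only [SetLike.mem_coe, Set.mem_insert_iff, Set.mem_singleton_iff]
    refine ⟨center_co0_eq, ?_⟩
    rintro (rfl | rfl)
    · exact one_mem _
    · exact negOne_mem_center
  rw [← SetLike.coe_sort_coe, h, Nat.card_coe_set_eq, Set.ncard_pair (Ne.symm negOne_ne_one)]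

end Cfsg.Agent.Lib.Leech
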