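import Cfsg.Agent.Lib.Leech.Uniqueness
import Cfsg.Agent.Lib.SporStruct.LatticeClasses

/-!
A rank 24 lattice with the shell numbers of the Leech lattice, in the coordinates of a class of 48
vectors of norm 8.
-/

set_option autoImplicit false

namespace Cfsg.Agent.Lib.Leech

open Finset Matrix SporStruct.LatticeClasses

/-- Such a lattice is isometric to the Leech lattice. -/
theorem exists_isometry {V : Type*} [AddCommGroup V] {ip : V → V → ℤ} (h : EvenRootless ip)
    (hrank : ∀ U : Finset V, (∀ x ∈ U, x ≠ 0) →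
      (∀ x ∈ U, ∀ y ∈ U, x ≠ y → ip x y = 0) → U.card ≤ 24)
    (h4 : {x : V | ip x x = 4}.ncard = 196560)
    (hclass : ∃ x₀, ip x₀ x₀ = 8 ∧ {y : V | ip y y = 8 ∧ ∃ z, x₀ - y = z + z}.ncard = 48) :
    ∃ f : V ≃+ leechLattice, ∀ x, sqNorm ((f x : leechLattice) : GolayPt → ℤ) = 8 * ip x x := by
  classical
  obtain ⟨x₀, -, h48⟩ := hclass
  set S := {y : V | ip y y = 8 ∧ ∃ z, x₀ - y = z + z} with hS
  have hfin : S.Finite := Set.finite_of_ncard_pos (by rw [h48]; norm_num)
  set T := hfin.toFinset with hT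
  have hTm : ∀ y, y ∈ T ↔ ip y y = 8 ∧ ∃ z, x₀ - y = z + z := fun y => by simp [hT, hS]
  obtain ⟨U, hUT, hUo, hUc⟩ := h.exists_orth_half T fun a ha b hb => by
    obtain ⟨ha8, za, hza⟩ := (hTm a).mp ha
    obtain ⟨hb8, zb, hzb⟩ := (hTm b).mp hb
    exact h.norm8_trichotomy ha8 hb8 ⟨zb - za, by
      rw [show a - b = (x₀ - b) - (x₀ - a) by abel, hza, hzb]; abel⟩
  have hne0 : ∀ a ∈ U, a ≠ 0 := fun a ha e => by
    have := ((hTm a).mp (hUT ha)).1
    rw [e, h.zero_left] at this
    omega
  have hUcard : U.card = 24 := by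
    have h1 := hrank U hne0 hUo
    have h2 : T.card = 48 := by rw [← h48, Set.ncard_eq_toFinset_card S hfin]
    omega
  have eU : GolayPt ≃ {a // a ∈ U} := (Fintype.equivOfCardEq (by
    rw [Fintype.card_coe, hUcard]; exact card_pt))
  set f : GolayPt → V := fun i => (eU i).1 with hf
  have f8 : ∀ i, ip (f i) (f i) = 8 := fun i => ((hTm _).mp (hUT (eU i).2)).1
  have finj : Function.Injective f := fun i j e => eU.injective (Subtype.ext e)
  have fo : ∀ i j, i ≠ j → ip (f i) (f j) = 0 := fun i j hij =>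
    hUo _ (eU i).2 _ (eU j).2 fun e => hij (finj e)
  have fcong : ∀ i j, ∃ z, f i - f j = z + z := fun i j => by
    obtain ⟨-, zi, hzi⟩ := (hTm _).mp (hUT (eU i).2)
    obtain ⟨-, zj, hzj⟩ := (hTm _).mp (hUT (eU j).2)
    exact ⟨zj - zi, by rw [show f i - f j = (x₀ - f j) - (x₀ - f i) by abel, hzi, hzj]; abel⟩
  let φ : V →+ (GolayPt → ℤ) := AddMonoidHom.mk' (fun x i => ip x (f i))
    (fun x y => funext fun i => h.add_left x y (f i))
  have hφ : ∀ x i, φ x i = ip x (f i) := fun _ _ => rfl
  have hleft : ∀ z, ∀ k : ℤ, ∀ x, ip (k • x) z = k * ip x z := fun z k x => by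
    let L : V →+ ℤ := AddMonoidHom.mk' (fun x => ip x z) (fun a b => h.add_left a b z)
    have := map_zsmul L k x
    rwa [smul_eq_mul] at this
  have hsumleft : ∀ z, ∀ g : GolayPt → V, ip (∑ i, g i) z = ∑ i, ip (g i) z := fun z g => by
    let L : V →+ ℤ := AddMonoidHom.mk' (fun x => ip x z) (fun a b => h.add_left a b z)
    exact map_sum L g univ
  have hexp : ∀ x, (8 : ℤ) • x = ∑ i, φ x i • f i := fun x => by
    set y := (8 : ℤ) • x - ∑ i, φ x i • f i with hy
    have hyo : ∀ j, ip y (f j) = 0 := fun j => by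
      rw [hy, h.sub_left, hleft, hsumleft, Finset.sum_eq_single j
        (fun i _ hi => by rw [hleft, fo i j hi, mul_zero]) (fun hh => absurd (Finset.mem_univ j) hh),
        hleft, f8, hφ]
      ring
    rw [← sub_eq_zero, ← hy]
    by_contra hne
    have hyU : y ∉ U := fun hm => by
      obtain ⟨j, hj⟩ := eU.surjective ⟨y, hm⟩
      have e : f j = y := congrArg Subtype.val hj
      have := hyo j
      rw [e] at this
      have := h.pos y hne
      omega
    have h1 := hrank (insert y U) (fun a ha => by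
        rcases Finset.mem_insert.mp ha with rfl | ha
        · exact hne
        · exact hne0 a ha) (fun a ha b hb hab => by
        have key : ∀ c ∈ U, ip y c = 0 := fun c hc => by
          obtain ⟨j, hj⟩ := eU.surjective ⟨c, hc⟩
          have e : f j = c := congrArg Subtype.val hj
          rw [← e]; exact hyo j
        rcases Finset.mem_insert.mp ha with ha | ha <;> rcases Finset.mem_insert.mp hb with hb | hb
        · exact absurd (ha.trans hb.symm) hab
        · rw [ha]; exact key b hb
        · rw [hb, h.symm]; exact key a ha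
        · exact hUo a ha b hb hab)
    rw [Finset.card_insert_of_notMem hyU, hUcard] at h1
    omega
  have hdot : ∀ x y, dotInt (φ x) (φ y) = 8 * ip x y := fun x y => by
    rw [← hleft y 8 x, hexp x, hsumleft]
    refine Finset.sum_congr rfl fun i _ => ?_
    rw [hleft, hφ, hφ, h.symm (f i) y]
  have hnorm : ∀ x, sqNorm (φ x) = 8 * ip x x := fun x => by
    rw [← hdot x x]
    exact Finset.sum_congr rfl fun i _ => sq _
  have hφinj : Function.Injective φ := by
    intro x y e
    by_contra hne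
    have h1 := hnorm (x - y)
    rw [map_sub, e, sub_self] at h1
    have h2 := h.pos _ (sub_ne_zero.mpr hne)
    have h3 : sqNorm (0 : GolayPt → ℤ) = 0 := sqNorm_eq_zero.mpr rfl
    omega
  have hφf : ∀ i, φ (f i) = Pi.single i 8 := fun i => by
    funext j
    rcases eq_or_ne j i with rfl | hj
    · rw [hφ, f8, Pi.single_eq_same]
    · rw [hφ, fo i j (Ne.symm hj), Pi.single_eq_of_ne hj]
  have hM : LeechLike φ.range := by
    refine ⟨?_, ?_, ?_, fun i => ⟨f i, hφf i⟩, fun i j => ?_, ?_, ?_⟩
    · rintro _ ⟨x, rfl⟩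
      rw [hnorm]
      obtain ⟨k, hk⟩ := h.even x
      exact ⟨k, by rw [hk]; ring⟩
    · rintro _ ⟨x, rfl⟩ hne
      rw [hnorm]
      have := h.four_le (x := x) fun e => hne (by rw [e, map_zero])
      omega
    · rintro _ ⟨x, rfl⟩ _ ⟨y, rfl⟩
      exact ⟨ip x y, hdot x y⟩
    · obtain ⟨z, hz⟩ := fcong i j
      refine ⟨z, ?_⟩
      funext k
      have h1 := congrFun (congrArg φ hz) k
      rw [map_sub, map_add, hφf, hφf] at h1
      simp only [Pi.sub_apply, Pi.add_apply, Pi.single_apply] at h1 ⊢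
      split_ifs at h1 ⊢ <;> omega
    · rintro _ ⟨x, rfl⟩ i j
      obtain ⟨z, hz⟩ := fcong i j
      have h1 : φ x i - φ x j = 2 * ip x z := by
        rw [hφ, hφ, ← h.sub_right, hz, h.add_right]; ring
      omega
    · rw [← h4, ← Set.ncard_image_of_injective {x : V | ip x x = 4} hφinj]
      congr 1
      ext v
      constructor
      · rintro ⟨⟨x, rfl⟩, hv⟩
        rw [hnorm] at hv
        exact ⟨x, (by omega : ip x x = 4), rfl⟩
      · rintro ⟨x, hx, rfl⟩
        refine ⟨⟨x, rfl⟩, ?_⟩
        rw [hnorm, show ip x x = 4 from hx]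
        norm_num
  obtain ⟨σ, s, hσ⟩ := hM.exists_signedPerm
  have hmem : ∀ x, signedPerm σ.symm (Finset.univ.filter fun i => σ i ∈ s) (φ x) ∈ leechLattice :=
    fun x => by rw [← hσ, signedPerm_inverse']; exact ⟨x, rfl⟩
  let g : V →+ leechLattice := AddMonoidHom.mk' (fun x => ⟨_, hmem x⟩)
    (fun x y => Subtype.ext (by
      show signedPerm σ.symm _ (φ (x + y)) = _
      rw [map_add, signedPerm_add]; rfl))
  have hg : Function.Bijective g := by
    constructor
    · intro x y e
      refine hφinj ?_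
      rw [← signedPerm_inverse' σ s (φ x), ← signedPerm_inverse' σ s (φ y)]
      exact congrArg (signedPerm σ s) (congrArg Subtype.val e)
    · rintro ⟨v, hv⟩
      obtain ⟨x, hx⟩ := (hσ v).mpr hv
      exact ⟨x, Subtype.ext (by
        show signedPerm σ.symm _ (φ x) = v
        rw [hx, signedPerm_inverse])⟩
  exact ⟨AddEquiv.ofBijective g hg, fun x => (sqNorm_signedPerm _ _ _).trans (hnorm x)⟩

end Cfsg.Agent.Lib.Leech
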