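import Cfsg.Agent.Lib.Leech.PointStab
import Cfsg.Agent.Lib.Leech.PairStab

/-!
Joint stabilisers of two vectors containing the stabiliser of two points in the code group.
-/

set_option autoImplicit false

namespace Cfsg.Agent.Lib.Leech

open Finset GolayUnique

/-- Multiplication by two. -/
def double23 : Equiv.Perm GolayPt :=
  Equiv.optionCongr
    { toFun := fun a : ZMod 23 => 2 * a
      invFun := fun a => 12 * a
      left_inv := by decide
      right_inv := by decide }

theorem double23_none : double23 none = none := rfl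

theorem double23_some (a : ZMod 23) : double23 (some a) = some (2 * a) := rfl

theorem double23_mem : double23 ∈ M24 := by
  have h : Golay.inM24 983435072843990828779021698901151808 = true := by decide +kernel
  rw [Golay.eq_gperm (σ := double23) (Golay.okCode_of_inM24 h) (by decide +kernel)]
  exact Golay.gperm_mem_M24 h

theorem orderOf_double23 : orderOf double23 = 11 := by
  haveI : Fact (Nat.Prime 11) := ⟨by norm_num⟩
  refine orderOf_eq_prime ?_ ?_
  · refine Equiv.ext fun i => ?_
    revert i
    decide +kernel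
  · intro h
    have := congrArg (fun e : Equiv.Perm GolayPt => e (some 1)) h
    simp [double23_some] at this
    exact absurd this (by decide)

/-- The element of order eleven. -/
noncomputable def doubleElt : Co0 := permHom ⟨double23, double23_mem⟩

theorem orderOf_doubleElt : orderOf doubleElt = 11 := by
  rw [doubleElt, orderOf_injective permHom permHom_injective, Subgroup.orderOf_mk]
  exact orderOf_double23

theorem double_orbits : ∀ a : ZMod 23, a = 0 ∨ ∃ n : Fin 11, a = 2 ^ (n : ℕ) ∨ a = 5 * 2 ^ (n : ℕ) := by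
  decide +kernel

theorem sum_double_orbits (f : GolayPt → ℤ)
    (h : ∀ a : ZMod 23, f (some (2 * a)) = f (some a)) :
    ∑ i, f i = f none + f (some 0) + 11 * f (some 1) + 11 * f (some 5) := by
  have hp : ∀ (b : ZMod 23) (n : ℕ), f (some (b * 2 ^ n)) = f (some b) := by
    intro b n
    induction n with
    | zero => simp
    | succ n ih => rw [pow_succ', show b * (2 * 2 ^ n) = 2 * (b * 2 ^ n) by ring, h, ih]
  have e : (univ : Finset (ZMod 23)) = insert 0 (univ.image (fun n : Fin 11 => (2 : ZMod 23) ^ (n : ℕ)) ∪
      univ.image (fun n : Fin 11 => (5 : ZMod 23) * 2 ^ (n : ℕ))) := by decide +kernel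
  rw [Fintype.sum_option, e, Finset.sum_insert (by decide +kernel),
    Finset.sum_union (by decide +kernel),
    Finset.sum_image (Function.Injective.injOn (by decide +kernel : Function.Injective
      (fun n : Fin 11 => (2 : ZMod 23) ^ (n : ℕ)))),
    Finset.sum_image (Function.Injective.injOn (by decide +kernel : Function.Injective
      (fun n : Fin 11 => (5 : ZMod 23) * 2 ^ (n : ℕ))))]
  rw [Finset.sum_congr rfl fun (n : Fin 11) _ => show f (some (2 ^ (n : ℕ))) = f (some 1) by
      have := hp 1 n; rwa [one_mul] at this,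
    Finset.sum_congr rfl fun (n : Fin 11) _ => hp 5 n, Finset.sum_const, Finset.sum_const, Finset.card_univ,
    Fintype.card_fin, nsmul_eq_mul, nsmul_eq_mul]
  push_cast
  ring

theorem two_ne_zero23 : (2 : ZMod 23) ≠ 0 := by decide

theorem eq_of_double_fixed {w : leechLattice} (h : doubleElt • w = w) (a : ZMod 23) :
    vec w (some (2 * a)) = vec w (some a) := by
  have := congrFun (congrArg vec h) (double23 (some a))
  rw [doubleElt, permHom_apply, Equiv.symm_apply_apply, double23_some] at this
  exact this.symm

/-- The stabiliser of two points in the code group, as lattice automorphisms. -/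
noncomputable def m22Elts : Subgroup Co0 :=
  (MulAction.stabilizer M24 (none : GolayPt) ⊓ MulAction.stabilizer M24 (some 0 : GolayPt)).map
    permHom

theorem isSimple_m22Elts : IsSimpleGroup m22Elts := by
  haveI := Golay.isSimple_stab_two (p := (none : GolayPt)) (q := some 0) (by simp)
  haveI : IsSimpleGroup ↥(MulAction.stabilizer M24 (none : GolayPt) ⊓
      MulAction.stabilizer M24 (some 0 : GolayPt)) :=
    (Golay.stabEquivInfTwo M24 (none : GolayPt) (some 0 : GolayPt)).isSimpleGroup
  exact (Subgroup.equivMapOfInjective _ permHom permHom_injective).symm.isSimpleGroup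

theorem card_m22Elts : Nat.card m22Elts = 443520 := by
  rw [m22Elts, Subgroup.card_map_of_injective permHom_injective,
    Nat.card_congr (Golay.stabEquivInfTwo M24 (none : GolayPt) (some 0 : GolayPt)).toEquiv]
  exact Golay.card_stab_two (by simp)

theorem doubleElt_mem : doubleElt ∈ m22Elts :=
  ⟨_, ⟨double23_none, show double23 (some 0) = some 0 by rw [double23_some, mul_zero]⟩, rfl⟩

theorem m22Elts_fix {v : leechLattice}
    (hv : ∀ a : ZMod 23, a ≠ 0 → vec v (some a) = vec v (some 1)) :
    m22Elts ≤ MulAction.stabilizer Co0 v := by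
  rintro _ ⟨σ, ⟨hσ1, hσ2⟩, rfl⟩
  apply Subtype.ext
  funext i
  show vec (permHom σ • v) i = vec v i
  rw [permHom_apply]
  have h1 : (σ : Equiv.Perm GolayPt) none = none := hσ1
  have h2 : (σ : Equiv.Perm GolayPt) (some 0) = some 0 := hσ2
  rcases eq_or_ne i none with rfl | hn
  · rw [(Equiv.symm_apply_eq _).mpr h1.symm]
  rcases eq_or_ne i (some 0) with rfl | h0
  · rw [(Equiv.symm_apply_eq _).mpr h2.symm]
  obtain ⟨a, rfl⟩ := Option.ne_none_iff_exists'.mp hn
  have ha : a ≠ 0 := fun e => h0 (by rw [e])
  obtain ⟨b, hb⟩ := Option.ne_none_iff_exists'.mp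
    (show (σ : Equiv.Perm GolayPt).symm (some a) ≠ none by
      rw [ne_eq, Equiv.symm_apply_eq, h1]; simp)
  have hb0 : b ≠ 0 := fun e => h0 (by
    rw [Equiv.symm_apply_eq, e, h2] at hb; exact hb)
  rw [hb, hv b hb0, hv a ha]

/-- A criterion for simplicity of the joint stabiliser of `oddTop t` and a second vector. -/
theorem isSimple_two {t : ℤ} (ht : t = 5 ∨ t = -3) (z : leechLattice)
    (hz : ∀ a : ZMod 23, a ≠ 0 → vec z (some a) = vec z (some 1))
    (hne : vec z (some 0) ≠ vec z (some 1))
    (hsolve : ∀ a b c d : ℤ, a ^ 2 + b ^ 2 + 11 * c ^ 2 + 11 * d ^ 2 = 64 →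
      t * a + b + 11 * c + 11 * d = 8 * t →
      vec z none * a + vec z (some 0) * b + 11 * (vec z (some 1) * c) + 11 * (vec z (some 5) * d) =
        8 * vec z none → a = 8)
    (h121 : ¬ 11 ^ 2 ∣ Nat.card
      ↥(MulAction.stabilizer Co0 (oddTop t ht) ⊓ MulAction.stabilizer Co0 z))
    (hmod : ∀ (K : Subgroup ↥(MulAction.stabilizer Co0 (oddTop t ht) ⊓ MulAction.stabilizer Co0 z)),
      Nat.card K * 443520 ∣ Nat.card
        ↥(MulAction.stabilizer Co0 (oddTop t ht) ⊓ MulAction.stabilizer Co0 z) →
      ∀ p, p.Prime → p ∣ Nat.card K → ∀ k ≤ (Nat.card K).factorization p,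
        p ^ k ≡ p ^ (Nat.card K).factorization p [MOD 11] → k = (Nat.card K).factorization p) :
    IsSimpleGroup ↥(MulAction.stabilizer Co0 (oddTop t ht) ⊓ MulAction.stabilizer Co0 z) := by
  haveI : Fact (Nat.Prime 11) := ⟨by norm_num⟩
  haveI : Fact (Nat.Prime 23) := ⟨by norm_num⟩
  have hle : m22Elts ≤ MulAction.stabilizer Co0 (oddTop t ht) ⊓ MulAction.stabilizer Co0 z :=
    le_inf (m22Elts_fix fun a _ => by simp [oddTop, vec]) (m22Elts_fix hz)
  have e := Subgroup.subgroupOfEquivOfLe hle
  haveI := isSimple_m22Elts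
  refine isSimple_of_normalizer (m22Elts.subgroupOf _) e.isSimpleGroup
    (x := ⟨doubleElt, hle doubleElt_mem⟩) (q := 11)
    (by rw [Subgroup.orderOf_mk]; exact orderOf_doubleElt) doubleElt_mem h121
    (fun g hg => ?_) (fun K hK hinf => hmod K ?_)
  · obtain ⟨g, hgu, hgz⟩ := g
    obtain ⟨n, hn⟩ := Subgroup.mem_zpowers_iff.mp hg
    replace hn : doubleElt ^ n = g * doubleElt * g⁻¹ := by simpa using congrArg Subtype.val hn
    show g ∈ m22Elts
    have hxn : doubleElt ^ n • eightE none = eightE none := by
      have : doubleElt ∈ MulAction.stabilizer Co0 (eightE none) := by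
        show doubleElt • eightE none = eightE none
        rw [doubleElt, permHom_eightE]; rfl
      exact zpow_mem this n
    set y := g⁻¹ • eightE none with hy
    have hfix : doubleElt • y = y := by
      rw [hy, ← mul_smul, show doubleElt * g⁻¹ = g⁻¹ * (g * doubleElt * g⁻¹) by group, ← hn,
        mul_smul, hxn]
    have hy2 := eq_of_double_fixed hfix
    have hdot : ∀ v : leechLattice, g • v = v →
        (∀ a : ZMod 23, vec v (some (2 * a)) = vec v (some a)) →
        vec v none * vec y none + vec v (some 0) * vec y (some 0) +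
          11 * (vec v (some 1) * vec y (some 1)) + 11 * (vec v (some 5) * vec y (some 5)) =
          8 * vec v none := by
      intro v hv hv2
      rw [← sum_double_orbits (fun i => vec v i * vec y i) (fun a => by rw [hv2, hy2])]
      show dotInt (vec v) (vec y) = _
      rw [← dot_smul g, hv, hy, smul_inv_smul]
      simp only [dotInt, eightE, vec]
      rw [Finset.sum_eq_single none (fun i _ hi => by rw [Pi.single_eq_of_ne hi, mul_zero])
        (fun h => absurd (Finset.mem_univ _) h), Pi.single_eq_same, mul_comm]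
    have hn64 : sqNorm (vec y) = 64 := by rw [hy, norm_smul', sqNorm_eightE]
    have hnorm := hn64
    rw [sqNorm, sum_double_orbits (fun i => vec y i ^ 2) (fun a => by rw [hy2])] at hnorm
    have hd1 := hdot (oddTop t ht) hgu (fun a => by simp [oddTop, vec])
    simp [oddTop, vec] at hd1
    have hd2 := hdot z hgz (fun a => by
      rcases eq_or_ne a 0 with rfl | ha
      · rw [mul_zero]
      · rw [hz _ ha, hz _ (mul_ne_zero two_ne_zero23 ha)])
    have ha8 : vec y none = 8 := hsolve _ _ _ _ hnorm (by simpa [vec] using hd1) hd2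
    have hye : y = eightE none := by
      rcases eq_single_of_eight hn64 (i := none) (Or.inl ha8) with h | h
      · exact h
      · rw [h] at ha8
        simp [eightE, vec] at ha8
    have hge : g • eightE none = eightE none := by
      conv_lhs => rw [← hye, hy, smul_inv_smul]
    obtain ⟨σ, hσ, c, hc, rfl⟩ := exists_monomial (axis_of_one (i := none) (j := none) (Or.inl hge))
    have hσn : σ none = none := by
      rw [monomial_apply_eightE] at hge
      split_ifs at hge
      · exact eightE_inj (Or.inr (by rw [← hge, neg_neg]))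
      · exact eightE_inj (Or.inl hge)
    have hc0 : c = ∅ := by
      have hsub : c ⊆ {none} := by
        intro i hi
        rw [Finset.mem_singleton]
        by_contra hne
        have h1 := congrFun (congrArg vec (show monomial σ hσ c hc • oddTop t ht = oddTop t ht from hgu)) i
        have h2 : σ.symm i ≠ none := by
          rw [ne_eq, Equiv.symm_apply_eq, hσn]; exact hne
        rw [monomial_smul] at h1
        simp [signedPerm, hi, oddTop, vec, h2, hne] at h1
      have h1 := Finset.card_le_card hsub
      rw [Finset.card_singleton] at h1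
      have := hc.weights
      exact Finset.card_eq_zero.mp (by omega)
    subst hc0
    refine ⟨⟨σ, hσ⟩, ⟨hσn, ?_⟩, rfl⟩
    show σ (some 0) = some 0
    by_contra h
    obtain ⟨a, ha⟩ := Option.ne_none_iff_exists'.mp (show σ (some 0) ≠ none from fun e =>
      (by simp : (some (0 : ZMod 23) : GolayPt) ≠ none) (σ.injective (e.trans hσn.symm)))
    have ha0 : a ≠ 0 := fun e => h (by rw [ha, e])
    have h1 := congrFun (congrArg vec
      (show monomial σ hσ ∅ isCode_empty • z = z from hgz)) (σ (some 0))
    rw [monomial_smul] at h1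
    simp only [signedPerm, Finset.notMem_empty, if_false, Equiv.symm_apply_apply] at h1
    rw [ha, hz a ha0] at h1
    exact hne h1
  · have := card_mul_dvd_of_inf_bot hinf
    rwa [Nat.card_congr e.toEquiv, card_m22Elts] at this

/-- The joint stabiliser giving the McLaughlin group is simple. -/
theorem isSimple_mcl_std (ht : (-3 : ℤ) = 5 ∨ (-3 : ℤ) = -3)
    (hcard : Nat.card ↥(MulAction.stabilizer Co0 (oddTop (-3) ht) ⊓
      MulAction.stabilizer Co0 (pairVec none (some 0) (by simp))) = 898128000) :
    IsSimpleGroup ↥(MulAction.stabilizer Co0 (oddTop (-3) ht) ⊓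
      MulAction.stabilizer Co0 (pairVec none (some 0) (by simp))) := by
  refine isSimple_two ht _ (fun a ha => ?_) ?_ ?_ (by rw [hcard]; norm_num) ?_
  · simp [pairVec, vec, ha, show (1 : ZMod 23) ≠ 0 by decide]
  · simp [pairVec, vec, show (1 : ZMod 23) ≠ 0 by decide]
  · intro a b c d h1 h2 h3
    simp [pairVec, vec, show (5 : ZMod 23) ≠ 0 by decide, show (1 : ZMod 23) ≠ 0 by decide] at h3
    have : -2 ≤ c ∧ c ≤ 2 := by
      constructor <;> nlinarith [sq_nonneg a, sq_nonneg b, sq_nonneg d]
    have : -2 ≤ d ∧ d ≤ 2 := by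
      constructor <;> nlinarith [sq_nonneg a, sq_nonneg b, sq_nonneg c]
    obtain rfl : b = 8 - a := by omega
    obtain ⟨_, _⟩ := ‹-2 ≤ c ∧ c ≤ 2›
    obtain ⟨_, _⟩ := ‹-2 ≤ d ∧ d ≤ 2›
    interval_cases c <;> interval_cases d <;> first
      | omega
      | (exfalso; nlinarith)
  · intro K hdvd p hp hpK k hk hmod
    rw [hcard, show 898128000 = 2025 * 443520 by norm_num] at hdvd
    have hd' : Nat.card K ∣ 2025 := Nat.dvd_of_mul_dvd_mul_right (by norm_num) hdvd
    have hfac : p ^ (Nat.card K).factorization p ∣ 2025 := (Nat.ordProj_dvd _ p).trans hd'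
    have hp' : p = 3 ∨ p = 5 := by
      have h := hpK.trans hd'
      rw [show 2025 = 3 ^ 4 * 5 ^ 2 by norm_num, hp.dvd_mul] at h
      rcases h with h | h <;> have := hp.dvd_of_dvd_pow h
      · exact Or.inl ((Nat.prime_dvd_prime_iff_eq hp Nat.prime_three).mp this)
      · exact Or.inr ((Nat.prime_dvd_prime_iff_eq hp (by norm_num)).mp this)
    unfold Nat.ModEq at hmod
    generalize (Nat.card K).factorization p = n at hk hmod hfac
    rcases hp' with rfl | rfl
    · have := le_of_dvd_list hfac (n := 4) (by norm_num)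
      interval_cases n <;> interval_cases k <;> simp_all
    · have := le_of_dvd_list hfac (n := 2) (by norm_num)
      interval_cases n <;> interval_cases k <;> simp_all

/-- The vector with `-5` at `0` and `-1` elsewhere. -/
def oddNeg : leechLattice :=
  ⟨fun i => if i = some 0 then -5 else -1, by
    refine oddVec_mem ⟨fun i => ?_, ?_, ?_⟩
    · show (if i = some 0 then (-5 : ℤ) else -1) % 2 = 1
      split_ifs <;> rfl
    · convert isCode_empty using 1
      ext i
      simp only [Finset.notMem_empty, iff_false]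
      rw [mem_res]
      split_ifs <;> decide
    · rw [Finset.sum_ite]
      simp [Finset.filter_eq', Finset.filter_ne', GolayPt]⟩

theorem sqNorm_oddNeg : sqNorm (vec oddNeg) = 48 := by
  show ∑ i : GolayPt, (if i = some 0 then (-5 : ℤ) else -1) ^ 2 = 48
  decide +kernel

theorem dot_oddTop_oddNeg (ht : (5 : ℤ) = 5 ∨ (5 : ℤ) = -3) :
    dotInt (vec (oddTop 5 ht)) (vec oddNeg) = -32 := by
  show ∑ i : GolayPt, (if i = none then (5 : ℤ) else 1) * (if i = some 0 then -5 else -1) = -32
  decide +kernel

theorem dot_oddTop_pairVec (ht : (-3 : ℤ) = 5 ∨ (-3 : ℤ) = -3) :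
    dotInt (vec (oddTop (-3) ht)) (vec (pairVec none (some 0) (by simp))) = -8 := by
  show ∑ i : GolayPt, (if i = none then (-3 : ℤ) else 1) *
    (if i = none ∨ i = some 0 then 4 else 0) = -8
  decide +kernel

/-- The joint stabiliser giving the Higman-Sims group is simple. -/
theorem isSimple_hs_std (ht : (5 : ℤ) = 5 ∨ (5 : ℤ) = -3)
    (hcard : Nat.card ↥(MulAction.stabilizer Co0 (oddTop 5 ht) ⊓
      MulAction.stabilizer Co0 oddNeg) = 44352000) :
    IsSimpleGroup ↥(MulAction.stabilizer Co0 (oddTop 5 ht) ⊓
      MulAction.stabilizer Co0 oddNeg) := by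
  refine isSimple_two ht _ (fun a ha => ?_) ?_ ?_ (by rw [hcard]; norm_num) ?_
  · simp [oddNeg, vec, ha, show (1 : ZMod 23) ≠ 0 by decide]
  · simp [oddNeg, vec, show (1 : ZMod 23) ≠ 0 by decide]
  · intro a b c d h1 h2 h3
    simp [oddNeg, vec, show (5 : ZMod 23) ≠ 0 by decide, show (1 : ZMod 23) ≠ 0 by decide] at h3
    have : -2 ≤ c ∧ c ≤ 2 := by
      constructor <;> nlinarith [sq_nonneg a, sq_nonneg b, sq_nonneg d]
    have : -2 ≤ d ∧ d ≤ 2 := by
      constructor <;> nlinarith [sq_nonneg a, sq_nonneg b, sq_nonneg c]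
    obtain rfl : b = a - 8 := by omega
    obtain ⟨_, _⟩ := ‹-2 ≤ c ∧ c ≤ 2›
    obtain ⟨_, _⟩ := ‹-2 ≤ d ∧ d ≤ 2›
    interval_cases c <;> interval_cases d <;> first
      | omega
      | (exfalso; nlinarith)
  · intro K hdvd p hp hpK k hk hmod
    rw [hcard, show 44352000 = 100 * 443520 by norm_num] at hdvd
    have hd' : Nat.card K ∣ 100 := Nat.dvd_of_mul_dvd_mul_right (by norm_num) hdvd
    have hfac : p ^ (Nat.card K).factorization p ∣ 100 := (Nat.ordProj_dvd _ p).trans hd'
    have hp' : p = 2 ∨ p = 5 := by
      have h := hpK.trans hd'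
      rw [show 100 = 2 ^ 2 * 5 ^ 2 by norm_num, hp.dvd_mul] at h
      rcases h with h | h <;> have := hp.dvd_of_dvd_pow h
      · exact Or.inl ((Nat.prime_dvd_prime_iff_eq hp Nat.prime_two).mp this)
      · exact Or.inr ((Nat.prime_dvd_prime_iff_eq hp (by norm_num)).mp this)
    unfold Nat.ModEq at hmod
    generalize (Nat.card K).factorization p = n at hk hmod hfac
    rcases hp' with rfl | rfl
    · have := le_of_dvd_list hfac (n := 2) (by norm_num)
      interval_cases n <;> interval_cases k <;> simp_all
    · have := le_of_dvd_list hfac (n := 2) (by norm_num)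
      interval_cases n <;> interval_cases k <;> simp_all

end Cfsg.Agent.Lib.Leech
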