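import Cfsg.Agent.Lib.Leech.Co1Simple
import Cfsg.Agent.Lib.Leech.PointStab
import Cfsg.Agent.Lib.Leech.PairStab
import Cfsg.Agent.Lib.Leech.TwoVectors

/-!
Maximality of the monomial group in the automorphism group of the lattice.
-/

set_option autoImplicit false

namespace Cfsg.Agent.Lib.Leech.CrossMax

open Finset GolayUnique
open scoped symmDiff Pointwise

/-! ### Elements of order 23 -/

theorem eight_none_of_shift_fixed {w : leechLattice} (hw : sqNorm (vec w) = 64)
    (h : shiftElt • w = w) : w = eightE none ∨ w = -eightE none := by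
  have hs : sqNorm (vec w) = vec w none ^ 2 + 23 * vec w (some 0) ^ 2 := by
    rw [sqNorm, Fintype.sum_option, Finset.sum_congr rfl fun a _ => by rw [eq_of_shift_fixed h a],
      Finset.sum_const, Finset.card_univ, ZMod.card, nsmul_eq_mul]
    norm_num
  have hb := coord_le (v := w) (i := none) (N := 64) (B := 8) hw.le (by norm_num) (by norm_num)
  have hc := coord_le (v := w) (i := some 0) (N := 64) (B := 8) hw.le (by norm_num) (by norm_num)
  refine eq_single_of_eight hw ?_
  rw [hw] at hs
  obtain ⟨b1, b2⟩ := hb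
  obtain ⟨c1, c2⟩ := hc
  revert hs b1 b2 c1 c2
  generalize vec w none = a
  generalize vec w (some 0) = b
  intro hs b1 b2 c1 c2
  have : ∀ a ∈ Finset.Icc (-8 : ℤ) 8, ∀ b ∈ Finset.Icc (-8 : ℤ) 8,
      64 = a ^ 2 + 23 * b ^ 2 → a = 8 ∨ a = -8 := by decide +kernel
  exact this a (Finset.mem_Icc.mpr ⟨b1, b2⟩) b (Finset.mem_Icc.mpr ⟨c1, c2⟩) hs

/-- A monomial element of order dividing 23 fixes an axis vector. -/
theorem exists_fixed_axis {y : Co0} (hy : y ∈ crossGroup) (h23 : y ^ 23 = 1) :
    ∃ j, y • eightE j = eightE j := by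
  haveI : Fact (Nat.Prime 23) := ⟨by norm_num⟩
  obtain ⟨σ, hσ, c, hc, rfl⟩ := exists_monomial hy
  set y := monomial σ hσ c hc
  have hn : ∀ (n : ℕ) (i : GolayPt),
      y ^ n • eightE i = eightE ((σ ^ n) i) ∨ y ^ n • eightE i = -eightE ((σ ^ n) i) := by
    intro n
    induction n with
    | zero => intro i; exact Or.inl (by simp)
    | succ n ih =>
      intro i
      rw [pow_succ', mul_smul, pow_succ', Equiv.Perm.mul_apply]
      have e := monomial_apply_eightE hσ hc ((σ ^ n) i)
      rcases ih i with h | h <;> rw [h] <;> split_ifs at e <;>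
        simp [y, smul_neg', e]
  have hσ23 : σ ^ 23 = 1 := Equiv.ext fun i => by
    have h := hn 23 i
    rw [h23, one_smul] at h
    exact (eightE_inj h).symm
  obtain ⟨j, hj⟩ := Equiv.Perm.exists_fixed_point_of_prime (p := 23) (n := 1)
    (by rw [card_pt]; norm_num) (σ := σ) (by rw [pow_one]; exact hσ23)
  refine ⟨j, ?_⟩
  have h1 := monomial_apply_eightE hσ hc j
  rw [hj] at h1
  split_ifs at h1 with h
  · exfalso
    have h2 : y * y ∈ MulAction.stabilizer Co0 (eightE j) := by
      rw [MulAction.mem_stabilizer_iff, mul_smul, h1, smul_neg', h1, neg_neg]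
    have h3 : (y * y) ^ 11 ∈ MulAction.stabilizer Co0 (eightE j) := pow_mem h2 11
    have h4 : y = y ^ 23 * ((y * y) ^ 11)⁻¹ := by
      rw [← pow_two, ← pow_mul, show 23 = 2 * 11 + 1 from rfl, pow_succ', mul_inv_cancel_right]
    have h5 : y ∈ MulAction.stabilizer Co0 (eightE j) := by
      rw [h4, h23, one_mul]; exact inv_mem h3
    rw [MulAction.mem_stabilizer_iff, h1] at h5
    have := congrFun (congrArg vec h5) j
    simp [eightE, vec] at this
  · exact h1

theorem mem_cross_of_conj_shift {k : Co0} (h : k⁻¹ * shiftElt * k ∈ crossGroup) :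
    k ∈ crossGroup := by
  obtain ⟨j, hj⟩ := exists_fixed_axis h (by
    have e : (k⁻¹ * shiftElt * k) ^ 23 = k⁻¹ * shiftElt ^ 23 * k := by
      have := conj_pow (a := k⁻¹) (b := shiftElt) (i := 23)
      simpa using this
    rw [e, ← orderOf_shiftElt, pow_orderOf_eq_one]
    simp)
  have hw : shiftElt • (k • eightE j) = k • eightE j := by
    conv_rhs => rw [← hj]
    rw [← mul_smul, ← mul_smul]
    group
  exact axis_of_one (eight_none_of_shift_fixed
    (by rw [norm_smul', sqNorm_eightE]) hw)

theorem shiftElt_mem_cross : shiftElt ∈ crossGroup := axis_monomial shift23_mem isCode_empty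

theorem relIndex_mod23 (K : Subgroup Co0) (hK : crossGroup ≤ K) :
    crossGroup.relIndex K % 23 = 1 := by
  haveI : Fact (Nat.Prime 23) := ⟨by norm_num⟩
  set x : K := ⟨shiftElt, hK shiftElt_mem_cross⟩
  have hA : IsPGroup 23 (Subgroup.zpowers x) := IsPGroup.of_card (n := 1) (by
    rw [Nat.card_zpowers, Subgroup.orderOf_mk, orderOf_shiftElt, pow_one])
  have h := hA.card_modEq_card_fixedPoints (K ⧸ crossGroup.subgroupOf K)
  have hfix : MulAction.fixedPoints (Subgroup.zpowers x) (K ⧸ crossGroup.subgroupOf K) =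
      {((1 : K) : K ⧸ crossGroup.subgroupOf K)} := by
    refine Set.eq_singleton_iff_unique_mem.mpr ⟨?_, ?_⟩
    · rintro ⟨a, ha⟩
      show ((a * 1 : K) : K ⧸ crossGroup.subgroupOf K) = _
      rw [QuotientGroup.eq, mul_one, mul_one]
      refine inv_mem ?_
      obtain ⟨n, rfl⟩ := Subgroup.mem_zpowers_iff.mp ha
      exact zpow_mem (show x ∈ crossGroup.subgroupOf K from shiftElt_mem_cross) n
    · intro z hz
      induction z using QuotientGroup.induction_on with
      | _ k =>
        have h1 : ((x * k : K) : K ⧸ crossGroup.subgroupOf K) = k :=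
          hz ⟨x, Subgroup.mem_zpowers x⟩
        rw [QuotientGroup.eq, Subgroup.mem_subgroupOf] at h1
        have h2 : (k : Co0)⁻¹ * shiftElt * k ∈ crossGroup := by
          have := inv_mem h1
          simpa [mul_inv_rev, x, mul_assoc] using this
        rw [QuotientGroup.eq, mul_one]
        exact inv_mem (show k ∈ crossGroup.subgroupOf K from mem_cross_of_conj_shift h2)
  rw [hfix, Nat.card_coe_set_eq, Set.ncard_singleton] at h
  rw [Subgroup.relIndex, Subgroup.index_eq_card]
  exact h

/-! ### The three shapes of norm 32 -/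

/-- The base vector. -/
def v0 : leechLattice := pairVec none (some 0) (by simp)

theorem sqNorm_v0 : sqNorm (vec v0) = 32 := sqNorm_pairVec _

/-- The odd vector. -/
def u0 : leechLattice := oddTop (-3) (Or.inr rfl)

theorem sqNorm_u0 : sqNorm (vec u0) = 32 := by
  rw [u0, sqNorm_oddTop]; norm_num

theorem vec_u0 (i : GolayPt) : vec u0 i = if i = none then -3 else 1 := rfl

theorem monomial_empty_apply {σ : Equiv.Perm GolayPt} (hσ : σ ∈ M24) (w : leechLattice)
    (k : GolayPt) : vec (monomial σ hσ ∅ isCode_empty • w) (σ k) = vec w k := by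
  rw [monomial_smul]; simp [signedPerm]

theorem flip_mem {c : Finset GolayPt} (hc : IsCode c) : flip c hc ∈ crossGroup :=
  axis_monomial (one_mem M24) hc

theorem four_orbit {w : leechLattice} (hw : sqNorm (vec w) = 32)
    (h4 : ∀ i, vec w i % 4 = 0) : ∃ h ∈ crossGroup, h • w = v0 := by
  have hval : ∀ i, vec w i = 0 ∨ vec w i = 4 ∨ vec w i = -4 := fun i => by
    have := coord_le (v := w) (i := i) (N := 32) (B := 5) hw.le (by norm_num) (by norm_num)
    have := h4 i
    omega
  set T := univ.filter fun i => vec w i ≠ 0 with hT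
  have hcount : sqNorm (vec w) = 16 * (T.card : ℤ) := by
    rw [sqNorm, Finset.sum_congr rfl fun i _ => show vec w i ^ 2 =
      16 * (if vec w i ≠ 0 then 1 else 0) by
        rcases hval i with e | e | e <;> rw [e] <;> norm_num,
      ← Finset.mul_sum, Finset.sum_boole]
  obtain ⟨i, j, hij, hTij⟩ := Finset.card_eq_two.mp (show T.card = 2 by omega)
  have hk : ∀ k, vec w k ≠ 0 ↔ (k = i ∨ k = j) := fun k => by
    have : k ∈ T ↔ (k = i ∨ k = j) := by rw [hTij]; simp
    simpa [hT] using this
  set p : GolayPt := none with hpdef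
  set q : GolayPt := some 0 with hqdef
  have hpq : p ≠ q := by simp [hpdef, hqdef]
  obtain ⟨σ, hσ, hσi, hσj⟩ := M24_two hij hpq
  set z := monomial σ hσ ∅ isCode_empty • w with hz
  have hp : vec z p = 4 ∨ vec z p = -4 := by
    rw [← hσi, hz, monomial_empty_apply]
    exact (hval i).resolve_left ((hk i).mpr (Or.inl rfl))
  have hq : vec z q = 4 ∨ vec z q = -4 := by
    rw [← hσj, hz, monomial_empty_apply]
    exact (hval j).resolve_left ((hk j).mpr (Or.inr rfl))
  have hzero : ∀ k, k ≠ p → k ≠ q → vec z k = 0 := fun k h1 h2 => by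
    obtain ⟨l, rfl⟩ := σ.surjective k
    rw [hz, monomial_empty_apply]
    by_contra hne
    rcases (hk l).mp hne with e | e
    · exact h1 (e ▸ hσi)
    · exact h2 (e ▸ hσj)
  obtain ⟨c, hc, hcp, hcq⟩ : ∃ c, IsCode c ∧ (p ∈ c ↔ vec z p = -4) ∧ (q ∈ c ↔ vec z q = -4) := by
    obtain ⟨c₁, hc₁, hp₁, hq₁⟩ := separated hpq
    obtain ⟨c₂, hc₂, hq₂, hp₂⟩ := separated (Ne.symm hpq)
    rcases hp with hp | hp <;> rcases hq with hq | hq
    · exact ⟨∅, isCode_empty, by simp [hp], by simp [hq]⟩
    · exact ⟨c₂, hc₂, by simp [hp, hp₂], by simp [hq, hq₂]⟩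
    · exact ⟨c₁, hc₁, by simp [hp, hp₁], by simp [hq, hq₁]⟩
    · exact ⟨univ, isCode_univ, by simp [hp], by simp [hq]⟩
  refine ⟨flip c hc * monomial σ hσ ∅ isCode_empty,
    mul_mem (flip_mem hc) (axis_monomial hσ isCode_empty), ?_⟩
  apply Subtype.ext
  funext k
  show vec _ k = if k = p ∨ k = q then 4 else 0
  rw [mul_smul, ← hz, flip_smul]
  by_cases h1 : k = p
  · subst h1
    rw [if_pos (Or.inl rfl)]
    rcases hp with e | e <;> split_ifs with h <;> simp_all
  by_cases h2 : k = q
  · subst h2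
    rw [if_pos (Or.inr rfl)]
    rcases hq with e | e <;> split_ifs with h <;> simp_all
  rw [if_neg (not_or.mpr ⟨h1, h2⟩), hzero k h1 h2]
  simp

theorem odd_orbit {w : leechLattice} (hw : sqNorm (vec w) = 32) (ho : OddVec (vec w)) :
    ∃ h ∈ crossGroup, h • w = u0 := by
  have hsq : ∀ i, 1 ≤ vec w i ^ 2 := fun i => by
    have := ho.1 i
    rcases (by omega : 1 ≤ vec w i ∨ vec w i ≤ -1) with h | h <;> nlinarith
  obtain ⟨i, hi⟩ : ∃ i, 9 ≤ vec w i ^ 2 := by
    by_contra hno
    push Not at hno
    have h1 : ∀ i, vec w i = 1 ∨ vec w i = -1 := fun i => by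
      have := hno i
      have := ho.1 i
      by_contra hne
      rcases (by omega : 3 ≤ vec w i ∨ vec w i ≤ -3) with h | h <;> nlinarith
    have h2 : sqNorm (vec w) = 24 := by
      rw [sqNorm, Finset.sum_congr rfl fun i _ => show vec w i ^ 2 = 1 by
        rcases h1 i with e | e <;> rw [e] <;> norm_num,
        Finset.sum_const, Finset.card_univ, card_pt]
      norm_num
    omega
  have hone : ∀ k, k ≠ i → vec w k = 1 ∨ vec w k = -1 := by
    intro k hk
    by_contra hne
    have h9 : 9 ≤ vec w k ^ 2 := by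
      have := ho.1 k
      rcases (by omega : 3 ≤ vec w k ∨ vec w k ≤ -3) with h | h <;> nlinarith
    have h := Finset.sum_le_sum (s := univ)
      (f := fun l => (if l = i ∨ l = k then (9 : ℤ) else 1)) (g := fun l => vec w l ^ 2)
      fun l _ => by
        show (if l = i ∨ l = k then (9 : ℤ) else 1) ≤ vec w l ^ 2
        split_ifs with hl
        · rcases hl with rfl | rfl <;> assumption
        · exact hsq l
    rw [Finset.sum_ite, Finset.sum_const, Finset.sum_const,
      show (univ.filter fun l => l = i ∨ l = k) = {i, k} by ext; simp,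
      show (univ.filter fun l => ¬ (l = i ∨ l = k)) = ({i, k} : Finset GolayPt)ᶜ by ext; simp,
      Finset.card_compl, Finset.card_pair (Ne.symm hk), card_pt] at h
    rw [sqNorm] at hw
    norm_num [-Fintype.sum_option] at h
    omega
  have hi3 : vec w i = 3 ∨ vec w i = -3 := by
    have h := Finset.sum_le_sum (s := univ.erase i) (f := fun _ => (1 : ℤ))
      (g := fun l => vec w l ^ 2) fun l _ => hsq l
    have e := Finset.add_sum_erase univ (fun l => vec w l ^ 2) (Finset.mem_univ i)
    have he : ∑ l ∈ univ.erase i, vec w l ^ 2 = 23 := by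
      rw [Finset.sum_congr rfl fun l hl => show vec w l ^ 2 = 1 by
        rcases hone l (Finset.ne_of_mem_erase hl) with e | e <;> rw [e] <;> norm_num,
        Finset.sum_const, Finset.card_erase_of_mem (Finset.mem_univ i), Finset.card_univ, card_pt]
      norm_num
    rw [sqNorm] at hw
    rw [he] at e
    have h9 : vec w i ^ 2 = 3 ^ 2 := by omega
    rcases sq_eq_sq_iff_eq_or_eq_neg.mp h9 with h | h
    · exact Or.inl h
    · exact Or.inr h
  obtain ⟨σ, hσ, hσi⟩ := M24_transitive i none
  set z := monomial σ hσ ∅ isCode_empty • w with hz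
  have hzo : OddVec (vec z) := by
    rcases mem_leech_iff.mp z.2 with h | h
    · exfalso
      have h1 := h.1 (σ i)
      have h2 := ho.1 i
      change vec z (σ i) % 2 = 0 at h1
      rw [hz, monomial_empty_apply] at h1
      omega
    · exact h
  have hC : IsCode (res 1 (vec z))ᶜ := hzo.2.1.compl
  refine ⟨flip _ hC * monomial σ hσ ∅ isCode_empty,
    mul_mem (flip_mem hC) (axis_monomial hσ isCode_empty), ?_⟩
  apply Subtype.ext
  funext k
  show vec _ k = vec u0 k
  rw [mul_smul, ← hz, flip_smul, vec_u0]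
  obtain ⟨l, rfl⟩ := σ.surjective k
  simp only [Finset.mem_compl, mem_res, ← hσi, σ.injective.eq_iff]
  rw [hz, monomial_empty_apply]
  by_cases hl : l = i
  · subst hl
    rcases hi3 with e | e <;> simp [e]
  · rcases hone l hl with e | e <;> simp [e, hl]

/-- Every even subset of an octad is cut out by a codeword. -/
theorem octad_trace {o : Finset GolayPt} (ho : o ∈ octads) :
    ∀ M ⊆ o, M.card % 2 = 0 → ∃ c, IsCode c ∧ c ∩ o = M := by
  obtain ⟨e, he⟩ : ∃ e, e ∉ o := by
    by_contra hno
    push Not at hno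
    have := Finset.card_le_card (fun x _ => hno x : (univ : Finset GolayPt) ⊆ o)
    rw [Finset.card_univ, card_pt, ho.2] at this
    omega
  have quad : ∀ T ⊆ o, T.card = 4 → ∃ c, IsCode c ∧ c ∩ o = T := by
    intro T hT h4
    have heT : e ∉ T := fun h => he (hT h)
    obtain ⟨b, ⟨hb, hsub⟩, -⟩ := Golay.octads_steiner.2 (insert e T)
      (by rw [Finset.card_insert_of_notMem heT, h4])
    have hne : b ≠ o := fun h => he (h ▸ hsub (Finset.mem_insert_self e T))
    have hsub' : T ⊆ b ∩ o :=
      Finset.subset_inter (fun x hx => hsub (Finset.mem_insert_of_mem hx)) hT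
    have := Golay.Steiner.inter_five Golay.card_golayPt Golay.octads_steiner hb ho hne
    have hle := Finset.card_le_card hsub'
    exact ⟨b, hb.1, (Finset.eq_of_subset_of_card_le hsub' (by omega)).symm⟩
  intro M
  induction M using Finset.strongInduction with
  | _ M ih =>
    intro hM hev
    rcases M.eq_empty_or_nonempty with rfl | ⟨a, ha⟩
    · exact ⟨∅, isCode_empty, Finset.empty_inter _⟩
    obtain ⟨b, hb⟩ := Finset.card_pos.mp (show 0 < (M.erase a).card by
      rw [Finset.card_erase_of_mem ha]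
      have := Finset.card_pos.mpr ⟨a, ha⟩
      omega)
    have hab := Ne.symm (Finset.ne_of_mem_erase hb)
    have hbM := Finset.mem_of_mem_erase hb
    have hsub : ({a, b} : Finset GolayPt) ⊆ M := by
      simp [Finset.insert_subset_iff, ha, hbM]
    obtain ⟨c₁, hc₁, e₁⟩ := ih (M \ {a, b})
      (Finset.sdiff_ssubset hsub (Finset.insert_nonempty _ _))
      (Finset.sdiff_subset.trans hM) (by
        rw [Finset.card_sdiff_of_subset hsub, Finset.card_pair hab]
        omega)
    obtain ⟨S, hS, hS3⟩ := Finset.exists_subset_card_eq (n := 3) (s := o \ {a, b}) (by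
      rw [Finset.card_sdiff_of_subset (hsub.trans hM), Finset.card_pair hab, ho.2]
      norm_num)
    have hSo : S ⊆ o := hS.trans Finset.sdiff_subset
    have haS : a ∉ S := fun h => by simpa using (Finset.mem_sdiff.mp (hS h)).2
    have hbS : b ∉ S := fun h => by simpa using (Finset.mem_sdiff.mp (hS h)).2
    obtain ⟨ca, hca, ea⟩ := quad (insert a S) (Finset.insert_subset (hM ha) hSo)
      (by rw [Finset.card_insert_of_notMem haS, hS3])
    obtain ⟨cb, hcb, eb⟩ := quad (insert b S) (Finset.insert_subset (hM hbM) hSo)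
      (by rw [Finset.card_insert_of_notMem hbS, hS3])
    refine ⟨c₁ ∆ (ca ∆ cb), hc₁.symmDiff (hca.symmDiff hcb), ?_⟩
    rw [GolayUnique.symmDiff_inter, GolayUnique.symmDiff_inter, e₁, ea, eb]
    ext x
    have h1 := @hsub x
    simp only [Finset.mem_insert, Finset.mem_singleton] at h1
    simp only [Finset.mem_symmDiff, Finset.mem_sdiff, Finset.mem_insert, Finset.mem_singleton]
    by_cases xa : x = a
    · subst xa; simp [haS, hab, ha]
    by_cases xb : x = b
    · subst xb; simp [hbS, xa, hbM]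
    simp [xa, xb]

theorem oct_spec {w : leechLattice} (hw : sqNorm (vec w) = 32) (he : EvenVec (vec w))
    (h4 : ¬ ∀ i, vec w i % 4 = 0) :
    res 2 (vec w) ∈ octads ∧ (∀ i ∈ res 2 (vec w), vec w i = 2 ∨ vec w i = -2) ∧
      ∀ i, i ∉ res 2 (vec w) → vec w i = 0 := by
  have h1 := norm_ge he
  rw [hw] at h1
  have hc : (res 2 (vec w)).card = 8 := by
    rcases he.2.1.weights with h | h | h | h | h
    · exact absurd (four_of_empty he h) h4
    · exact h
    all_goals omega
  have hb : big w = ∅ := Finset.card_eq_zero.mp (by omega)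
  refine ⟨⟨he.2.1, hc⟩, ?_, fun i hi => eq_zero_of_not_big hi (by rw [hb]; simp)⟩
  rcases two_sq_cases w with ⟨h, -⟩ | h
  · exact h
  · exfalso
    have h2 := sum_sq_split w
    rw [hw] at h2
    rw [hc] at h
    have : 0 ≤ ∑ i ∈ (res 2 (vec w))ᶜ, vec w i ^ 2 := Finset.sum_nonneg fun i _ => sq_nonneg _
    omega

theorem oct_orbit {w w' : leechLattice} (hw : sqNorm (vec w) = 32) (he : EvenVec (vec w))
    (h4 : ¬ ∀ i, vec w i % 4 = 0) (hw' : sqNorm (vec w') = 32) (he' : EvenVec (vec w'))
    (h4' : ¬ ∀ i, vec w' i % 4 = 0) : ∃ h ∈ crossGroup, h • w = w' := by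
  obtain ⟨ho, hv, hz⟩ := oct_spec hw he h4
  obtain ⟨ho', hv', hz'⟩ := oct_spec hw' he' h4'
  obtain ⟨σ, hσ, hσo⟩ := Golay.transitive_octads ho ho'
  set z := monomial σ hσ ∅ isCode_empty • w with hzdef
  have hmem : ∀ l, σ l ∈ res 2 (vec w') ↔ l ∈ res 2 (vec w) := fun l => by
    rw [← hσo]; exact Finset.smul_mem_smul_finset_iff σ
  set D := (res 2 (vec w')).filter fun k => vec z k ≠ vec w' k with hD
  have hzv : ∀ k ∈ res 2 (vec w'), vec z k = 2 ∨ vec z k = -2 := fun k hk => by
    obtain ⟨l, rfl⟩ := σ.surjective k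
    rw [hzdef, monomial_empty_apply]
    exact hv l ((hmem l).mp hk)
  have hz0 : ∀ k, k ∉ res 2 (vec w') → vec z k = 0 := fun k hk => by
    obtain ⟨l, rfl⟩ := σ.surjective k
    rw [hzdef, monomial_empty_apply]
    exact hz l (fun h => hk ((hmem l).mpr h))
  have hev : D.card % 2 = 0 := by
    have hzs : (∑ k, vec z k) % 8 = 0 := by
      rw [← Equiv.sum_comp σ (fun k => vec z k)]
      simp only [hzdef, monomial_empty_apply]
      exact he.2.2
    have hkey : ∀ k, vec z k + vec w' k =
        2 * vec w' k - (if k ∈ D then 2 * vec w' k else 0) := fun k => by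
      by_cases hk : k ∈ res 2 (vec w')
      · rcases hzv k hk with e | e <;> rcases hv' k hk with e' | e' <;>
          simp [hD, hk, e, e'] <;> norm_num
      · simp [hD, hk, hz0 k hk, hz' k hk]
    have hsum := Finset.sum_congr rfl fun k (_ : k ∈ univ) => hkey k
    rw [Finset.sum_add_distrib, Finset.sum_sub_distrib, ← Finset.mul_sum, Finset.sum_ite_mem,
      Finset.univ_inter, ← Finset.mul_sum] at hsum
    have hpar : (∑ k ∈ D, vec w' k) % 4 = 2 * (D.card : ℤ) % 4 := by
      have hd : (4 : ℤ) ∣ ∑ k ∈ D, (vec w' k - 2) := Finset.dvd_sum fun k hk => by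
        have := mem_res.mp (Finset.mem_filter.mp hk).1
        omega
      rw [Finset.sum_sub_distrib, Finset.sum_const, nsmul_eq_mul] at hd
      omega
    have := he'.2.2
    omega
  obtain ⟨c, hc, hcD⟩ := octad_trace ho' D (Finset.filter_subset _ _) hev
  refine ⟨flip c hc * monomial σ hσ ∅ isCode_empty,
    mul_mem (flip_mem hc) (axis_monomial hσ isCode_empty), ?_⟩
  apply Subtype.ext
  funext k
  show vec _ k = vec w' k
  rw [mul_smul, ← hzdef, flip_smul]
  by_cases hk : k ∈ res 2 (vec w')
  · have hck : k ∈ c ↔ vec z k ≠ vec w' k := by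
      have : k ∈ c ∩ res 2 (vec w') ↔ k ∈ D := by rw [hcD]
      simpa [hD, hk] using this
    rcases hzv k hk with e | e <;> rcases hv' k hk with e' | e' <;> simp [hck, e, e']
  · simp [hz0 k hk, hz' k hk]

/-! ### Counts -/

theorem card_N_v0 : Nat.card ↥(crossGroup ⊓ MulAction.stabilizer Co0 v0) = 908328960 :=
  card_cross_pairStab _

/-- The norm 32 vectors. -/
def Shell : Set leechLattice := {w | sqNorm (vec w) = 32}

theorem ncard_shell32 : Shell.ncard = 196560 := by
  rw [← ncard_norm32, ← Set.ncard_image_of_injective _ (Subtype.val_injective :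
    Function.Injective (fun v : leechLattice => (v : GolayPt → ℤ)))]
  congr 1
  ext x
  constructor
  · rintro ⟨w, hw, rfl⟩; exact ⟨w.2, hw⟩
  · rintro ⟨hx, hn⟩; exact ⟨⟨x, hx⟩, hn, rfl⟩

theorem shell_finite : Shell.Finite :=
  Set.finite_of_ncard_ne_zero (by rw [ncard_shell32]; norm_num)

/-- The four shape. -/
def FourSet : Set leechLattice := {w | sqNorm (vec w) = 32 ∧ ∀ i, vec w i % 4 = 0}

/-- The odd shape. -/
def OddSet : Set leechLattice := {w | sqNorm (vec w) = 32 ∧ OddVec (vec w)}

theorem smul_four {h : Co0} (hh : h ∈ crossGroup) {w : leechLattice} (hw : w ∈ FourSet) :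
    h • w ∈ FourSet := by
  obtain ⟨σ, hσ, c, hc, rfl⟩ := exists_monomial hh
  refine ⟨by rw [norm_smul', hw.1], fun i => ?_⟩
  rw [monomial_smul]
  have := hw.2 (σ.symm i)
  simp only [signedPerm]
  split_ifs <;> simp only [vec] at * <;> omega

theorem v0_mem : v0 ∈ FourSet := ⟨sqNorm_v0, fun i => by
  show (if i = none ∨ i = some 0 then (4 : ℤ) else 0) % 4 = 0
  split_ifs <;> rfl⟩

theorem ncard_four : FourSet.ncard = 1104 := by
  have h := Golay.ncard_mul_card_inf crossGroup v0 FourSet (fun g hg => smul_four hg v0_mem)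
    (fun w hw => by
      obtain ⟨g, hg, hgw⟩ := four_orbit hw.1 hw.2
      exact ⟨g⁻¹, inv_mem hg, by rw [← hgw, inv_smul_smul]⟩)
  rw [card_N_v0, card_crossGroup] at h
  exact Nat.eq_of_mul_eq_mul_right (m := 908328960) (by norm_num) (h.trans (by norm_num))

theorem ncard_oddSet : OddSet.ncard = 98304 := by
  have h := ncard_odd (V := Vkfull) (by decide) (M := 1) (Mmax := 5) (by norm_num)
  rw [show 4096 * tabGet (tab oddW 2 5 (List.replicate 24 Vkfull)) 1 1 = 98304 by decide +kernel] at h
  rw [← h, ← Set.ncard_image_of_injective _ (Subtype.val_injective :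
    Function.Injective (fun v : leechLattice => (v : GolayPt → ℤ)))]
  congr 1
  ext x
  constructor
  · rintro ⟨w, ⟨hn, ho⟩, rfl⟩
    refine ⟨ho, by simpa using hn, fun i => ?_⟩
    have hb := coord_le (v := w) (i := i) (N := 32) (B := 5) hn.le (by norm_num) (by norm_num)
    have hodd := ho.1 i
    have hne : vec w i ^ 2 ≤ 9 := by
      by_contra hgt
      have h := Finset.sum_le_sum (s := univ.erase i) (f := fun _ => (1 : ℤ))
        (g := fun l => vec w l ^ 2) fun l _ => by
          have := ho.1 l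
          rcases (by omega : 1 ≤ vec w l ∨ vec w l ≤ -1) with h | h <;> nlinarith
      have e := Finset.add_sum_erase univ (fun l => vec w l ^ 2) (Finset.mem_univ i)
      rw [Finset.sum_const, Finset.card_erase_of_mem (Finset.mem_univ i), Finset.card_univ,
        card_pt] at h
      rw [sqNorm] at hn
      norm_num [-Fintype.sum_option] at h
      omega
    simp only [vec] at hb hodd hne ⊢
    revert hb hodd hne
    generalize (w : GolayPt → ℤ) i = a
    intro hb hodd hne
    obtain ⟨hl, hu⟩ := hb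
    interval_cases a <;> simp_all [oddK, Vkfull]
  · rintro ⟨ho, hn, -⟩
    exact ⟨⟨x, oddVec_mem ho⟩, ⟨by simpa using hn, ho⟩, rfl⟩

theorem four_odd_disjoint {w : leechLattice} (h1 : w ∈ FourSet) : w ∉ OddSet := fun h2 => by
  have := h1.2 none
  have := h2.2.1 none
  omega

/-! ### The orbit of the base vector under an overgroup -/

theorem exists_oct_or (w : leechLattice) :
    OddVec (vec w) ∨ (∀ i, vec w i % 4 = 0) ∨
      (EvenVec (vec w) ∧ ¬ ∀ i, vec w i % 4 = 0) := by
  rcases mem_leech_iff.mp w.2 with h | h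
  · by_cases h4 : ∀ i, vec w i % 4 = 0
    · exact Or.inr (Or.inl h4)
    · exact Or.inr (Or.inr ⟨h, h4⟩)
  · exact Or.inl h

variable {K : Subgroup Co0} (hNK : crossGroup ≤ K)
include hNK

theorem four_mem_orbit {w : leechLattice} (hw : w ∈ FourSet) :
    w ∈ MulAction.orbit K v0 := by
  obtain ⟨h, hh, e⟩ := four_orbit hw.1 hw.2
  exact ⟨⟨h⁻¹, hNK (inv_mem hh)⟩, by show h⁻¹ • v0 = w; rw [← e, inv_smul_smul]⟩

theorem orbit_mem_of_rel {w w' : leechLattice} (hw : w ∈ MulAction.orbit K v0)
    (h : ∃ n ∈ crossGroup, n • w = w') : w' ∈ MulAction.orbit K v0 := by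
  obtain ⟨n, hn, rfl⟩ := h
  obtain ⟨k, rfl⟩ := hw
  exact ⟨⟨n, hNK hn⟩ * k, mul_smul _ _ _⟩

theorem orbit_subset_shell : MulAction.orbit K v0 ⊆ Shell := by
  rintro _ ⟨k, rfl⟩
  show sqNorm (vec ((k : Co0) • v0)) = 32
  rw [norm_smul', sqNorm_v0]

theorem cross_of_four {g : Co0} (hg : g ∈ K)
    (horb : MulAction.orbit K v0 ⊆ FourSet) : g ∈ crossGroup := by
  set d := g • eightE none with hd
  have hdn : sqNorm (vec d) = 64 := by rw [hd, norm_smul', sqNorm_eightE]
  have hdot : ∀ z ∈ FourSet, dotInt (vec d) (vec z) = 0 ∨ dotInt (vec d) (vec z) = 32 ∨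
      dotInt (vec d) (vec z) = -32 := by
    intro z hz
    obtain ⟨k, hk⟩ := four_mem_orbit hNK hz
    replace hk : k • v0 = z := hk
    have hz' : g⁻¹ • z ∈ FourSet :=
      horb ⟨⟨g⁻¹, inv_mem hg⟩ * k, by
        show ((⟨g⁻¹, inv_mem hg⟩ : K) * k) • v0 = g⁻¹ • z
        rw [mul_smul, hk]
        rfl⟩
    have e : dotInt (vec d) (vec z) = 8 * vec (g⁻¹ • z) none := by
      conv_lhs => rw [hd, ← smul_inv_smul g z]
      rw [dot_smul, dotInt, Finset.sum_eq_single (none : GolayPt)]
      · simp [eightE, vec]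
      · intro b _ hb; simp [eightE, vec, hb]
      · simp
    have h1 := coord_le (v := g⁻¹ • z) (i := none) (N := 32) (B := 5) hz'.1.le (by norm_num)
      (by norm_num)
    have h2 := hz'.2 none
    omega
  have hpair : ∀ i j, i ≠ j →
      (vec d i + vec d j = 0 ∨ vec d i + vec d j = 8 ∨ vec d i + vec d j = -8) ∧
      (vec d i - vec d j = 0 ∨ vec d i - vec d j = 8 ∨ vec d i - vec d j = -8) := by
    intro i j hij
    have h1 : ∀ s : ℤ, s = 1 ∨ s = -1 →
        4 * vec d i + 4 * s * vec d j = 0 ∨ 4 * vec d i + 4 * s * vec d j = 32 ∨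
          4 * vec d i + 4 * s * vec d j = -32 := by
      intro s hs
      let x : GolayPt → ℤ := fun k => if k = i then 4 else if k = j then 4 * s else 0
      have hx : x ∈ leechLattice := by
        refine evenVec_mem (evenVec_of_four (fun k => ?_) ?_)
        · simp only [x]; split_ifs <;> omega
        · rw [show x = fun k => (if k = i then (4 : ℤ) else 0) + (if k = j then 4 * s else 0) by
            funext k; simp only [x]; split_ifs with a b <;> simp_all]
          rw [Finset.sum_add_distrib, Finset.sum_ite_eq', Finset.sum_ite_eq']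
          simp
          omega
      have hxx : x = fun k => (if k = i then (4 : ℤ) else 0) + (if k = j then 4 * s else 0) := by
        funext k; simp only [x]; split_ifs with a b <;> simp_all
      have hF : (⟨x, hx⟩ : leechLattice) ∈ FourSet := by
        refine ⟨?_, fun k => by show x k % 4 = 0; simp only [x]; split_ifs <;> omega⟩
        show sqNorm x = 32
        rw [sqNorm, Finset.sum_congr rfl fun k _ => show x k ^ 2 =
          (if k = i then (16 : ℤ) else 0) + (if k = j then 16 else 0) by
            simp only [x]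
            rcases hs with rfl | rfl <;> split_ifs with a b <;> simp_all]
        rw [Finset.sum_add_distrib, Finset.sum_ite_eq', Finset.sum_ite_eq']
        simp
      have e : dotInt (vec d) x = 4 * vec d i + 4 * s * vec d j := by
        rw [dotInt, hxx]
        simp only [mul_add, mul_ite, mul_zero, Finset.sum_add_distrib, Finset.sum_ite_eq',
          Finset.mem_univ, if_true]
        ring
      rcases hdot _ hF with h | h | h <;> rw [show vec (⟨x, hx⟩ : leechLattice) = x from rfl, e] at h
      · exact Or.inl h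
      · exact Or.inr (Or.inl h)
      · exact Or.inr (Or.inr h)
    have := h1 1 (Or.inl rfl)
    have := h1 (-1) (Or.inr rfl)
    omega
  by_cases h8 : ∃ i, vec d i = 8 ∨ vec d i = -8
  · obtain ⟨i, hi⟩ := h8
    exact axis_of_one (eq_single_of_eight hdn hi)
  · exfalso
    push Not at h8
    have hb : ∀ i, -8 ≤ vec d i ∧ vec d i ≤ 8 := fun i =>
      coord_le (N := 64) hdn.le (by norm_num) (by norm_num)
    have hfour : ∀ i, vec d i = 0 ∨ vec d i = 4 ∨ vec d i = -4 := fun i => by
      obtain ⟨j, hj⟩ : ∃ j, i ≠ j := by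
        rcases eq_or_ne i none with rfl | h
        · exact ⟨some 0, by simp⟩
        · exact ⟨none, h⟩
      obtain ⟨h1, h2⟩ := hpair i j hj
      have := h8 i
      have := h8 j
      have := hb i
      omega
    obtain ⟨i, hi⟩ : ∃ i, vec d i ≠ 0 := by
      by_contra hno
      push Not at hno
      have : sqNorm (vec d) = 0 := by simp [sqNorm, hno]
      omega
    have hall : ∀ j, vec d j ^ 2 = 16 := fun j => by
      have h4 : vec d j = 4 ∨ vec d j = -4 := by
        have := hfour i
        have := hfour j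
        rcases eq_or_ne i j with rfl | hj
        · omega
        · obtain ⟨h1, h2⟩ := hpair i j hj
          omega
      rcases h4 with e | e <;> rw [e] <;> norm_num
    rw [sqNorm, Finset.sum_congr rfl fun j _ => hall j, Finset.sum_const, Finset.card_univ,
      card_pt] at hdn
    norm_num at hdn

theorem orbit_eq_shell {g : Co0} (hg : g ∈ K) (hgN : g ∉ crossGroup) :
    MulAction.orbit K v0 = Shell := by
  set O := MulAction.orbit K v0 with hO
  have hsub : O ⊆ Shell := orbit_subset_shell hNK
  have hfin : O.Finite := shell_finite.subset hsub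
  have hdvd : O.ncard ∣ 8315553613086720000 := by
    rw [← card_co0]
    exact (Dvd.intro _ (Golay.ncard_orbit_mul_card_inf K v0)).trans
      (Subgroup.card_subgroup_dvd_card K)
  have hF : FourSet ⊆ O := fun w hw => four_mem_orbit hNK hw
  have hOddFour : Disjoint FourSet OddSet := Set.disjoint_left.mpr fun _ h => four_odd_disjoint h
  have hOddS : OddSet ⊆ Shell := fun w h => h.1
  by_cases hodd : ∃ w ∈ OddSet, w ∈ O
  · obtain ⟨w, hw, hwO⟩ := hodd
    have hOdd : OddSet ⊆ O := fun w' hw' => by
      obtain ⟨a, ha, ea⟩ := odd_orbit hw.1 hw.2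
      obtain ⟨b, hb, eb⟩ := odd_orbit hw'.1 hw'.2
      exact orbit_mem_of_rel hNK hwO ⟨b⁻¹ * a, mul_mem (inv_mem hb) ha,
        by rw [mul_smul, ea, ← eb, inv_smul_smul]⟩
    by_cases hoct : ∃ w ∈ O, w ∉ FourSet ∧ w ∉ OddSet
    · obtain ⟨z, hzO, hz4, hzo⟩ := hoct
      refine Set.Subset.antisymm hsub fun x hx => ?_
      rcases exists_oct_or x with h | h | ⟨he, h⟩
      · exact hOdd ⟨hx, h⟩
      · exact hF ⟨hx, h⟩
      · rcases exists_oct_or z with h' | h' | ⟨he', h'⟩
        · exact absurd ⟨hsub hzO, h'⟩ hzo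
        · exact absurd ⟨hsub hzO, h'⟩ hz4
        · exact orbit_mem_of_rel hNK hzO (oct_orbit (hsub hzO) he' h' hx he h)
    · exfalso
      push Not at hoct
      have e : O = FourSet ∪ OddSet := Set.Subset.antisymm
        (fun z hz => (em (z ∈ FourSet)).imp_right fun h => hoct z hz h)
        (Set.union_subset hF hOdd)
      rw [e, Set.ncard_union_eq hOddFour (shell_finite.subset fun w h => h.1)
        (shell_finite.subset hOddS), ncard_four, ncard_oddSet] at hdvd
      norm_num at hdvd
  · push Not at hodd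
    by_cases hoct : ∃ w ∈ O, w ∉ FourSet
    · exfalso
      obtain ⟨z, hzO, hz4⟩ := hoct
      have e : O = Shell \ OddSet := Set.Subset.antisymm
        (fun x hx => ⟨hsub hx, fun h => hodd x h hx⟩)
        (fun x ⟨hx, hxo⟩ => by
          rcases exists_oct_or x with h | h | ⟨he, h⟩
          · exact absurd ⟨hx, h⟩ hxo
          · exact hF ⟨hx, h⟩
          · rcases exists_oct_or z with h' | h' | ⟨he', h'⟩
            · exact absurd hzO (hodd z ⟨hsub hzO, h'⟩)
            · exact absurd ⟨hsub hzO, h'⟩ hz4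
            · exact orbit_mem_of_rel hNK hzO (oct_orbit (hsub hzO) he' h' hx he h))
      rw [e, Set.ncard_sdiff hOddS (shell_finite.subset hOddS), ncard_shell32,
        ncard_oddSet] at hdvd
      norm_num at hdvd
    · push Not at hoct
      exact absurd (cross_of_four hNK hg fun z hz => hoct z hz) hgN

theorem card_eq_mul_relIndex : Nat.card K = 1002795171840 * crossGroup.relIndex K := by
  have h := Subgroup.card_mul_index (crossGroup.subgroupOf K)
  rw [Nat.card_congr (Subgroup.subgroupOfEquivOfLe hNK).toEquiv, card_crossGroup] at h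
  rw [← h, Subgroup.relIndex]

theorem card_stab_of_shell (hO : MulAction.orbit K v0 = Shell) {w : leechLattice}
    (hw : sqNorm (vec w) = 32) :
    196560 * Nat.card ↥(K ⊓ MulAction.stabilizer Co0 w) = Nat.card K := by
  have hw' : w ∈ MulAction.orbit K v0 := by rw [hO]; exact hw
  have h := Golay.ncard_orbit_mul_card_inf K w
  rwa [MulAction.orbit_eq_iff.mpr hw', hO, ncard_shell32] at h

theorem relIndex_cases (hne : crossGroup ≠ K) :
    (MulAction.orbit K v0 = Shell) ∧ (K = ⊤ ∨ crossGroup.relIndex K = 4095) := by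
  obtain ⟨g, hg, hgN⟩ : ∃ g ∈ K, g ∉ crossGroup := by
    by_contra hno
    push Not at hno
    exact hne (le_antisymm hNK hno)
  have hO := orbit_eq_shell hNK hg hgN
  refine ⟨hO, ?_⟩
  have hm := relIndex_mod23 K hNK
  have hcard := card_eq_mul_relIndex hNK
  have hv := card_stab_of_shell hNK hO sqNorm_v0
  have hd : 908328960 ∣ Nat.card ↥(K ⊓ MulAction.stabilizer Co0 v0) := by
    rw [← card_N_v0]
    exact Subgroup.card_dvd_of_le (inf_le_inf_right _ hNK)
  have hdm : crossGroup.relIndex K ∣ 8292375 := by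
    rw [← index_cross]; exact Subgroup.relIndex_dvd_index_of_le hNK
  obtain ⟨k, hk⟩ := hd
  rw [hk, hcard] at hv
  generalize crossGroup.relIndex K = m at *
  obtain ⟨d, rfl⟩ : 4095 ∣ m := by omega
  have hd' : d ∣ 2025 := by
    refine (Nat.mul_dvd_mul_iff_left (by norm_num : 0 < 4095)).mp ?_
    simpa using hdm
  have hle : d < 2026 := Nat.lt_succ_of_le (Nat.le_of_dvd (by norm_num) hd')
  have key : ∀ d < 2026, d ∣ 2025 → 4095 * d % 23 = 1 → d = 1 ∨ d = 2025 := by decide +kernel
  rcases key d hle hd' hm with rfl | rfl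
  · exact Or.inr (by norm_num)
  · refine Or.inl (Subgroup.eq_top_of_card_eq K ?_)
    rw [hcard, card_co0]

omit hNK

/-! ### Index 4095 is impossible -/

/-- Two subgroups of order `p` are conjugate if `p²` does not divide the order. -/
theorem exists_conj_zpow {G : Type*} [Group G] [Finite G] {p : ℕ} [hp : Fact p.Prime]
    (h2 : ¬ p ^ 2 ∣ Nat.card G) {x y : G} (hx : orderOf x = p) (hy : orderOf y = p) :
    ∃ (h : G) (j : ℤ), x = h * y ^ j * h⁻¹ := by
  have key : ∀ z : G, orderOf z = p → ∃ P : Sylow p G, (P : Subgroup G) = Subgroup.zpowers z := by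
    intro z hz
    have hc : Nat.card (Subgroup.zpowers z) = p := by rw [Nat.card_zpowers, hz]
    obtain ⟨P, hP⟩ := IsPGroup.exists_le_sylow
      (IsPGroup.of_card (n := 1) (by rw [hc, pow_one]) : IsPGroup p (Subgroup.zpowers z))
    refine ⟨P, (Subgroup.eq_of_le_of_card_ge hP ?_).symm⟩
    rw [hc, Sylow.card_eq_multiplicity]
    have : (Nat.card G).factorization p ≤ 1 := by
      by_contra hlt
      exact h2 ((Nat.pow_dvd_pow p (by omega : 2 ≤ (Nat.card G).factorization p)).trans
        (Nat.ordProj_dvd _ _))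
    calc p ^ (Nat.card G).factorization p ≤ p ^ 1 := Nat.pow_le_pow_right hp.out.pos this
      _ = p := pow_one p
  obtain ⟨P, hP⟩ := key x hx
  obtain ⟨Q, hQ⟩ := key y hy
  obtain ⟨h, hh⟩ := MulAction.exists_smul_eq G Q P
  have hxP : x ∈ ((h • Q : Sylow p G) : Subgroup G) := by
    rw [hh, hP]; exact Subgroup.mem_zpowers x
  rw [Sylow.coe_subgroup_smul, Subgroup.mem_smul_pointwise_iff_exists] at hxP
  obtain ⟨z, hz, e⟩ := hxP
  rw [hQ, Subgroup.mem_zpowers_iff] at hz
  obtain ⟨j, rfl⟩ := hz
  exact ⟨h, j, e.symm⟩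

/-- A permutation of order seven in the code group moves more than seven of any twelve points. -/
theorem no_seven {σ : Equiv.Perm GolayPt} (hσ : σ ∈ M24) (h7 : orderOf σ = 7)
    {d : Finset GolayPt} (hd : d.card = 12) (hinv : ∀ i, σ i ∈ d ↔ i ∈ d) : False := by
  haveI : Fact (Nat.Prime 7) := ⟨by norm_num⟩
  set τ : Equiv.Perm {i // i ∈ d} := σ.subtypePerm hinv with hτ
  have hτ7 : τ ^ 7 ^ 1 = 1 := by
    rw [hτ, Equiv.Perm.subtypePerm_pow]
    ext i
    simp [← h7, pow_orderOf_eq_one]
  have hmod := Equiv.Perm.card_compl_support_modEq hτ7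
  rw [Fintype.card_coe, hd] at hmod
  have h5 : 5 ≤ τ.supportᶜ.card := by
    simp only [Nat.ModEq] at hmod
    omega
  obtain ⟨S, hS, hS5⟩ := Finset.exists_subset_card_eq h5
  let x : Fin 5 ↪ GolayPt :=
    ((S.equivFinOfCardEq hS5).symm.toEmbedding.trans (.subtype _)).trans (.subtype _)
  have hfix : σ • x = x := by
    refine DFunLike.ext _ _ fun i => ?_
    have h1 : ((S.equivFinOfCardEq hS5).symm i).1 ∈ τ.supportᶜ :=
      hS ((S.equivFinOfCardEq hS5).symm i).2
    rw [Finset.mem_compl, Equiv.Perm.notMem_support] at h1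
    exact congrArg Subtype.val h1
  have hcard : Nat.card ↥(M24 ⊓ MulAction.stabilizer (Equiv.Perm GolayPt) x) = 48 := by
    have h := Golay.ncard_mul_card_inf M24 x Set.univ (fun _ _ => Set.mem_univ _) (fun y _ => by
      obtain ⟨g, hg, hgxy⟩ := Golay.exists_map_five x y
      exact ⟨g, hg, DFunLike.ext _ _ hgxy⟩)
    rw [Set.ncard_univ, Nat.card_eq_fintype_card (α := Fin 5 ↪ GolayPt), Fintype.card_embedding_eq,
      Golay.card_M24, card_pt, Fintype.card_fin, show Nat.descFactorial 24 5 = 5100480 from rfl] at h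
    omega
  have hdvd := Subgroup.orderOf_dvd_natCard _
    (show σ ∈ M24 ⊓ MulAction.stabilizer (Equiv.Perm GolayPt) x from ⟨hσ, hfix⟩)
  rw [h7, hcard] at hdvd
  omega

theorem dot_u0 (w : leechLattice) :
    dotInt (vec w) (vec u0) = -3 * vec w none + ∑ a : ZMod 23, vec w (some a) := by
  simp only [dotInt, vec_u0, mul_ite]
  rw [Fintype.sum_option]
  simp
  ring

theorem card_res_two {a : leechLattice} (hn : sqNorm (vec a) = 64)
    (hdot : dotInt (vec a) (vec u0) = 32) (hfix : doubleElt • a = a) :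
    (res 2 (vec a)).card = 12 := by
  have hd := eq_of_double_fixed hfix
  have h1 := sum_double_orbits (fun i => vec a i ^ 2) fun b => by simp only [hd b]
  have h2 := sum_double_orbits (fun i => vec a i * vec u0 i) fun b => by
    simp only [hd b, vec_u0, reduceCtorEq, if_false]
  have h3 := sum_double_orbits (fun i => if vec a i % 4 = 2 then (1 : ℤ) else 0) fun b => by
    simp only [hd b]
  rw [Finset.sum_boole] at h3
  have hres : ((res 2 (vec a)).card : ℤ) = _ := h3
  simp only [vec_u0, reduceCtorEq, if_false, if_true, mul_one] at h2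
  rw [show dotInt (vec a) (vec u0) = ∑ i, vec a i * vec u0 i from rfl] at hdot
  simp only [vec_u0] at hdot
  rw [hdot] at h2
  rw [show sqNorm (vec a) = ∑ i, vec a i ^ 2 from rfl, h1] at hn
  have hb : ∀ i, -8 ≤ vec a i ∧ vec a i ≤ 8 := fun i =>
    coord_le (N := 64) (by rw [sqNorm, h1]; omega) (by norm_num) (by norm_num)
  have key : ∀ α ∈ Finset.Icc (-8 : ℤ) 8, ∀ β ∈ Finset.Icc (-8 : ℤ) 8,
      ∀ γ ∈ Finset.Icc (-2 : ℤ) 2, ∀ δ ∈ Finset.Icc (-2 : ℤ) 2,
      α % 2 = β % 2 → α % 2 = γ % 2 → α % 2 = δ % 2 →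
      α ^ 2 + β ^ 2 + 11 * γ ^ 2 + 11 * δ ^ 2 = 64 → 32 = α * -3 + β + 11 * γ + 11 * δ →
      (if α % 4 = 2 then (1 : ℤ) else 0) + (if β % 4 = 2 then 1 else 0) +
        11 * (if γ % 4 = 2 then 1 else 0) + 11 * (if δ % 4 = 2 then 1 else 0) = 12 := by
    decide +kernel
  have hpar : ∀ i, vec a none % 2 = vec a i % 2 := fun i => by
    rcases mem_leech_iff.mp a.2 with h | h <;>
      (have := h.1 none; have := h.1 i; simp only [vec] at *; omega)
  have hsmall : ∀ b : ℤ, 11 * b ^ 2 ≤ 64 → b ∈ Finset.Icc (-2 : ℤ) 2 := fun b hb => by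
    rw [Finset.mem_Icc]; constructor <;> nlinarith
  have := sq_nonneg (vec a none)
  have := sq_nonneg (vec a (some 0))
  have := sq_nonneg (vec a (some 1))
  have := sq_nonneg (vec a (some 5))
  have := key _ (Finset.mem_Icc.mpr (hb none)) _ (Finset.mem_Icc.mpr (hb (some 0)))
    _ (hsmall (vec a (some 1)) (by omega)) _ (hsmall (vec a (some 5)) (by omega))
    (hpar _) (hpar _) (hpar _) hn h2
  omega

theorem m23_le_cross : m23Elts ≤ crossGroup := by
  rintro _ ⟨σ, -, rfl⟩
  exact axis_monomial σ.2 isCode_empty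

/-- Elements of odd order of the monomial stabiliser of the pair vector fix its two axes. -/
theorem fix_axis_of_odd {n : Co0} (hn : n ∈ crossGroup ⊓ MulAction.stabilizer Co0 v0) {q : ℕ}
    (hq : Odd q) (hnq : n ^ q = 1) : n • eightE none = eightE none := by
  obtain ⟨σ, hσ, c, hc, rfl⟩ := exists_monomial hn.1
  obtain ⟨hs, hp, hq'⟩ := (monomial_mem_pairStab_iff (p := none) (q := some 0) (by simp) hσ hc).mp hn.2
  set n := monomial σ hσ c hc with hndef
  have hpair : ∀ k, k = none ∨ k = some 0 →
      (σ k = none ∨ σ k = some 0) ∧ n • eightE k = eightE (σ k) := by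
    intro k hk
    have h1 : σ k ∈ ({none, some 0} : Finset GolayPt) := by
      rw [← hs]
      exact Finset.smul_mem_smul_finset (by simpa using hk)
    have h2 : σ k = none ∨ σ k = some 0 := by simpa using h1
    refine ⟨h2, ?_⟩
    rw [hndef, monomial_apply_eightE, if_neg]
    rcases h2 with e | e <;> rw [e] <;> assumption
  obtain ⟨hσ1, he⟩ := hpair none (Or.inl rfl)
  rcases hσ1 with e | e
  · rw [he, e]
  obtain ⟨hσ2, he2⟩ := hpair (some 0) (Or.inr rfl)
  have e2 : σ (some 0) = none := by
    rcases hσ2 with h | h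
    · exact h
    · exact absurd (σ.injective (h.trans e.symm)) (by simp)
  have h2 : n * n ∈ MulAction.stabilizer Co0 (eightE none) := by
    rw [MulAction.mem_stabilizer_iff, mul_smul, he, e, he2, e2]
  obtain ⟨t, rfl⟩ := hq
  have h4 : n = n ^ (2 * t + 1) * ((n * n) ^ t)⁻¹ := by
    rw [← pow_two, ← pow_mul, pow_succ', mul_inv_cancel_right]
  have h5 : n ∈ MulAction.stabilizer Co0 (eightE none) := by
    rw [h4, hnq, one_mul]; exact inv_mem (pow_mem h2 t)
  exact h5

theorem relIndex_ne (hNK : crossGroup ≤ K) (hO : MulAction.orbit K v0 = Shell) :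
    crossGroup.relIndex K ≠ 4095 := by
  intro hm
  obtain ⟨⟨g, hgK⟩, hg⟩ : u0 ∈ MulAction.orbit K v0 := by rw [hO]; exact sqNorm_u0
  replace hg : g • v0 = u0 := hg
  set Ku := K ⊓ MulAction.stabilizer Co0 u0
  set A := (crossGroup ⊓ MulAction.stabilizer Co0 v0).map (MulAut.conj g).toMonoidHom with hA
  have hAle : A ≤ Ku := by
    rintro _ ⟨n, hn, rfl⟩
    refine ⟨K.mul_mem (K.mul_mem hgK (hNK hn.1)) (K.inv_mem hgK), ?_⟩
    show (g * n * g⁻¹) • u0 = u0
    rw [← hg, ← mul_smul, inv_mul_cancel_right, mul_smul, show n • v0 = v0 from hn.2]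
  have hAcard : Nat.card A = 908328960 := by
    rw [hA, Subgroup.card_map_of_injective (MulAut.conj g).injective, card_N_v0]
  have hAi : A.relIndex Ku = 23 := by
    have h := Subgroup.card_mul_index (A.subgroupOf Ku)
    rw [Nat.card_congr (Subgroup.subgroupOfEquivOfLe hAle).toEquiv, hAcard] at h
    have hu : 196560 * Nat.card Ku = Nat.card K := card_stab_of_shell hNK hO sqNorm_u0
    rw [card_eq_mul_relIndex hNK, hm] at hu
    rw [Subgroup.relIndex]
    omega
  set a := g • eightE none with ha
  have han : sqNorm (vec a) = 64 := by rw [ha, norm_smul', sqNorm_eightE]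
  have hadot : dotInt (vec a) (vec u0) = 32 := by
    rw [ha, ← hg, dot_smul, dotInt, Finset.sum_eq_single (none : GolayPt)]
    · simp [eightE, v0, pairVec, vec]
    · intro b _ hb; simp [eightE, vec, hb]
    · simp
  have hfix : ∀ y ∈ A, ∀ q, Odd q → y ^ q = 1 → y • a = a := by
    rintro _ ⟨n, hn, rfl⟩ q hq hy
    have hn1 : n ^ q = 1 := by
      refine (MulAut.conj g).injective ?_
      rw [map_pow, map_one]; exact hy
    show (g * n * g⁻¹) • g • eightE none = g • eightE none
    rw [← mul_smul, inv_mul_cancel_right, mul_smul, fix_axis_of_odd hn hq hn1]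
  have hMKu : m23Elts ≤ Ku := fun y hy => ⟨hNK (m23_le_cross hy), m23Elts_le (Or.inr rfl) hy⟩
  set H := A.subgroupOf m23Elts with hH
  haveI := isSimple_m23Elts
  have hHne : H ≠ ⊤ := by
    intro htop
    have hs : (⟨shiftElt, shiftElt_mem⟩ : m23Elts) ∈ H := by rw [htop]; exact Subgroup.mem_top _
    have := hfix _ hs 23 (by decide)
      (show shiftElt ^ 23 = 1 by rw [← orderOf_shiftElt, pow_orderOf_eq_one])
    rcases eight_none_of_shift_fixed han this with e | e <;>
      rw [e, dot_u0] at hadot <;> simp [eightE, vec] at hadot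
  have hle : H.index ≤ 23 := by
    rw [← hAi]
    exact Subgroup.relIndex_le_of_le_right hMKu (by rw [hAi]; norm_num)
  have hcardH : Nat.card H = 443520 := by
    have hinj : Function.Injective (MulAction.toPermHom m23Elts (m23Elts ⧸ H)) := by
      rw [← MonoidHom.ker_eq_bot_iff]
      refine (MonoidHom.normal_ker _).eq_bot_or_eq_top.resolve_right fun h => hHne ?_
      rw [← Subgroup.normalCore_eq_ker] at h
      exact top_le_iff.mp (h ▸ H.normalCore_le)
    have hdvd := Subgroup.card_dvd_of_injective _ hinj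
    rw [Nat.card_perm, card_m23Elts, ← Subgroup.index_eq_card] at hdvd
    have h23 := (Nat.Prime.dvd_factorial (by norm_num : Nat.Prime 23)).mp
      ((show 23 ∣ 10200960 by norm_num).trans hdvd)
    have h := Subgroup.card_mul_index H
    rw [card_m23Elts, le_antisymm hle h23] at h
    omega
  haveI : Fact (Nat.Prime 11) := ⟨by norm_num⟩
  haveI : Fact (Nat.Prime 7) := ⟨by norm_num⟩
  obtain ⟨y, hy⟩ := exists_prime_orderOf_dvd_card' (G := H) 11 (by rw [hcardH]; norm_num)
  obtain ⟨z, hz⟩ := exists_prime_orderOf_dvd_card' (G := H) 7 (by rw [hcardH]; norm_num)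
  rw [← Subgroup.orderOf_coe] at hy hz
  have hya : ((y : m23Elts) : Co0) • a = a :=
    hfix _ y.2 11 (by decide) (by rw [← hy, ← SubmonoidClass.coe_pow, pow_orderOf_eq_one]; rfl)
  have hza : ((z : m23Elts) : Co0) • a = a :=
    hfix _ z.2 7 (by decide) (by rw [← hz, ← SubmonoidClass.coe_pow, pow_orderOf_eq_one]; rfl)
  have hdbl : doubleElt ∈ m23Elts :=
    ⟨⟨double23, double23_mem⟩, double23_none, rfl⟩
  obtain ⟨h, j, hconj⟩ := exists_conj_zpow (p := 11) (by rw [card_m23Elts]; norm_num)
    (x := (⟨doubleElt, hdbl⟩ : m23Elts)) (y := (y : m23Elts))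
    (by rw [Subgroup.orderOf_mk, orderOf_doubleElt]) hy
  have ha' : doubleElt • (h : Co0) • a = (h : Co0) • a := by
    have e := congrArg Subtype.val hconj
    simp only [Subgroup.coe_mul, Subgroup.coe_zpow, Subgroup.coe_inv] at e
    rw [e, ← mul_smul, inv_mul_cancel_right, mul_smul]
    congr 1
    have : ((y : m23Elts) : Co0) ^ j ∈ MulAction.stabilizer Co0 a := zpow_mem hya j
    exact this
  have hu : (h : Co0) • u0 = u0 := m23Elts_le (Or.inr rfl) h.2
  have hc : (res 2 (vec ((h : Co0) • a))).card = 12 :=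
    card_res_two (by rw [norm_smul', han]) (by rw [← hu, dot_smul, hadot]) ha'
  obtain ⟨σh, -, hσh⟩ := h.2
  obtain ⟨σz, -, hσz⟩ := (z : m23Elts).2
  have hd : (res 2 (vec a)).card = 12 := by
    rw [← hc]
    refine Finset.card_equiv (σh : Equiv.Perm GolayPt) fun i => ?_
    rw [mem_res, mem_res, ← hσh, permHom_apply, Equiv.symm_apply_apply]
  refine no_seven σz.2 ?_ hd fun i => ?_
  · rw [Subgroup.orderOf_coe, ← orderOf_injective permHom permHom_injective, hσz,
      Subgroup.orderOf_coe]
    exact hz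
  · rw [mem_res, mem_res]
    conv_lhs => rw [← hza, ← hσz, permHom_apply, Equiv.symm_apply_apply]

theorem isCoatom_crossGroup : IsCoatom crossGroup := by
  refine ⟨fun h => ?_, fun K hK => ?_⟩
  · have h1 := index_cross
    rw [h, Subgroup.index_top] at h1
    norm_num at h1
  · obtain ⟨hO, h | h⟩ := relIndex_cases hK.le hK.ne
    · exact h
    · exact absurd h (relIndex_ne hK.le hO)

end Cfsg.Agent.Lib.Leech.CrossMax
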