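import Cfsg.Agent.Lib.Leech.Order

/-!
Generation by monomial and sextet elements; sextet elements are conjugate to sign changes.
-/

set_option autoImplicit false

namespace Cfsg.Agent.Lib.Leech

open Finset GolayUnique
open scoped symmDiff

theorem redGroup_eq_top : redGroup = ⊤ := by
  rw [eq_top_iff]
  intro g _
  obtain ⟨r, hr, hrg⟩ := transitive64_red (v := g • eightE none)
    (by rw [norm_smul', sqNorm_eightE])
  obtain ⟨σ, hσ, c, hc, h⟩ := exists_monomial
    (axis_of_one (g := r * g) (i := none) (j := none) (Or.inl (by rw [mul_smul, hrg])))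
  rw [show g = r⁻¹ * monomial σ hσ c hc by rw [← h, inv_mul_cancel_left]]
  exact mul_mem (inv_mem hr) (monomial_mem_red hσ hc)

/-- The vector with four entries `4` on the first tetrad. -/
def fourVec {P : GolayPt → Fin 6} (hP : IsSextet P) : leechLattice :=
  ⟨fun i => if P i = 0 then 4 else 0, evenVec_mem (evenVec_of_four
    (fun i => by show (if P i = 0 then (4 : ℤ) else 0) % 4 = 0; split_ifs <;> rfl) (by
      rw [Finset.sum_ite, Finset.sum_const_zero, add_zero, Finset.sum_const,
        show (univ.filter fun i => P i = 0) = tetUnion P {0} by simp [tetUnion], hP.card]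
      rfl))⟩

theorem sqNorm_fourVec {P : GolayPt → Fin 6} (hP : IsSextet P) :
    sqNorm (vec (fourVec hP)) = 64 := by
  show ∑ i, (if P i = 0 then (4 : ℤ) else 0) ^ 2 = 64
  rw [Finset.sum_congr rfl fun i _ => show (if P i = 0 then (4 : ℤ) else 0) ^ 2 =
      if P i = 0 then 16 else 0 by split_ifs <;> norm_num,
    Finset.sum_ite, Finset.sum_const_zero, add_zero, Finset.sum_const,
    show (univ.filter fun i => P i = 0) = tetUnion P {0} by simp [tetUnion], hP.card]
  rfl

/-- The vectors congruent to `fourVec` are eigenvectors of the sextet element. -/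
theorem sextet_eigen {P : GolayPt → Fin 6} (hP : IsSextet P) {w z : leechLattice}
    (hn : sqNorm (vec w) = 64) (h : fourVec hP - w = (2 : ℤ) • z) :
    sextetElt hP • w = w ∨ sextetElt hP • w = -w := by
  have hz : ∀ k, vec w k = (if P k = 0 then 4 else 0) - 2 * vec z k := fun k => by
    have := congrFun (congrArg vec h) k
    simp [fourVec, vec] at this
    simp only [vec]
    omega
  have hb : ∀ k, -8 ≤ vec w k ∧ vec w k ≤ 8 := fun k =>
    coord_le (N := 64) hn.le (by norm_num) (by norm_num)
  by_cases h8 : ∃ j, vec w j = 8 ∨ vec w j = -8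
  · exfalso
    obtain ⟨j, hj⟩ := h8
    obtain ⟨l, hl⟩ : ∃ l, fourVec hP = eightE l ∨ fourVec hP = -eightE l := by
      rcases eq_single_of_eight hn hj with e | e
      · exact eight_congr (sqNorm_fourVec hP) (z := -z) (i := j)
          (by rw [← e, smul_neg, ← h, neg_sub])
      · refine eight_congr (sqNorm_fourVec hP) (z := eightE j - z) (i := j) ?_
        rw [smul_sub, ← h, e, two_zsmul]
        abel
    rcases hl with e | e <;> have := congrFun (congrArg vec e) l <;>
      simp [fourVec, eightE, vec] at this <;> split_ifs at this <;> omega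
  push Not at h8
  rcases mem_leech_iff.mp z.2 with he | ho
  · have hval : ∀ k, vec w k = 0 ∨ vec w k = 4 ∨ vec w k = -4 := fun k => by
      have := hz k
      have := he.1 k
      have := hb k
      have := h8 k
      simp only [vec] at *
      split_ifs at * <;> omega
    set T' := univ.filter fun k => vec w k ≠ 0 with hT'
    have hcount : sqNorm (vec w) = 16 * (T'.card : ℤ) := by
      rw [sqNorm, Finset.sum_congr rfl fun k _ => show vec w k ^ 2 =
        16 * (if vec w k ≠ 0 then 1 else 0) by
          rcases hval k with e | e | e <;> rw [e] <;> norm_num,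
        ← Finset.mul_sum, Finset.sum_boole]
    have hsupp : res 2 (vec z) = tetUnion P {0} ∆ T' := by
      ext k
      simp only [mem_res, Finset.mem_symmDiff, mem_tetUnion, Finset.mem_singleton, hT',
        Finset.mem_filter, Finset.mem_univ, true_and]
      have := hz k
      have := he.1 k
      have := hval k
      simp only [vec] at *
      split_ifs at * <;> omega
    have hcode := he.2.1
    rw [show res 2 ((z : leechLattice) : GolayPt → ℤ) = tetUnion P {0} ∆ T' from hsupp] at hcode
    obtain ⟨t, ht⟩ : ∃ t, T' = tetUnion P {t} := by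
      have hcs := card_symmDiff_add (tetUnion P {0}) T'
      have hw := hcode.weights
      rw [hP.card] at hcs
      rcases (by omega : (tetUnion P {0} ∆ T').card = 0 ∨ (tetUnion P {0} ∆ T').card = 8) with
        e | e
      · exact ⟨0, (symmDiff_eq_bot.mp (Finset.card_eq_zero.mp e)).symm⟩
      · have hi : (tetUnion P {0} ∩ T').card = 0 := by omega
        have hdis : Disjoint (tetUnion P {0}) T' :=
          Finset.disjoint_iff_inter_eq_empty.mpr (Finset.card_eq_zero.mp hi)
        obtain ⟨t, ht0, ht⟩ := exists_label hP (o := tetUnion P {0} ∆ T') ⟨hcode, e⟩ (fun x hx =>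
          Finset.mem_symmDiff.mpr (Or.inl ⟨hx, Finset.disjoint_left.mp hdis hx⟩))
        refine ⟨t, ?_⟩
        have e1 : T' = tetUnion P {0, t} ∆ tetUnion P {0} := by
          rw [ht, symmDiff_comm (tetUnion P {0}) T', symmDiff_symmDiff_cancel_right]
        rw [e1, ← tetUnion_symmDiff]
        congr 1
        exact (by decide : ∀ u : Fin 6, u ≠ 0 → ({0, u} : Finset (Fin 6)) ∆ {0} = {u}) t ht0
    have hout : ∀ s, s ≠ t → tetSum P (vec w) s = 0 := fun s hs =>
      Finset.sum_eq_zero fun k hk => by
        by_contra hne
        have h1 : k ∈ T' := Finset.mem_filter.mpr ⟨Finset.mem_univ _, hne⟩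
        rw [ht, mem_tetUnion, Finset.mem_singleton] at h1
        rw [mem_tetUnion, Finset.mem_singleton] at hk
        exact hs (hk.symm.trans h1)
    have htot : ∑ k, vec w k = tetSum P (vec w) t := by
      rw [← sum_fiber P, Finset.sum_eq_single t (fun s _ hs => hout s hs)
        (fun h => absurd (Finset.mem_univ t) h)]
    have h16 : tetSum P (vec w) t % 16 = 0 := by
      have hzs := he.2.2
      rw [← htot, Finset.sum_congr rfl fun k _ => hz k, Finset.sum_sub_distrib, ← Finset.mul_sum,
        Finset.sum_ite, Finset.sum_const_zero, add_zero, Finset.sum_const,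
        show (univ.filter fun i => P i = 0) = tetUnion P {0} by simp [tetUnion], hP.card,
        nsmul_eq_mul]
      simp only [vec] at *
      omega
    have hbound : -16 ≤ tetSum P (vec w) t ∧ tetSum P (vec w) t ≤ 16 := by
      constructor
      · have := Finset.card_nsmul_le_sum (tetUnion P {t}) (vec w) (-4) (fun k _ => by
          rcases hval k with e | e | e <;> omega)
        rw [hP.card] at this
        simpa [tetSum] using this
      · have := Finset.sum_le_card_nsmul (tetUnion P {t}) (vec w) 4 (fun k _ => by
          rcases hval k with e | e | e <;> omega)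
        rw [hP.card] at this
        simpa [tetSum] using this
    have hin : ∀ k, P k = t → vec w k = 4 ∨ vec w k = -4 := fun k hk => by
      have h1 : k ∈ T' := by rw [ht, mem_tetUnion, hk]; exact Finset.mem_singleton_self t
      exact (hval k).resolve_left (Finset.mem_filter.mp h1).2
    have hzero : ∀ k, P k ≠ t → vec w k = 0 := fun k hk => by
      by_contra hne
      have h1 : k ∈ T' := Finset.mem_filter.mpr ⟨Finset.mem_univ _, hne⟩
      rw [ht, mem_tetUnion, Finset.mem_singleton] at h1
      exact hk h1
    rcases (by omega : tetSum P (vec w) t = 0 ∨ tetSum P (vec w) t = 16 ∨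
        tetSum P (vec w) t = -16) with e | e
    · by_cases ht0 : t = 0
      · left
        apply Subtype.ext; funext k
        show sextetMap P (vec w) k = vec w k
        by_cases hk : P k = t
        · simp only [sextetMap, tetSign, hk, e, if_pos ht0]; omega
        · simp only [sextetMap, hout _ hk, hzero k hk]; simp
      · right
        apply Subtype.ext; funext k
        show sextetMap P (vec w) k = -vec w k
        by_cases hk : P k = t
        · simp only [sextetMap, tetSign, hk, e, if_neg ht0]; omega
        · simp only [sextetMap, hout _ hk, hzero k hk]; simp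
    · have hsame : ∀ k, P k = t → 2 * (2 * vec w k) = tetSum P (vec w) t := by
        intro k hk
        have hrest : -12 ≤ ∑ j ∈ (tetUnion P {t}).erase k, vec w j ∧
            ∑ j ∈ (tetUnion P {t}).erase k, vec w j ≤ 12 := by
          have hkm : k ∈ tetUnion P {t} := by simp [mem_tetUnion, hk]
          constructor
          · have := Finset.card_nsmul_le_sum ((tetUnion P {t}).erase k) (vec w) (-4) (fun j _ => by
              rcases hval j with e | e | e <;> omega)
            rw [Finset.card_erase_of_mem hkm, hP.card] at this
            simpa using this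
          · have := Finset.sum_le_card_nsmul ((tetUnion P {t}).erase k) (vec w) 4 (fun j _ => by
              rcases hval j with e | e | e <;> omega)
            rw [Finset.card_erase_of_mem hkm, hP.card] at this
            simpa using this
        have hs := Finset.add_sum_erase (tetUnion P {t}) (vec w)
          (show k ∈ tetUnion P {t} by simp [mem_tetUnion, hk])
        rw [show ∑ j ∈ tetUnion P {t}, vec w j = tetSum P (vec w) t from rfl] at hs
        have := hin k hk
        omega
      by_cases ht0 : t = 0
      · right
        apply Subtype.ext; funext k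
        show sextetMap P (vec w) k = -vec w k
        by_cases hk : P k = t
        · have := hsame k hk
          simp only [sextetMap, tetSign, hk, if_pos ht0]; omega
        · simp only [sextetMap, hout _ hk, hzero k hk]; simp
      · left
        apply Subtype.ext; funext k
        show sextetMap P (vec w) k = vec w k
        by_cases hk : P k = t
        · have := hsame k hk
          simp only [sextetMap, tetSign, hk, if_neg ht0]; omega
        · simp only [sextetMap, hout _ hk, hzero k hk]; simp
  · exfalso
    have h4 : 4 * ((univ : Finset GolayPt).card : ℤ) ≤ sqNorm (vec w) := by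
      rw [show (4 : ℤ) * ((univ : Finset GolayPt).card : ℤ) = ∑ _k : GolayPt, (4 : ℤ) by
        rw [Finset.sum_const, nsmul_eq_mul]; ring]
      refine Finset.sum_le_sum fun k _ => ?_
      have := hz k
      have := ho.1 k
      simp only [vec] at *
      rcases (by split_ifs at * <;> omega : 2 ≤ (w : GolayPt → ℤ) k ∨ (w : GolayPt → ℤ) k ≤ -2)
        with e | e <;> nlinarith
    rw [Finset.card_univ, card_pt, hn] at h4
    norm_num at h4

/-- A monomial element fixing every axis is a sign change. -/
theorem eq_flip_of_axes {g : Co0} (h : ∀ i, g • eightE i = eightE i ∨ g • eightE i = -eightE i) :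
    ∃ c, ∃ hc : IsCode c, g = flip c hc := by
  obtain ⟨σ, hσ, c, hc, rfl⟩ := exists_monomial (fun i => ⟨i, h i⟩)
  have hσ1 : σ = 1 := Equiv.ext fun i => by
    refine eightE_inj ?_
    have h' := h i
    rw [monomial_apply_eightE] at h'
    split_ifs at h' <;> rcases h' with e | e
    · exact Or.inr (by rw [Equiv.Perm.one_apply, ← e, neg_neg])
    · exact Or.inl (neg_injective e)
    · exact Or.inl e
    · exact Or.inr e
  subst hσ1
  exact ⟨c, hc, rfl⟩

/-- A sextet element is conjugate to a sign change. -/
theorem exists_conj_flip {P : GolayPt → Fin 6} (hP : IsSextet P) :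
    ∃ g : Co0, ∃ c, ∃ hc : IsCode c, g⁻¹ * sextetElt hP * g = flip c hc := by
  obtain ⟨r, hr⟩ := transitive64 (sqNorm_fourVec hP)
  refine ⟨r⁻¹, eq_flip_of_axes fun i => ?_⟩
  have hg : r⁻¹ • eightE none = fourVec hP := by rw [← hr, inv_smul_smul]
  obtain ⟨z, hz⟩ : ∃ z : leechLattice, eightE none - eightE i = (2 : ℤ) • z :=
    ⟨⟨_, four_pm_mem (i := none) (j := i) 1 (-1) (by norm_num)⟩, by
      apply Subtype.ext
      funext l
      simp [eightE, Pi.single_apply]
      split_ifs <;> norm_num⟩
  rcases sextet_eigen hP (w := r⁻¹ • eightE i) (z := r⁻¹ • z)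
    (by rw [norm_smul', sqNorm_eightE]) (by rw [← hg, ← smul_sub', hz, smul_zsmul']) with e | e
  · exact Or.inl (by rw [mul_smul, mul_smul, e, inv_inv, smul_inv_smul])
  · exact Or.inr (by rw [mul_smul, mul_smul, e, inv_inv, smul_neg', smul_inv_smul])

end Cfsg.Agent.Lib.Leech
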