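import Mathlib

/-!
A family of subsets closed under symmetric difference with pairwise even intersections is small.
-/

set_option autoImplicit false

namespace Cfsg.Agent.Lib.Leech

open Finset
open scoped symmDiff

theorem card_sq_le_of_even_inter {α : Type*} [Fintype α] [DecidableEq α] (C : Finset (Finset α))
    (hadd : ∀ a ∈ C, ∀ b ∈ C, a ∆ b ∈ C) (heven : ∀ a ∈ C, ∀ b ∈ C, Even (a ∩ b).card) :
    C.card * C.card ≤ 2 ^ Fintype.card α := by
  classical
  rcases C.eq_empty_or_nonempty with rfl | ⟨a₀, ha₀⟩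
  · simp
  set χ : Finset α → Finset α → ℤ := fun c x => ∏ i ∈ c, if i ∈ x then -1 else 1 with hχ
  have hχc : ∀ c x, χ c x = (-1) ^ (c ∩ x).card := fun c x => by
    simp only [hχ]
    rw [Finset.prod_ite, Finset.prod_const, Finset.prod_const_one, mul_one,
      Finset.filter_mem_eq_inter]
  have hmul : ∀ c d x, χ c x * χ d x = χ (c ∆ d) x := fun c d x => by
    simp only [hχc, ← pow_add]
    have e : (c ∆ d) ∩ x = (c ∩ x) ∆ (d ∩ x) := by
      ext i; simp only [Finset.mem_inter, Finset.mem_symmDiff]; tauto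
    rw [e]
    have h1 : ((c ∩ x) ∆ (d ∩ x)).card + 2 * ((c ∩ x) ∩ (d ∩ x)).card =
        (c ∩ x).card + (d ∩ x).card := by
      have h2 := Finset.card_union_add_card_inter (c ∩ x) (d ∩ x)
      have h3 := Finset.card_sdiff_add_card_eq_card
        (show (c ∩ x) ∩ (d ∩ x) ⊆ (c ∩ x) ∪ (d ∩ x) from
          fun i hi => Finset.mem_union_left _ (Finset.mem_inter.mp hi).1)
      rw [show (c ∩ x) ∆ (d ∩ x) = ((c ∩ x) ∪ (d ∩ x)) \ ((c ∩ x) ∩ (d ∩ x)) from
        symmDiff_eq_sup_sdiff_inf _ _]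
      omega
    rw [← h1, pow_add, pow_mul]
    simp
  have hsum : ∀ c : Finset α, ∑ x : Finset α, χ c x = if c = ∅ then 2 ^ Fintype.card α else 0 := by
    intro c
    split_ifs with hc
    · subst hc
      simp [hχ, Fintype.card_finset]
    · obtain ⟨i, hi⟩ := Finset.nonempty_iff_ne_empty.mpr hc
      have key : ∀ x : Finset α, χ c (x ∆ {i}) = -χ c x := by
        intro x
        simp only [hχ]
        rw [← Finset.mul_prod_erase _ _ hi, ← Finset.mul_prod_erase _ _ hi,
          Finset.prod_congr rfl (fun j hj => show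
            (if j ∈ x ∆ {i} then (-1 : ℤ) else 1) = if j ∈ x then -1 else 1 by
              simp [Finset.mem_symmDiff, Finset.ne_of_mem_erase hj])]
        by_cases hix : i ∈ x <;> simp [Finset.mem_symmDiff, hix]
      have hflip : ∑ x : Finset α, χ c x = ∑ x : Finset α, χ c (x ∆ {i}) :=
        (Equiv.sum_comp (Function.Involutive.toPerm (fun x : Finset α => x ∆ {i})
          (fun x => symmDiff_symmDiff_cancel_right _ _)) (χ c)).symm
      rw [Finset.sum_congr rfl fun x _ => key x, Finset.sum_neg_distrib] at hflip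
      omega
  have hinner : ∑ x : Finset α, (∑ c ∈ C, χ c x) ^ 2 = 2 ^ Fintype.card α * (C.card : ℤ) := by
    rw [Finset.sum_congr rfl fun x _ => show (∑ c ∈ C, χ c x) ^ 2 =
        ∑ c ∈ C, ∑ d ∈ C, χ (c ∆ d) x by
      rw [sq, Finset.sum_mul_sum]
      exact Finset.sum_congr rfl fun c _ => Finset.sum_congr rfl fun d _ => hmul c d x,
      Finset.sum_comm, Finset.sum_congr rfl fun c hc => (show ∑ x : Finset α,
        ∑ d ∈ C, χ (c ∆ d) x = 2 ^ Fintype.card α by
        rw [Finset.sum_comm, Finset.sum_congr rfl fun d _ => hsum (c ∆ d),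
          Finset.sum_congr rfl fun d _ => if_congr
            (show c ∆ d = ∅ ↔ c = d from symmDiff_eq_bot) rfl rfl,
          Finset.sum_ite_eq, if_pos hc]),
      Finset.sum_const, nsmul_eq_mul, mul_comm]
  have hlow : (C.card : ℤ) * (C.card : ℤ) ^ 2 ≤ 2 ^ Fintype.card α * (C.card : ℤ) := by
    rw [← hinner]
    refine le_trans (le_of_eq ?_) (Finset.sum_le_sum_of_subset_of_nonneg (Finset.subset_univ C)
      fun x _ _ => sq_nonneg _)
    rw [Finset.sum_congr rfl (fun x hx => show (∑ c ∈ C, χ c x) ^ 2 = (C.card : ℤ) ^ 2 by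
      rw [Finset.sum_congr rfl fun c hc => show χ c x = 1 by
        rw [hχc]; exact (heven c hc x hx).neg_one_pow]
      simp), Finset.sum_const, nsmul_eq_mul]
  have hpos : (0 : ℤ) < C.card := by exact_mod_cast Finset.card_pos.mpr ⟨a₀, ha₀⟩
  have : ((C.card * C.card : ℕ) : ℤ) ≤ ((2 ^ Fintype.card α : ℕ) : ℤ) := by
    push_cast
    nlinarith
  exact_mod_cast this

end Cfsg.Agent.Lib.Leech
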