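import Cfsg.Agent.Lib.Leech.Co0
import Cfsg.Agent.Lib.Leech.SelfOrth
import Cfsg.Agent.Lib.GolayUnique.Steiner

/-!
A set of integer vectors on 24 points with the local properties of the Leech lattice in the
coordinates of a cross is a signed permutation image of it.
-/

set_option autoImplicit false

namespace Cfsg.Agent.Lib.Leech

open Finset GolayUnique
open scoped symmDiff

/-- The properties of the Leech lattice in the coordinates of a cross. -/
structure LeechLike (M : AddSubgroup (GolayPt → ℤ)) : Prop where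
  norm16 : ∀ x ∈ M, (16 : ℤ) ∣ sqNorm x
  minimum : ∀ x ∈ M, x ≠ 0 → 32 ≤ sqNorm x
  dot8 : ∀ x ∈ M, ∀ y ∈ M, (8 : ℤ) ∣ dotInt x y
  eight : ∀ i, (Pi.single i 8 : GolayPt → ℤ) ∈ M
  four : ∀ i j, (Pi.single i 4 - Pi.single j 4 : GolayPt → ℤ) ∈ M
  parity : ∀ x ∈ M, ∀ i j, x i % 2 = x j % 2
  count : {x | x ∈ M ∧ sqNorm x = 32}.ncard = 196560

/-- Twice an indicator vector. -/
def twoVec (c : Finset GolayPt) : GolayPt → ℤ := fun i => if i ∈ c then 2 else 0

theorem res_twoVec (c : Finset GolayPt) : res 2 (twoVec c) = c := by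
  ext i; simp only [mem_res, twoVec]; split_ifs with h <;> simp [h]

theorem sqNorm_twoVec_sub {c : Finset GolayPt} {k : GolayPt} (hk : k ∈ c) :
    sqNorm (twoVec c - Pi.single k 4) = 4 * c.card := by
  show ∑ i, (twoVec c i - (Pi.single k 4 : GolayPt → ℤ) i) ^ 2 = _
  rw [Finset.sum_congr rfl fun i _ => show (twoVec c i - (Pi.single k 4 : GolayPt → ℤ) i) ^ 2 =
    if i ∈ c then 4 else 0 by
      rcases eq_or_ne i k with rfl | h
      · simp [twoVec, hk]
      · simp only [twoVec, Pi.single_eq_of_ne h, sub_zero]; split_ifs <;> norm_num,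
    Finset.sum_ite_mem, Finset.univ_inter, Finset.sum_const, nsmul_eq_mul, mul_comm]

theorem sqNorm_twoVec (c : Finset GolayPt) : sqNorm (twoVec c) = 4 * c.card := by
  show ∑ i, twoVec c i ^ 2 = _
  rw [Finset.sum_congr rfl fun i _ => show twoVec c i ^ 2 = if i ∈ c then 4 else 0 by
      simp only [twoVec]; split_ifs <;> norm_num,
    Finset.sum_ite_mem, Finset.univ_inter, Finset.sum_const, nsmul_eq_mul, mul_comm]

namespace LeechLike

variable {M : AddSubgroup (GolayPt → ℤ)} (h : LeechLike M)
include h

theorem four_mem {x : GolayPt → ℤ} (h4 : ∀ i, x i % 4 = 0) (h8 : (∑ i, x i) % 8 = 0) : x ∈ M := by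
  have e : x = ∑ i, (x i / 4) • (Pi.single i 4 - Pi.single none 4 : GolayPt → ℤ) +
      ((∑ i, x i) / 8) • (Pi.single none 8 : GolayPt → ℤ) := by
    funext j
    simp only [Pi.add_apply, Finset.sum_apply, Pi.smul_apply, Pi.sub_apply, smul_eq_mul,
      mul_sub, Finset.sum_sub_distrib]
    rw [Finset.sum_eq_single j (fun i _ hi => by rw [Pi.single_eq_of_ne (Ne.symm hi), mul_zero])
      (fun hj => absurd (Finset.mem_univ j) hj), Pi.single_eq_same]
    rcases eq_or_ne j none with rfl | hj
    · have hs : ∑ i, x i / 4 * (4 : ℤ) = ∑ i, x i :=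
        Finset.sum_congr rfl fun i _ => by have := h4 i; omega
      rw [Pi.single_eq_same, Pi.single_eq_same, hs]
      have := h4 none
      omega
    · rw [Pi.single_eq_of_ne hj, Pi.single_eq_of_ne hj]
      simp only [mul_zero, Finset.sum_const_zero]
      have := h4 j
      omega
  rw [e]
  exact M.add_mem (M.sum_mem fun i _ => M.zsmul_mem (h.four i none) _) (M.zsmul_mem (h.eight _) _)

theorem four_single_not_mem (i : GolayPt) : (Pi.single i 4 : GolayPt → ℤ) ∉ M := by
  intro hm
  have h32 := h.minimum _ hm (fun e => by have := congrFun e i; simp at this)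
  have : sqNorm (Pi.single i 4 : GolayPt → ℤ) = 16 := by
    show ∑ k, (Pi.single i 4 : GolayPt → ℤ) k ^ 2 = 16
    rw [Finset.sum_eq_single i (fun k _ hk => by rw [Pi.single_eq_of_ne hk]; rfl)
      (fun hi => absurd (Finset.mem_univ i) hi), Pi.single_eq_same]
    rfl
  omega

theorem four_sum {x : GolayPt → ℤ} (hx : x ∈ M) (h4 : ∀ i, x i % 4 = 0) :
    (∑ i, x i) % 8 = 0 := by
  by_contra hne
  apply h.four_single_not_mem none
  have hd : (4 : ℤ) ∣ ∑ i, x i := Finset.dvd_sum fun i _ => by have := h4 i; omega
  have hy : x - Pi.single none 4 ∈ M := by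
    refine h.four_mem (fun i => ?_) ?_
    · rcases eq_or_ne i none with rfl | hi
      · simp only [Pi.sub_apply, Pi.single_eq_same]; have := h4 none; omega
      · simp only [Pi.sub_apply, Pi.single_eq_of_ne hi]; have := h4 i; omega
    · simp only [Pi.sub_apply, Finset.sum_sub_distrib]
      rw [Finset.sum_pi_single' none (4 : ℤ) univ, if_pos (Finset.mem_univ _)]
      omega
  have := M.sub_mem hx hy
  rwa [sub_sub_cancel] at this

/-- The code of the even part. -/
noncomputable def code (_ : LeechLike M) : Finset (Finset GolayPt) := by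
  classical exact univ.filter fun c => ∃ x ∈ M, (∀ i, x i % 2 = 0) ∧ res 2 x = c

theorem mem_code {c : Finset GolayPt} :
    c ∈ h.code ↔ ∃ x ∈ M, (∀ i, x i % 2 = 0) ∧ res 2 x = c := by
  simp [code]

theorem two_or {x : GolayPt → ℤ} (hx : x ∈ M) (hev : ∀ i, x i % 2 = 0) (k : GolayPt) :
    twoVec (res 2 x) ∈ M ∨ twoVec (res 2 x) - Pi.single k 4 ∈ M := by
  set c := res 2 x with hc
  have h4 : ∀ i, (x - twoVec c) i % 4 = 0 := fun i => by
    simp only [Pi.sub_apply, twoVec, hc, mem_res]
    have := hev i
    split_ifs <;> omega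
  have hd : (4 : ℤ) ∣ ∑ i, (x - twoVec c) i := Finset.dvd_sum fun i _ => by have := h4 i; omega
  by_cases h8 : (∑ i, (x - twoVec c) i) % 8 = 0
  · left
    have := M.sub_mem hx (h.four_mem h4 h8)
    rwa [sub_sub_cancel] at this
  · right
    have hy : (x - twoVec c) + Pi.single k 4 ∈ M := by
      refine h.four_mem (fun i => ?_) ?_
      · rcases eq_or_ne i k with rfl | hi
        · rw [Pi.add_apply, Pi.single_eq_same]; have := h4 i; omega
        · rw [Pi.add_apply, Pi.single_eq_of_ne hi]; have := h4 i; omega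
      · rw [sum_add, Finset.sum_pi_single' k (4 : ℤ) univ, if_pos (Finset.mem_univ _)]
        omega
    have := M.sub_mem hx hy
    rwa [show x - (x - twoVec c + Pi.single k 4) = twoVec c - Pi.single k 4 by abel] at this

theorem code_weight {c : Finset GolayPt} (hc : c ∈ h.code) :
    4 ∣ c.card ∧ (c = ∅ ∨ 8 ≤ c.card) := by
  rcases c.eq_empty_or_nonempty with rfl | ⟨k, hk⟩
  · simp
  obtain ⟨x, hx, hev, rfl⟩ := h.mem_code.mp hc
  obtain ⟨y, hy, hn, hyk⟩ : ∃ y ∈ M, sqNorm y = 4 * (res 2 x).card ∧ y k ≠ 0 := by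
    rcases h.two_or hx hev k with h' | h'
    · exact ⟨_, h', sqNorm_twoVec _, by simp [twoVec, hk]⟩
    · exact ⟨_, h', sqNorm_twoVec_sub hk, by simp [twoVec, hk]⟩
  have h16 := h.norm16 y hy
  have h32 := h.minimum y hy (fun e => hyk (by rw [e]; rfl))
  rw [hn] at h16 h32
  exact ⟨by omega, Or.inr (by omega)⟩

theorem code_symmDiff : ∀ a ∈ h.code, ∀ b ∈ h.code, a ∆ b ∈ h.code := by
  intro a ha b hb
  obtain ⟨x, hx, hxe, rfl⟩ := h.mem_code.mp ha
  obtain ⟨y, hy, hye, rfl⟩ := h.mem_code.mp hb
  refine h.mem_code.mpr ⟨x + y, M.add_mem hx hy,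
    fun i => by simp only [Pi.add_apply]; have := hxe i; have := hye i; omega, ?_⟩
  ext i
  have := hxe i
  have := hye i
  simp only [Finset.mem_symmDiff, mem_res, Pi.add_apply]
  omega

theorem code_even : ∀ a ∈ h.code, ∀ b ∈ h.code, Even (a ∩ b).card := by
  intro a ha b hb
  obtain ⟨x, hx, hxe, rfl⟩ := h.mem_code.mp ha
  obtain ⟨y, hy, hye, rfl⟩ := h.mem_code.mp hb
  have h8 := h.dot8 x hx y hy
  have h4 : (8 : ℤ) ∣ ∑ i, (x i * y i - if i ∈ res 2 x ∩ res 2 y then 4 else 0) := by
    refine Finset.dvd_sum fun i _ => ?_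
    obtain ⟨a', ha'⟩ : (2 : ℤ) ∣ x i := Int.dvd_of_emod_eq_zero (hxe i)
    obtain ⟨b', hb'⟩ : (2 : ℤ) ∣ y i := Int.dvd_of_emod_eq_zero (hye i)
    simp only [Finset.mem_inter, mem_res, ha', hb']
    have hp : 2 * a' * (2 * b') = 4 * (a' * b') := by ring
    rcases Int.emod_two_eq_zero_or_one a' with ea | ea <;>
      rcases Int.emod_two_eq_zero_or_one b' with eb | eb <;>
      have hab : (a' * b') % 2 = (a' % 2) * (b' % 2) % 2 := Int.mul_emod a' b' 2 <;>
      rw [ea, eb] at hab <;> norm_num at hab <;> rw [hp] <;> split_ifs <;> omega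
  rw [Finset.sum_sub_distrib, Finset.sum_ite_mem, Finset.univ_inter, Finset.sum_const,
    nsmul_eq_mul] at h4
  rw [dotInt] at h8
  rw [Nat.even_iff]
  omega

theorem code_card_le : h.code.card ≤ 4096 := by
  have h1 := card_sq_le_of_even_inter h.code h.code_symmDiff h.code_even
  rw [card_pt] at h1
  by_contra hlt
  push Not at hlt
  have := Nat.mul_le_mul (show 4097 ≤ h.code.card by omega) (show 4097 ≤ h.code.card by omega)
  norm_num at this h1
  omega

/-- The octads. -/
noncomputable def octadSet (h : LeechLike M) : Finset (Finset GolayPt) :=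
  h.code.filter fun c => c.card = 8

theorem octad_unique {s a b : Finset GolayPt} (hs : s.card = 5) (ha : a ∈ h.octadSet)
    (hb : b ∈ h.octadSet) (hsa : s ⊆ a) (hsb : s ⊆ b) : a = b := by
  obtain ⟨ha, ha8⟩ := Finset.mem_filter.mp ha
  obtain ⟨hb, hb8⟩ := Finset.mem_filter.mp hb
  have h1 := GolayUnique.card_symmDiff_add a b
  have h2 := Finset.card_le_card (Finset.subset_inter hsa hsb)
  rcases (h.code_weight (h.code_symmDiff a ha b hb)).2 with e | e
  · exact symmDiff_eq_bot.mp e
  · omega

theorem octad_incidence :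
    h.octadSet.card * 56 = (h.octadSet.sigma fun o => o.powersetCard 5).card ∧
    (h.octadSet.sigma fun o => o.powersetCard 5).card ≤ 42504 ∧
    ((h.octadSet.sigma fun o => o.powersetCard 5).card = 42504 →
      ∀ s : Finset GolayPt, s.card = 5 → ∃ o ∈ h.octadSet, s ⊆ o) := by
  classical
  have hinj : Set.InjOn (fun p : (_ : Finset GolayPt) × Finset GolayPt => p.2)
      ↑(h.octadSet.sigma fun o => o.powersetCard 5) := by
    rintro ⟨a, s⟩ ha ⟨b, s'⟩ hb (rfl : s = s')
    simp only [Finset.mem_coe, Finset.mem_sigma, Finset.mem_powersetCard] at ha hb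
    obtain rfl := h.octad_unique ha.2.2 ha.1 hb.1 ha.2.1 hb.2.1
    rfl
  have himg : (h.octadSet.sigma fun o => o.powersetCard 5).image (fun p => p.2) ⊆
      (univ : Finset GolayPt).powersetCard 5 := by
    intro s hs
    obtain ⟨⟨o, t⟩, hp, rfl⟩ := Finset.mem_image.mp hs
    simp only [Finset.mem_sigma, Finset.mem_powersetCard] at hp
    exact Finset.mem_powersetCard.mpr ⟨Finset.subset_univ _, hp.2.2⟩
  have htot : ((univ : Finset GolayPt).powersetCard 5).card = 42504 := by
    rw [Finset.card_powersetCard, Finset.card_univ, card_pt]; decide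
  refine ⟨?_, ?_, fun heq s hs => ?_⟩
  · rw [Finset.card_sigma, Finset.sum_congr rfl (fun o ho => by
      rw [Finset.card_powersetCard, (Finset.mem_filter.mp ho).2]), Finset.sum_const, smul_eq_mul]
    rfl
  · rw [← Finset.card_image_of_injOn hinj, ← htot]
    exact Finset.card_le_card himg
  · have := Finset.eq_of_subset_of_card_le himg (by rw [Finset.card_image_of_injOn hinj, heq, htot])
    have hm : s ∈ (univ : Finset GolayPt).powersetCard 5 :=
      Finset.mem_powersetCard.mpr ⟨Finset.subset_univ _, hs⟩
    rw [← this] at hm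
    obtain ⟨⟨o, t⟩, hp, rfl⟩ := Finset.mem_image.mp hm
    simp only [Finset.mem_sigma, Finset.mem_powersetCard] at hp
    exact ⟨o, hp.1, hp.2.1⟩

theorem count_bound :
    196560 ≤ 1104 + 128 * h.octadSet.card + 24 * h.code.card ∧
      ∃ z ∈ M, z none % 2 = 1 := by
  classical
  set S := {x | x ∈ M ∧ sqNorm x = 32} with hS
  have hfin : S.Finite := Set.finite_of_ncard_pos (by rw [h.count]; norm_num)
  set F := hfin.toFinset with hF
  have hmem : ∀ x, x ∈ F ↔ x ∈ M ∧ sqNorm x = 32 := fun x => by simp [hF, hS]
  have hFc : F.card = 196560 := by rw [← h.count, Set.ncard_eq_toFinset_card S hfin]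
  have hbd : ∀ x ∈ F, ∀ i, -5 ≤ x i ∧ x i ≤ 5 := fun x hx i => by
    have h1 : x i ^ 2 ≤ 32 := by
      rw [← ((hmem x).mp hx).2]
      exact Finset.single_le_sum (fun k _ => sq_nonneg (x k)) (Finset.mem_univ i)
    constructor <;> nlinarith
  -- split by shape
  set A4 := F.filter fun x => x none % 2 = 0 ∧ res 2 x = ∅
  set A2 := F.filter fun x => x none % 2 = 0 ∧ res 2 x ≠ ∅
  set A1 := F.filter fun x => x none % 2 = 1
  have hsplit : F ⊆ A4 ∪ A2 ∪ A1 := fun x hx => by
    simp only [A4, A2, A1, Finset.mem_union, Finset.mem_filter]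
    rcases Int.emod_two_eq_zero_or_one (x none) with e | e
    · by_cases h0 : res 2 x = ∅
      · exact Or.inl (Or.inl ⟨hx, e, h0⟩)
      · exact Or.inl (Or.inr ⟨hx, e, h0⟩)
    · exact Or.inr ⟨hx, e⟩
  have e4 : A4.card ≤ 1104 := by
    have hshape : ∀ x ∈ A4, (∀ i, x i = 0 ∨ x i = 4 ∨ x i = -4) ∧
        (univ.filter fun i => x i ≠ 0).card = 2 := by
      intro x hx
      simp only [A4, Finset.mem_filter] at hx
      have hval : ∀ i, x i = 0 ∨ x i = 4 ∨ x i = -4 := fun i => by
        have h1 := hbd x hx.1 i
        have h2 : i ∉ res 2 x := by rw [hx.2.2]; simp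
        rw [mem_res] at h2
        have h3 := h.parity x ((hmem x).mp hx.1).1 none i
        omega
      have hn := ((hmem x).mp hx.1).2
      rw [sqNorm, Finset.sum_congr rfl fun i _ => show x i ^ 2 =
        16 * (if x i ≠ 0 then 1 else 0) by
          rcases hval i with e | e | e <;> rw [e] <;> norm_num,
        ← Finset.mul_sum, Finset.sum_boole] at hn
      exact ⟨hval, by omega⟩
    refine (Finset.card_le_card_of_injOn
      (t := ((univ : Finset GolayPt).powersetCard 2).sigma fun T => T.powerset)
      (fun x => ⟨univ.filter fun i => x i ≠ 0, univ.filter fun i => x i = 4⟩) ?_ ?_).trans ?_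
    · intro x hx
      rw [Finset.mem_coe, Finset.mem_sigma, Finset.mem_powersetCard, Finset.mem_powerset]
      refine ⟨⟨Finset.subset_univ _, (hshape x hx).2⟩, fun i hi => ?_⟩
      simp only [Finset.mem_filter, Finset.mem_univ, true_and] at hi ⊢
      rw [hi]
      norm_num
    · intro x hx y hy e
      simp only [Sigma.mk.injEq, heq_eq_eq] at e
      funext i
      have e1 := congrArg (i ∈ ·) e.1
      have e2 := congrArg (i ∈ ·) e.2
      simp only [Finset.mem_filter, Finset.mem_univ, true_and, eq_iff_iff] at e1 e2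
      rcases (hshape x hx).1 i with a | a | a <;> rcases (hshape y hy).1 i with b | b | b <;>
        simp [a, b] at e1 e2 ⊢
    · rw [Finset.card_sigma, Finset.sum_congr rfl (fun T hT => by
        rw [Finset.card_powerset, (Finset.mem_powersetCard.mp hT).2]), Finset.sum_const,
        Finset.card_powersetCard, Finset.card_univ, card_pt, smul_eq_mul,
        show Nat.choose 24 2 = 276 by rw [Nat.choose_two_right]]
      norm_num
  have e2 : A2.card ≤ 128 * h.octadSet.card := by
    have hshape : ∀ x ∈ A2, res 2 x ∈ h.octadSet ∧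
        ∀ i, x i = if i ∈ res 2 x then (if x i = -2 then -2 else 2) else 0 := by
      intro x hx
      simp only [A2, Finset.mem_filter] at hx
      obtain ⟨hxM, hn⟩ := (hmem x).mp hx.1
      have hev : ∀ i, x i % 2 = 0 := fun i => by
        have := h.parity x hxM none i; omega
      have hc : res 2 x ∈ h.code := h.mem_code.mpr ⟨x, hxM, hev, rfl⟩
      have hw := (h.code_weight hc).2.resolve_left hx.2.2
      have h4 : ∀ i ∈ res 2 x, 4 ≤ x i ^ 2 := fun i hi => by
        have := mem_res.mp hi
        rcases (by omega : 2 ≤ x i ∨ x i ≤ -2) with e | e <;> nlinarith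
      have hsum := Finset.sum_add_sum_compl (res 2 x) (fun i => x i ^ 2)
      rw [sqNorm] at hn
      have hge := Finset.card_nsmul_le_sum _ _ 4 h4
      rw [nsmul_eq_mul] at hge
      have hrest : 0 ≤ ∑ i ∈ (res 2 x)ᶜ, x i ^ 2 := Finset.sum_nonneg fun i _ => sq_nonneg _
      refine ⟨Finset.mem_filter.mpr ⟨hc, by omega⟩, fun i => ?_⟩
      have hzero := (Finset.sum_eq_zero_iff_of_nonneg (fun i _ => sq_nonneg (x i))).mp
        (show ∑ i ∈ (res 2 x)ᶜ, x i ^ 2 = 0 by omega)
      by_cases hi : i ∈ res 2 x
      · have h5 := Finset.add_sum_erase (res 2 x) (fun i => x i ^ 2) hi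
        have h6 := Finset.card_nsmul_le_sum ((res 2 x).erase i) (fun i => x i ^ 2) 4
          fun j hj => h4 j (Finset.mem_of_mem_erase hj)
        rw [nsmul_eq_mul, Finset.card_erase_of_mem hi] at h6
        have h7 := hbd x hx.1 i
        have h8 := mem_res.mp hi
        rw [if_pos hi]
        split_ifs with e <;> omega
      · rw [if_neg hi]
        exact pow_eq_zero_iff two_ne_zero |>.mp (hzero i (Finset.mem_compl.mpr hi))
    let key : Finset GolayPt → GolayPt := fun c => if hc : c.Nonempty then hc.choose else none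
    have hkey : ∀ c ∈ h.octadSet, key c ∈ c := fun c hc => by
      have hne : c.Nonempty := Finset.card_pos.mp (by rw [(Finset.mem_filter.mp hc).2]; norm_num)
      simp only [key, dif_pos hne]
      exact hne.choose_spec
    refine (Finset.card_le_card_of_injOn
      (t := h.octadSet.sigma fun c => (c.erase (key c)).powerset)
      (fun x => ⟨res 2 x, (univ.filter fun i => x i = -2).erase (key (res 2 x))⟩) ?_ ?_).trans ?_
    · intro x hx
      refine Finset.mem_coe.mpr (Finset.mem_sigma.mpr ⟨(hshape x hx).1,
        Finset.mem_powerset.mpr fun i hi => ?_⟩)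
      simp only [Finset.mem_erase, Finset.mem_filter, Finset.mem_univ, true_and] at hi ⊢
      exact ⟨hi.1, mem_res.mpr (by omega)⟩
    · intro x hx y hy e
      simp only [Sigma.mk.injEq, heq_eq_eq] at e
      obtain ⟨hc, hse⟩ := e
      have hxs := (hshape x hx).2
      have hys := (hshape y hy).2
      set k := key (res 2 x) with hk
      rw [← hc, ← hk] at hse
      have hoff : ∀ i, i ≠ k → x i = y i := fun i hi => by
        have h1 := congrArg (i ∈ ·) hse
        simp only [Finset.mem_erase, ne_eq, hi, not_false_eq_true, true_and, Finset.mem_filter,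
          Finset.mem_univ, eq_iff_iff] at h1
        have hx' := hxs i
        have hy' := hys i
        rw [← hc] at hy'
        rw [hx', hy']
        simp only [h1]
      have hd : x - y = Pi.single k (x k - y k) := by
        funext i
        rcases eq_or_ne i k with rfl | hi
        · simp
        · rw [Pi.single_eq_of_ne hi, Pi.sub_apply, hoff i hi, sub_self]
      by_contra hne
      have hk2 : x k - y k = 4 ∨ x k - y k = -4 := by
        have hkc : k ∈ res 2 x := hkey _ (hshape x hx).1
        have hx' := hxs k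
        have hy' := hys k
        rw [← hc, if_pos hkc] at hy'
        rw [if_pos hkc] at hx'
        have : x k ≠ y k := fun e => hne (funext fun i => by
          rcases eq_or_ne i k with rfl | hi
          · exact e
          · exact hoff i hi)
        split_ifs at hx' hy' <;> omega
      have hmemd : x - y ∈ M := M.sub_mem ((hmem x).mp (Finset.mem_filter.mp hx).1).1
        ((hmem y).mp (Finset.mem_filter.mp hy).1).1
      rw [hd] at hmemd
      rcases hk2 with e | e <;> rw [e] at hmemd
      · exact h.four_single_not_mem k hmemd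
      · have := M.neg_mem hmemd
        rw [← Pi.single_neg, neg_neg] at this
        exact h.four_single_not_mem k this
    · rw [Finset.card_sigma, Finset.sum_congr rfl (fun c hc => by
        rw [Finset.card_powerset, Finset.card_erase_of_mem (hkey c hc),
          (Finset.mem_filter.mp hc).2]), Finset.sum_const, smul_eq_mul]
      omega
  have e1 : A1.card ≤ 24 * h.code.card := by
    rcases A1.eq_empty_or_nonempty with he | ⟨z, hz⟩
    · rw [he]; simp
    simp only [A1, Finset.mem_filter] at hz
    have hshape : ∀ x ∈ A1, (∀ i, x i % 2 = 1) ∧ ∃ p, (x p = 3 ∨ x p = -3) ∧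
        ∀ i, i ≠ p → (x i = 1 ∨ x i = -1) := by
      intro x hx
      simp only [A1, Finset.mem_filter] at hx
      obtain ⟨hxM, hn⟩ := (hmem x).mp hx.1
      have hodd : ∀ i, x i % 2 = 1 := fun i => by have := h.parity x hxM none i; omega
      have h1 : ∀ i, 1 ≤ x i ^ 2 := fun i => by
        rcases (by have := hodd i; omega : 1 ≤ x i ∨ x i ≤ -1) with e | e <;> nlinarith
      obtain ⟨p, hp⟩ : ∃ p, 9 ≤ x p ^ 2 := by
        by_contra hno
        push Not at hno
        have hle : sqNorm x ≤ 24 := by
          refine le_trans (Finset.sum_le_card_nsmul univ (fun i => x i ^ 2) 1 fun i _ => ?_) ?_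
          · have := hbd x hx.1 i
            have := hno i
            have := hodd i
            rcases (by omega : x i = 1 ∨ x i = -1 ∨ x i = 3 ∨ x i = -3 ∨ x i = 5 ∨ x i = -5) with
              e | e | e | e | e | e <;> simp [e] at * <;> omega
          · rw [Finset.card_univ, card_pt, nsmul_eq_mul]; norm_num
        omega
      rw [sqNorm, ← Finset.add_sum_erase _ _ (Finset.mem_univ p)] at hn
      refine ⟨hodd, p, ?_, fun i hi => ?_⟩
      · have h2 := Finset.card_nsmul_le_sum (univ.erase p) (fun i => x i ^ 2) 1 fun j _ => h1 j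
        rw [nsmul_eq_mul, Finset.card_erase_of_mem (Finset.mem_univ p), Finset.card_univ,
          card_pt] at h2
        have := hbd x hx.1 p
        have := hodd p
        rcases (by omega : x p = 1 ∨ x p = -1 ∨ x p = 3 ∨ x p = -3 ∨ x p = 5 ∨ x p = -5) with
          e | e | e | e | e | e <;> rw [e] at hp hn <;>
          first | exact Or.inl e | exact Or.inr e | (norm_num at hp; done) |
            (exfalso; rw [show ((24 - 1 : ℕ) : ℤ) = 23 from rfl] at h2; linarith)
      · rw [← Finset.add_sum_erase _ _ (Finset.mem_erase.mpr ⟨hi, Finset.mem_univ i⟩)] at hn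
        have h2 := Finset.card_nsmul_le_sum ((univ.erase p).erase i) (fun i => x i ^ 2) 1
          fun j _ => h1 j
        rw [nsmul_eq_mul, Finset.card_erase_of_mem (Finset.mem_erase.mpr ⟨hi, Finset.mem_univ i⟩),
          Finset.card_erase_of_mem (Finset.mem_univ p), Finset.card_univ, card_pt] at h2
        have := hbd x hx.1 i
        have := hodd i
        rcases (by omega : x i = 1 ∨ x i = -1 ∨ x i = 3 ∨ x i = -3 ∨ x i = 5 ∨ x i = -5) with
          e | e | e | e | e | e <;> simp [e] at hn ⊢ <;> omega
    let pos : (GolayPt → ℤ) → GolayPt := fun x =>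
      if hp : ∃ p, x p = 3 ∨ x p = -3 then hp.choose else none
    refine (Finset.card_le_card_of_injOn (t := h.code ×ˢ (univ : Finset GolayPt))
      (fun x => (res 1 x ∆ res 1 z, pos x)) ?_ ?_).trans ?_
    · intro x hx
      obtain ⟨hodd, -⟩ := hshape x hx
      obtain ⟨hzodd, -⟩ := hshape z (Finset.mem_filter.mpr hz)
      refine Finset.mem_coe.mpr (Finset.mem_product.mpr ⟨h.mem_code.mpr ⟨x - z, M.sub_mem
        ((hmem x).mp (Finset.mem_filter.mp hx).1).1 ((hmem z).mp hz.1).1, fun i => ?_, ?_⟩,
        Finset.mem_univ _⟩)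
      · rw [Pi.sub_apply]
        have := hodd i
        have := hzodd i
        omega
      · ext i
        have := hodd i
        have := hzodd i
        simp only [Finset.mem_symmDiff, mem_res, Pi.sub_apply]
        omega
    · intro x hx y hy e
      simp only [Prod.mk.injEq] at e
      have hres : res 1 x = res 1 y := symmDiff_left_injective (res 1 z) e.1
      obtain ⟨hxo, p, hp, hp'⟩ := hshape x hx
      obtain ⟨hyo, q, hq, hq'⟩ := hshape y hy
      have posx : pos x = p := by
        have hex : ∃ p, x p = 3 ∨ x p = -3 := ⟨p, hp⟩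
        simp only [pos, dif_pos hex]
        by_contra hne
        have := hp' _ hne
        have := hex.choose_spec
        omega
      have posy : pos y = q := by
        have hex : ∃ p, y p = 3 ∨ y p = -3 := ⟨q, hq⟩
        simp only [pos, dif_pos hex]
        by_contra hne
        have := hq' _ hne
        have := hex.choose_spec
        omega
      obtain rfl : p = q := by rw [← posx, ← posy, e.2]
      funext i
      have hr := congrArg (i ∈ ·) hres
      simp only [mem_res, eq_iff_iff] at hr
      rcases eq_or_ne i p with rfl | hi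
      · omega
      · have := hp' i hi
        have := hq' i hi
        omega
    · rw [Finset.card_product, Finset.card_univ, card_pt, mul_comm]
  have htot := (Finset.card_le_card hsplit).trans
    ((Finset.card_union_le _ _).trans (add_le_add_left (Finset.card_union_le _ _) _))
  refine ⟨by omega, ?_⟩
  rcases A1.eq_empty_or_nonempty with he | ⟨z, hz⟩
  · exfalso
    rw [he, Finset.card_empty] at htot
    have := h.octad_incidence
    omega
  · simp only [A1, Finset.mem_filter] at hz
    exact ⟨z, ((hmem z).mp hz.1).1, hz.2⟩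

theorem code_good : GoodCode h.code := by
  classical
  obtain ⟨hc, -⟩ := h.count_bound
  obtain ⟨h56, hle, hall⟩ := h.octad_incidence
  have hcl := h.code_card_le
  have hO : h.octadSet.card = 759 := by omega
  have hd : OctadData h.octadSet :=
    { card_pts := card_pt
      size := fun b hb => (Finset.mem_filter.mp hb).2
      five := fun s hs => by
        obtain ⟨o, ho, hso⟩ := hall (by omega) s hs
        rw [Finset.card_eq_one]
        refine ⟨o, Finset.eq_singleton_iff_unique_mem.mpr
          ⟨Finset.mem_filter.mpr ⟨ho, hso⟩, fun b hb => ?_⟩⟩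
        obtain ⟨hb1, hb2⟩ := Finset.mem_filter.mp hb
        exact h.octad_unique hs hb1 ho hb2 hso }
  have hsub : spanCode h.octadSet ⊆ h.code := by
    intro x hx
    rw [mem_spanCode] at hx
    induction hx with
    | empty => exact h.mem_code.mpr ⟨0, M.zero_mem, fun i => rfl, by ext i; simp [res]⟩
    | step e b _ hb ih => exact h.code_symmDiff e ih b (Finset.mem_filter.mp hb).1
  rw [← Finset.eq_of_subset_of_card_le hsub (by rw [hd.good.card_eq]; exact hcl)]
  exact hd.good

end LeechLike

end Cfsg.Agent.Lib.Leech
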