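import Cfsg.Agent.Lib.Leech.Basic
import Cfsg.Agent.Lib.Golay.Code

/-!
Minimum norm and index of the lattice.
-/

set_option autoImplicit false

namespace Cfsg.Agent.Lib.Leech

open Finset

theorem IsCode.weights {s : Finset GolayPt} (hs : IsCode s) :
    s.card = 0 ∨ s.card = 8 ∨ s.card = 12 ∨ s.card = 16 ∨ s.card = 24 :=
  Golay.card_of_mem_supports hs

theorem card_pt : Fintype.card GolayPt = 24 := Golay.card_golayPt

/-- The minimum norm is 32. -/
theorem sqNorm_ge {x : GolayPt → ℤ} (hx : x ∈ leechLattice) (h0 : x ≠ 0) : 32 ≤ sqNorm x := by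
  have hdvd := sqNorm_dvd hx
  rcases mem_leech_iff.mp hx with ⟨hp, hc, hs⟩ | ⟨hp, -, -⟩
  · by_cases h2 : res 2 x = ∅
    · have h4 : ∀ i, x i % 4 = 0 := by
        intro i
        have hi : i ∉ res 2 x := by rw [h2]; simp
        rw [mem_res] at hi
        have := hp i
        omega
      obtain ⟨i, hi⟩ : ∃ i, x i ≠ 0 := Function.ne_iff.mp h0
      have hi16 : 16 ≤ x i ^ 2 := by
        have h := h4 i
        rcases (by omega : 4 ≤ x i ∨ x i ≤ -4) with h' | h' <;> nlinarith
      by_cases hone : ∃ j, j ≠ i ∧ x j ≠ 0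
      · obtain ⟨j, hji, hj⟩ := hone
        have hj16 : 16 ≤ x j ^ 2 := by
          have h := h4 j
          rcases (by omega : 4 ≤ x j ∨ x j ≤ -4) with h' | h' <;> nlinarith
        have := Finset.add_le_sum (fun k (_ : k ∈ (univ : Finset GolayPt)) => sq_nonneg (x k))
          (Finset.mem_univ i) (Finset.mem_univ j) (Ne.symm hji)
        simp only [sqNorm]
        omega
      · push Not at hone
        have hsum : ∑ k, x k = x i := Finset.sum_eq_single i (fun k _ hk => hone k hk) (by simp)
        have hnorm : ∑ k, x k ^ 2 = x i ^ 2 :=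
          Finset.sum_eq_single i (fun k _ hk => by rw [hone k hk]; rfl) (by simp)
        rw [hsum] at hs
        simp only [sqNorm]
        rw [hnorm]
        rcases (by omega : 8 ≤ x i ∨ x i ≤ -8) with h' | h' <;> nlinarith
    · have h8 : 8 ≤ (res 2 x).card := by
        have := hc.weights
        have := Finset.card_pos.mpr (Finset.nonempty_iff_ne_empty.mpr h2)
        omega
      have hle : ∑ _i ∈ res 2 x, (4 : ℤ) ≤ ∑ i ∈ res 2 x, x i ^ 2 := by
        refine Finset.sum_le_sum fun i hi => ?_
        rw [mem_res] at hi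
        rcases (by omega : 2 ≤ x i ∨ x i ≤ -2) with h' | h' <;> nlinarith
      have hsub : ∑ i ∈ res 2 x, x i ^ 2 ≤ ∑ i, x i ^ 2 :=
        Finset.sum_le_sum_of_subset_of_nonneg (Finset.subset_univ _) fun k _ _ => sq_nonneg _
      rw [Finset.sum_const, nsmul_eq_mul] at hle
      simp only [sqNorm]
      omega
  · have hle : ∑ _i : GolayPt, (1 : ℤ) ≤ ∑ i, x i ^ 2 := by
      refine Finset.sum_le_sum fun i _ => ?_
      have := hp i
      rcases (by omega : 1 ≤ x i ∨ x i ≤ -1) with h' | h' <;> nlinarith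
    rw [Finset.sum_const, Finset.card_univ, card_pt, nsmul_eq_mul, mul_one] at hle
    simp only [sqNorm] at hdvd ⊢
    omega

/-! ### Index -/

/-- Vectors with even coordinates. -/
def evenAll : AddSubgroup (GolayPt → ℤ) where
  carrier := {x | ∀ i, (2 : ℤ) ∣ x i}
  zero_mem' := fun _ => dvd_zero _
  add_mem' := fun hx hy i => dvd_add (hx i) (hy i)
  neg_mem' := fun hx i => (hx i).neg_right

/-- Even coordinates with the `2 mod 4` positions forming a codeword. -/
def evenCode : AddSubgroup (GolayPt → ℤ) where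
  carrier := {x | (∀ i, (2 : ℤ) ∣ x i) ∧ (fun i => ((x i / 2 : ℤ) : ZMod 2)) ∈ golayCode}
  zero_mem' := ⟨fun _ => dvd_zero _, by
    convert golayCode.zero_mem; simp⟩
  add_mem' := fun {x y} hx hy => ⟨fun i => dvd_add (hx.1 i) (hy.1 i), by
    convert golayCode.add_mem hx.2 hy.2 using 1
    ext i
    simp [Int.add_ediv_of_dvd_left (hx.1 i)]⟩
  neg_mem' := fun {x} hx => ⟨fun i => (hx.1 i).neg_right, by
    convert hx.2 using 1
    ext i
    simp [Int.neg_ediv_of_dvd (hx.1 i)]⟩

/-- The even part of the lattice. -/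
def evenLeech : AddSubgroup (GolayPt → ℤ) := leechLattice ⊓ evenAll

/-- Halved coordinates modulo 2, modulo the code. -/
def halfMap : evenAll →+ (GolayPt → ZMod 2) ⧸ golayCode :=
  AddMonoidHom.mk' (fun x => Submodule.Quotient.mk fun i => ((x.1 i / 2 : ℤ) : ZMod 2))
    fun x y => by
      rw [← Submodule.Quotient.mk_add]
      congr 1
      ext i
      simp [Int.add_ediv_of_dvd_left (x.2 i)]

theorem index_evenAll : evenAll.index = 2 ^ 24 := by
  let red : (GolayPt → ℤ) →+ (GolayPt → ZMod 2) :=
    AddMonoidHom.mk' (fun x i => ((x i : ℤ) : ZMod 2)) fun x y => by ext i; simp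
  have hker : red.ker = evenAll := by
    ext x
    simp only [AddMonoidHom.mem_ker, red, AddMonoidHom.mk'_apply, funext_iff, Pi.zero_apply]
    exact forall_congr' fun i => ZMod.intCast_zmod_eq_zero_iff_dvd (x i) 2
  have hsurj : Function.Surjective red := fun w => ⟨fun i => ((w i).val : ℤ), by
    ext i; simp [red]⟩
  rw [← hker, AddSubgroup.index_ker, AddMonoidHom.range_eq_top.mpr hsurj, AddSubgroup.card_top,
    Nat.card_eq_fintype_card, Fintype.card_fun, ZMod.card, card_pt]

theorem relIndex_evenCode : evenCode.relIndex evenAll = 2 ^ 12 := by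
  have hker : halfMap.ker = evenCode.addSubgroupOf evenAll := by
    ext x
    rw [AddMonoidHom.mem_ker, AddSubgroup.mem_addSubgroupOf]
    simp only [halfMap, AddMonoidHom.mk'_apply, Submodule.Quotient.mk_eq_zero]
    exact ⟨fun h => ⟨x.2, h⟩, fun h => h.2⟩
  have hsurj : Function.Surjective halfMap := by
    intro q
    obtain ⟨w, rfl⟩ := Submodule.Quotient.mk_surjective _ q
    refine ⟨⟨fun i => 2 * ((w i).val : ℤ), fun i => dvd_mul_right _ _⟩, ?_⟩
    simp [halfMap]
  rw [AddSubgroup.relIndex, ← hker, AddSubgroup.index_ker,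
    AddMonoidHom.range_eq_top.mpr hsurj, AddSubgroup.card_top]
  have h := Submodule.card_eq_card_quotient_mul_card (golayCode : Submodule (ZMod 2) _)
  rw [Nat.card_eq_fintype_card (α := GolayPt → ZMod 2), Fintype.card_fun, ZMod.card, card_pt,
    Golay.card_golayCode] at h
  omega

theorem sum_even {x : GolayPt → ℤ} (hx : x ∈ evenCode) : (∑ i, x i) % 4 = 0 := by
  obtain ⟨hp, hc⟩ := hx
  set s := univ.filter fun i => x i % 4 = 2 with hs
  have hcode : IsCode s := by
    refine ⟨_, hc, ?_⟩
    ext i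
    have := hp i
    simp only [support₂, hs, Finset.mem_filter, Finset.mem_univ, true_and, ne_eq,
      ZMod.intCast_zmod_eq_zero_iff_dvd]
    omega
  have h4 : (4 : ℤ) ∣ ∑ i, (x i - if i ∈ s then 2 else 0) := by
    refine Finset.dvd_sum fun i _ => ?_
    have := hp i
    simp only [hs, Finset.mem_filter, Finset.mem_univ, true_and]
    split_ifs <;> omega
  rw [Finset.sum_sub_distrib, Finset.sum_ite_mem, Finset.univ_inter, Finset.sum_const,
    nsmul_eq_mul] at h4
  have := hcode.four_dvd
  omega

theorem mem_evenLeech_iff {x : GolayPt → ℤ} :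
    x ∈ evenLeech ↔ x ∈ evenCode ∧ (∑ i, x i) % 8 = 0 := by
  constructor
  · rintro ⟨hx, he⟩
    rcases mem_leech_iff.mp hx with ⟨hp, hc, hs⟩ | ⟨hp, -, -⟩
    · refine ⟨⟨he, ?_⟩, hs⟩
      rw [isCode_iff] at hc
      convert hc using 1
      ext i
      simp only [ind, mem_res]
      have := hp i
      split_ifs with h
      · obtain ⟨k, hk⟩ : ∃ k, x i = 2 * (2 * k + 1) := ⟨x i / 4, by omega⟩
        rw [hk, Int.mul_ediv_cancel_left _ two_ne_zero]
        push_cast
        rw [show (2 : ZMod 2) = 0 from rfl, zero_mul, zero_add]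
      · rw [ZMod.intCast_zmod_eq_zero_iff_dvd]
        omega
    · exfalso
      have := he none
      have := hp none
      omega
  · rintro ⟨⟨hp, hc⟩, hs⟩
    refine ⟨evenVec_mem ⟨fun i => by have := hp i; omega, ⟨_, hc, ?_⟩, hs⟩, hp⟩
    ext i
    have := hp i
    simp only [support₂, Finset.mem_filter, Finset.mem_univ, true_and, mem_res, ne_eq,
      ZMod.intCast_zmod_eq_zero_iff_dvd]
    omega

theorem relIndex_evenLeech : evenLeech.relIndex evenCode = 2 := by
  have hiff : ∀ x : evenCode, x ∈ evenLeech.addSubgroupOf evenCode ↔ (∑ i, x.1 i) % 8 = 0 :=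
    fun x => by
      rw [AddSubgroup.mem_addSubgroupOf, mem_evenLeech_iff]
      exact ⟨fun h => h.2, fun h => ⟨x.2, h⟩⟩
  rw [AddSubgroup.relIndex, AddSubgroup.index_eq_two_iff]
  have hmem : (Pi.single none 4 : GolayPt → ℤ) ∈ evenCode := by
    refine ⟨fun i => ?_, ?_⟩
    · rcases eq_or_ne i none with rfl | h <;> simp [*]
    · convert golayCode.zero_mem using 1
      ext i
      rcases eq_or_ne i none with rfl | h <;> simp [*]
      rfl
  refine ⟨⟨_, hmem⟩, fun x => ?_⟩
  rw [hiff, hiff]
  have h4 := sum_even x.2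
  have hval : (∑ i, (x + ⟨_, hmem⟩ : evenCode).1 i) = ∑ i, x.1 i + 4 := by
    simp [Finset.sum_add_distrib]
  rw [hval]
  simp only [Xor]
  omega

theorem relIndex_leech : evenLeech.relIndex leechLattice = 2 := by
  rw [AddSubgroup.relIndex, AddSubgroup.index_eq_two_iff]
  refine ⟨⟨oddBase none, oddBase_mem none⟩, fun x => ?_⟩
  simp only [evenLeech, AddSubgroup.mem_addSubgroupOf, AddSubgroup.coe_add, AddSubgroup.mem_inf]
  have hx := x.2
  have hxy := leechLattice.add_mem hx (oddBase_mem none)
  rcases mem_leech_iff.mp hx with ⟨hp, -, -⟩ | ⟨hp, -, -⟩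
  · refine Or.inr ⟨⟨hx, fun i => by have := hp i; omega⟩, fun h => ?_⟩
    have h1 := h.2 none
    have h2 := hp none
    simp [oddBase] at h1
    omega
  · refine Or.inl ⟨⟨hxy, fun i => ?_⟩, fun h => ?_⟩
    · have := hp i
      simp only [Pi.add_apply, oddBase]
      split_ifs <;> omega
    · have h1 := h.2 none
      have h2 := hp none
      omega

theorem index_leech : leechLattice.index = 2 ^ 36 := by
  have h1 := AddSubgroup.relIndex_mul_index (inf_le_left : evenLeech ≤ leechLattice)
  have h2 := AddSubgroup.relIndex_mul_index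
    (fun x hx => (mem_evenLeech_iff.mp hx).1 : evenLeech ≤ evenCode)
  have hle : evenCode ≤ evenAll := fun x hx => hx.1
  have h3 := AddSubgroup.relIndex_mul_index hle
  rw [relIndex_evenCode, index_evenAll] at h3
  rw [relIndex_evenLeech] at h2
  change evenLeech.relIndex leechLattice * leechLattice.index = evenLeech.index at h1
  rw [relIndex_leech, ← h2, ← h3] at h1
  omega

end Cfsg.Agent.Lib.Leech
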