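import Cfsg.Agent.Lib.Leech.Sextet

/-!
Reduction of short vectors to normal forms by sextet elements and sign changes.
-/

set_option autoImplicit false

namespace Cfsg.Agent.Lib.Leech

open Finset GolayUnique
open scoped symmDiff

/-- The subgroup generated by the monomial and the sextet elements. -/
def redGroup : Subgroup Co0 :=
  Subgroup.closure ({g | ∃ σ, ∃ hσ : σ ∈ M24, ∃ c, ∃ hc : IsCode c, g = monomial σ hσ c hc} ∪
    {g | ∃ P, ∃ hP : IsSextet P, g = sextetElt hP})

theorem monomial_mem_red {σ : Equiv.Perm GolayPt} (hσ : σ ∈ M24) {c : Finset GolayPt}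
    (hc : IsCode c) : monomial σ hσ c hc ∈ redGroup :=
  Subgroup.subset_closure (Or.inl ⟨σ, hσ, c, hc, rfl⟩)

theorem sextetElt_mem_red {P : GolayPt → Fin 6} (hP : IsSextet P) : sextetElt hP ∈ redGroup :=
  Subgroup.subset_closure (Or.inr ⟨P, hP, rfl⟩)

theorem flip_mem_red {c : Finset GolayPt} (hc : IsCode c) : flip c hc ∈ redGroup :=
  monomial_mem_red _ hc

/-- A four-point set meets some codeword oddly. -/
theorem exists_odd_code {T : Finset GolayPt} (hT : T.card = 4) :
    ∃ c, IsCode c ∧ (c ∩ T).card % 2 = 1 := by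
  by_contra hno
  push Not at hno
  have hc : IsCode T := by
    rw [isCode_iff]
    refine Golay.mem_of_orth fun v hv => ?_
    rw [show (∑ p, ind T p * v p) = dot2 (ind T) (ind (support₂ v)) by rw [ind_support₂]; rfl,
      dot2_ind, ZMod.natCast_eq_zero_iff_even, Finset.inter_comm, Nat.even_iff]
    have := hno _ ⟨v, hv, rfl⟩
    omega
  have := hc.weights
  omega

theorem sum_flip_on (c T : Finset GolayPt) (x : GolayPt → ℤ) :
    ∑ i ∈ T, (if i ∈ c then -x i else x i) = ∑ i ∈ T, x i - 2 * ∑ i ∈ T ∩ c, x i := by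
  have e : ∀ i, (if i ∈ c then -x i else x i) = x i - 2 * (if i ∈ c then x i else 0) := fun i => by
    split_ifs <;> ring
  rw [Finset.sum_congr rfl fun i _ => e i, Finset.sum_sub_distrib, ← Finset.mul_sum,
    Finset.sum_ite_mem]

theorem res_two_flip {c : Finset GolayPt} (hc : IsCode c) {v : leechLattice}
    (hv : EvenVec (vec v)) :
    EvenVec (vec (flip c hc • v)) ∧ res 2 (vec (flip c hc • v)) = res 2 (vec v) := by
  have h1 : ∀ i, vec (flip c hc • v) i % 2 = 0 := fun i => by
    rw [flip_smul]; have := hv.1 i; split_ifs <;> omega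
  refine ⟨?_, ?_⟩
  · rcases mem_leech_iff.mp (flip c hc • v).2 with h | h
    · exact h
    · exfalso; have := h.1 none; have := h1 none; simp only [vec] at *; omega
  · ext i
    rw [mem_res, mem_res, flip_smul]
    have := hv.1 i
    split_ifs <;> omega

theorem evenVec_of_parity {v : leechLattice} {i : GolayPt} (h : vec v i % 2 = 0) :
    EvenVec (vec v) := by
  rcases mem_leech_iff.mp v.2 with he | ho
  · exact he
  · exfalso; have := ho.1 i; simp only [vec] at h; omega

/-- An odd vector can be moved to an even one. -/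
theorem exists_even (v : leechLattice) : ∃ g ∈ redGroup, EvenVec (vec (g • v)) := by
  rcases mem_leech_iff.mp v.2 with he | ⟨hp, hc, -⟩
  · exact ⟨1, one_mem _, by rwa [one_smul]⟩
  obtain ⟨T, -, hT⟩ := Finset.exists_subset_card_eq (s := (univ : Finset GolayPt)) (n := 4)
    (by rw [Finset.card_univ, card_pt]; norm_num)
  obtain ⟨P, hP, hP0⟩ := exists_sextet hT
  suffices h : ∀ w : leechLattice, (∀ i, vec w i % 2 = 1) →
      (res 1 (vec w) ∩ T).card % 2 = 1 → EvenVec (vec (sextetElt hP • w)) by
    by_cases hodd : (res 1 (vec v) ∩ T).card % 2 = 1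
    · exact ⟨sextetElt hP, sextetElt_mem_red hP, h v hp hodd⟩
    · obtain ⟨c, hc', hcT⟩ := exists_odd_code hT
      refine ⟨sextetElt hP * flip c hc', mul_mem (sextetElt_mem_red hP) (flip_mem_red hc'), ?_⟩
      rw [mul_smul]
      refine h _ (fun i => by rw [flip_smul]; have := hp i; simp only [vec]; split_ifs <;> omega) ?_
      have e : res 1 (vec (flip c hc' • v)) ∩ T = (res 1 (vec v) ∩ T) ∆ (c ∩ T) := by
        ext i
        simp only [Finset.mem_inter, mem_res, flip_smul, Finset.mem_symmDiff, vec]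
        have := hp i
        by_cases hiT : i ∈ T <;> by_cases hic : i ∈ c <;> simp [hiT, hic] <;> omega
      rw [e]
      have := card_symmDiff_add (res 1 (vec v) ∩ T) (c ∩ T)
      omega
  intro w hw hodd
  refine evenVec_of_parity (i := none) ?_
  rw [sextetElt_smul]
  have hcw : IsCode (res 1 (vec w)) := by
    rcases mem_leech_iff.mp w.2 with he | ho
    · exfalso; have := he.1 none; have := hw none; simp only [vec] at *; omega
    · exact ho.2.1
  have h4 := tetSum_mod_four hP (x := vec w) (r := 3) (c := res 1 (vec w)) (fun i => by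
    have := hw i; simp only [mem_res]; split_ifs <;> omega) (P none)
  have hpar := inter_parity hP hcw (P none) 0
  rw [hP0] at hpar
  have := hw none
  simp only [sextetMap, tetSign]
  split_ifs <;> omega

/-- If every tetrad is inside or outside the `2 mod 4` positions, with congruent sums inside, the
vector can be moved to one with all coordinates divisible by four. -/
theorem exists_four_of_split {P : GolayPt → Fin 6} (hP : IsSextet P) {v : leechLattice}
    (hv : EvenVec (vec v))
    (hsplit : ∀ t, tetUnion P {t} ⊆ res 2 (vec v) ∨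
      (Disjoint (tetUnion P {t}) (res 2 (vec v)) ∧ tetSum P (vec v) t % 8 = 0))
    {a : ℤ} (hin : ∀ t, tetUnion P {t} ⊆ res 2 (vec v) → tetSum P (vec v) t % 8 = a) :
    ∃ g ∈ redGroup, ∀ i, vec (g • v) i % 4 = 0 := by
  have key : ∀ w : leechLattice, EvenVec (vec w) → res 2 (vec w) = res 2 (vec v) →
      (∀ t, ¬ tetUnion P {t} ⊆ res 2 (vec v) → tetSum P (vec w) t % 8 = 0) →
      (∀ t, tetUnion P {t} ⊆ res 2 (vec v) → tetSum P (vec w) t % 8 = 4) →
      ∀ i, vec (sextetElt hP • w) i % 4 = 0 := by
    intro w hw hres hout hin i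
    rw [sextetElt_smul]
    have hi : i ∈ tetUnion P {P i} := by simp [mem_tetUnion]
    have hp := hw.1 i
    by_cases hsub : tetUnion P {P i} ⊆ res 2 (vec v)
    · have := hin _ hsub
      have h2 : i ∈ res 2 (vec w) := hres ▸ hsub hi
      rw [mem_res] at h2
      simp only [sextetMap, tetSign]
      split_ifs <;> omega
    · have := hout _ hsub
      have h2 : i ∉ res 2 (vec w) := by
        rw [hres]
        exact Finset.disjoint_left.mp ((hsplit _).resolve_left hsub).1 hi
      rw [mem_res] at h2
      simp only [sextetMap, tetSign]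
      split_ifs <;> omega
  have ha : ∀ t, tetUnion P {t} ⊆ res 2 (vec v) → tetSum P (vec v) t % 4 = 0 := by
    intro t ht
    have h4 : (4 : ℤ) ∣ ∑ i ∈ tetUnion P {t}, (vec v i - 2) :=
      Finset.dvd_sum fun i hi => by have := mem_res.mp (ht hi); omega
    rw [Finset.sum_sub_distrib, Finset.sum_const, hP.card, nsmul_eq_mul] at h4
    rw [tetSum]
    omega
  by_cases ha4 : a = 4
  · exact ⟨sextetElt hP, sextetElt_mem_red hP, key v hv rfl (fun t ht => ((hsplit t).resolve_left ht).2)
      (fun t ht => ha4 ▸ hin t ht)⟩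
  · obtain ⟨c, hc, hodd⟩ := exists_odd_code (hP.card 0)
    refine ⟨sextetElt hP * flip c hc, mul_mem (sextetElt_mem_red hP) (flip_mem_red hc), ?_⟩
    rw [mul_smul]
    obtain ⟨he, hr⟩ := res_two_flip hc hv
    have esum : ∀ t, tetSum P (vec (flip c hc • v)) t =
        tetSum P (vec v) t - 2 * ∑ i ∈ tetUnion P {t} ∩ c, vec v i := fun t => by
      rw [tetSum, tetSum, ← sum_flip_on]
      exact Finset.sum_congr rfl fun i _ => flip_smul hc v i
    refine key _ he hr ?_ ?_
    · intro t ht
      obtain ⟨hdis, h8⟩ := (hsplit t).resolve_left ht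
      have h4 : (4 : ℤ) ∣ ∑ i ∈ tetUnion P {t} ∩ c, vec v i := Finset.dvd_sum fun i hi => by
        have h1 := Finset.disjoint_left.mp hdis (Finset.mem_inter.mp hi).1
        rw [mem_res] at h1
        have := hv.1 i
        omega
      rw [esum]
      omega
    · intro t ht
      have h4 : (4 : ℤ) ∣ ∑ i ∈ tetUnion P {t} ∩ c, (vec v i - 2) := Finset.dvd_sum fun i hi => by
        have := mem_res.mp (ht (Finset.mem_inter.mp hi).1)
        omega
      rw [Finset.sum_sub_distrib, Finset.sum_const, nsmul_eq_mul, Finset.inter_comm] at h4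
      have := inter_parity hP hc t 0
      have := hin t ht
      have := ha t ht
      rw [esum, Finset.inter_comm]
      omega

theorem sum_by_fiber (P : GolayPt → Fin 6) (s : Finset GolayPt) :
    ∑ t, (s ∩ tetUnion P {t}).card = s.card := by
  rw [Finset.card_eq_sum_card_fiberwise (f := P) (t := univ) (fun i _ => Finset.mem_univ _)]
  refine Finset.sum_congr rfl fun t _ => congrArg Finset.card ?_
  ext i
  simp [mem_tetUnion]

theorem tetUnion_pair (P : GolayPt → Fin 6) (s t : Fin 6) :
    tetUnion P {s, t} = tetUnion P {s} ∪ tetUnion P {t} := by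
  ext i; simp [mem_tetUnion]

theorem fiber_disjoint (P : GolayPt → Fin 6) {s t : Fin 6} (h : s ≠ t) :
    Disjoint (tetUnion P {s}) (tetUnion P {t}) := by
  rw [Finset.disjoint_left]
  intro i h1 h2
  simp [mem_tetUnion] at h1 h2
  exact h (h1.symm.trans h2)

theorem pair_octad {P : GolayPt → Fin 6} (hP : IsSextet P) {t : Fin 6} (ht : t ≠ 0) :
    tetUnion P {0, t} ∈ octads := by
  refine ⟨hP.pair 0 t (Ne.symm ht), ?_⟩
  rw [tetUnion_pair, Finset.card_union_of_disjoint (fiber_disjoint P (Ne.symm ht)), hP.card,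
    hP.card]

/-- An octad through the tetrad `0` is a union of two tetrads. -/
theorem exists_label {P : GolayPt → Fin 6} (hP : IsSextet P) {o : Finset GolayPt} (ho : o ∈ octads)
    (hsub : tetUnion P {0} ⊆ o) : ∃ t, t ≠ 0 ∧ tetUnion P {0, t} = o := by
  obtain ⟨p, hpo, hp⟩ := Finset.exists_mem_notMem_of_card_lt_card (s := tetUnion P {0}) (t := o)
    (by rw [hP.card, ho.2]; norm_num)
  have ht : P p ≠ 0 := by simpa [mem_tetUnion] using hp
  refine ⟨P p, ht, Golay.octad_unique (s := insert p (tetUnion P {0})) (pair_octad hP ht) ho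
    (by rw [Finset.card_insert_of_notMem hp, hP.card]) (Finset.insert_subset ?_ ?_)
    (Finset.insert_subset hpo hsub)⟩
  · simp [mem_tetUnion]
  · rw [tetUnion_pair]; exact Finset.subset_union_left

theorem IsCode.dodecad_inter {d o : Finset GolayPt} (hd : IsCode d) (hd12 : d.card = 12)
    (ho : o ∈ octads) : (o ∩ d).card ≤ 6 := by
  have := card_symmDiff_add o d
  have := (IsCode.symmDiff ho.1 hd).weights
  have := Finset.card_le_card (Finset.inter_subset_left (s₁ := o) (s₂ := d))
  have := ho.2
  omega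

theorem sum_split (P : GolayPt → Fin 6) {t₀ t₁ : Fin 6} (h : t₀ ≠ t₁) (x : GolayPt → ℤ) :
    ∑ i, x i = tetSum P x t₀ + tetSum P x t₁ +
      ∑ t ∈ (univ.erase t₀).erase t₁, tetSum P x t := by
  rw [← sum_fiber P, ← Finset.add_sum_erase _ _ (Finset.mem_univ t₀),
    ← Finset.add_sum_erase _ _ (Finset.mem_erase.mpr ⟨Ne.symm h, Finset.mem_univ t₁⟩)]
  ring

theorem coord_le {v : leechLattice} {i : GolayPt} {N B : ℤ} (hn : sqNorm (vec v) ≤ N)
    (hN : N < (B + 1) ^ 2) (hB : 0 ≤ B) : -B ≤ vec v i ∧ vec v i ≤ B := by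
  have h1 : (vec v i) ^ 2 ≤ N :=
    le_trans (Finset.single_le_sum (fun k _ => sq_nonneg (vec v k)) (Finset.mem_univ i)) hn
  constructor <;> by_contra hlt <;> push Not at hlt <;> nlinarith

theorem sum_sq_split (v : leechLattice) :
    sqNorm (vec v) = ∑ i ∈ res 2 (vec v), vec v i ^ 2 + ∑ i ∈ (res 2 (vec v))ᶜ, vec v i ^ 2 :=
  (Finset.sum_add_sum_compl _ _).symm

theorem sum_two_ge {v : leechLattice} (s : Finset GolayPt) (hs : s ⊆ res 2 (vec v)) :
    4 * (s.card : ℤ) ≤ ∑ i ∈ s, vec v i ^ 2 := by
  calc 4 * (s.card : ℤ) = ∑ _i ∈ s, (4 : ℤ) := by rw [Finset.sum_const, nsmul_eq_mul]; ring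
    _ ≤ _ := Finset.sum_le_sum fun i hi => by
      have := mem_res.mp (hs hi)
      rcases (by omega : 2 ≤ vec v i ∨ vec v i ≤ -2) with h | h <;> nlinarith

theorem sum_four_ge {v : leechLattice} (s : Finset GolayPt) (hs : ∀ i ∈ s, vec v i ≠ 0)
    (hdis : Disjoint s (res 2 (vec v))) (hv : EvenVec (vec v)) :
    16 * (s.card : ℤ) ≤ ∑ i ∈ s, vec v i ^ 2 := by
  calc 16 * (s.card : ℤ) = ∑ _i ∈ s, (16 : ℤ) := by rw [Finset.sum_const, nsmul_eq_mul]; ring
    _ ≤ _ := Finset.sum_le_sum fun i hi => by
      have h1 := Finset.disjoint_left.mp hdis hi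
      rw [mem_res] at h1
      have := hv.1 i
      have := hs i hi
      rcases (by omega : 4 ≤ vec v i ∨ vec v i ≤ -4) with h | h <;> nlinarith

/-- The nonzero positions outside the `2 mod 4` positions. -/
def big (v : leechLattice) : Finset GolayPt :=
  univ.filter fun i => vec v i ≠ 0 ∧ i ∉ res 2 (vec v)

theorem norm_ge {v : leechLattice} (hv : EvenVec (vec v)) :
    4 * ((res 2 (vec v)).card : ℤ) + 16 * ((big v).card : ℤ) ≤ sqNorm (vec v) := by
  have h1 := sum_two_ge (v := v) _ (subset_refl _)
  have h2 := sum_four_ge (v := v) (big v) (fun i hi => (Finset.mem_filter.mp hi).2.1)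
    (Finset.disjoint_left.mpr fun i hi => (Finset.mem_filter.mp hi).2.2) hv
  have h3 : ∑ i ∈ big v, vec v i ^ 2 ≤ ∑ i ∈ (res 2 (vec v))ᶜ, vec v i ^ 2 :=
    Finset.sum_le_sum_of_subset_of_nonneg
      (fun i hi => Finset.mem_compl.mpr (Finset.mem_filter.mp hi).2.2)
      (fun i _ _ => sq_nonneg _)
  rw [sum_sq_split]
  omega

theorem eq_zero_of_not_big {v : leechLattice} {i : GolayPt} (h1 : i ∉ res 2 (vec v))
    (h2 : i ∉ big v) : vec v i = 0 := by
  by_contra h
  exact h2 (Finset.mem_filter.mpr ⟨Finset.mem_univ _, h, h1⟩)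

/-- Weight 16: all `±2`. -/
theorem reduce_sixteen {v : leechLattice} (hv : EvenVec (vec v))
    (hn : sqNorm (vec v) ≤ 64) (h16 : (res 2 (vec v)).card = 16) :
    ∃ g ∈ redGroup, ∀ i, vec (g • v) i % 4 = 0 := by
  classical
  set S := res 2 (vec v) with hS
  have hScode : IsCode S := hv.2.1
  have hbig : big v = ∅ := by
    have := norm_ge hv
    rw [← hS, h16] at this
    exact Finset.card_eq_zero.mp (by omega)
  have hzero : ∀ i, i ∉ S → vec v i = 0 := fun i hi =>
    eq_zero_of_not_big hi (by rw [hbig]; simp)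
  have htwo : ∀ i ∈ S, vec v i = 2 ∨ vec v i = -2 := by
    intro i hi
    have h1 := sum_two_ge (v := v) (S.erase i) ((Finset.erase_subset _ _).trans (subset_refl _))
    rw [Finset.card_erase_of_mem hi, h16] at h1
    have h2 := sum_sq_split v
    rw [← hS, ← Finset.add_sum_erase _ _ hi,
      Finset.sum_eq_zero (s := Sᶜ) (fun j hj => by rw [hzero j (Finset.mem_compl.mp hj)]; rfl)] at h2
    have hm := mem_res.mp hi
    have hsq : vec v i ^ 2 ≤ 4 := by push_cast at h1; omega
    have : -2 ≤ vec v i ∧ vec v i ≤ 2 := by constructor <;> nlinarith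
    omega
  set M := S.filter fun i => vec v i = -2 with hM
  set K := golaySets.filter fun c => c ⊆ S ∧ (c ∩ M).card % 2 = 0 with hK
  have hKmem : ∀ c ∈ K, IsCode c ∧ c ⊆ S ∧ (c ∩ M).card % 2 = 0 := fun c hc => by
    obtain ⟨h1, h2⟩ := Finset.mem_filter.mp hc
    exact ⟨mem_golaySets.mp h1, h2⟩
  -- the subcode inside `S`
  set L := golaySets.filter fun c => c ⊆ S with hL
  have hScompl : Sᶜ.card = 8 := by rw [Finset.card_compl, card_pt, h16]
  have hLcard : 32 ≤ L.card := by
    have himg : golaySets.image (· ∩ Sᶜ) ⊆ Sᶜ.powerset.filter fun s => s.card % 2 = 0 := by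
      intro s hs
      obtain ⟨c, hc, rfl⟩ := Finset.mem_image.mp hs
      refine Finset.mem_filter.mpr ⟨Finset.mem_powerset.mpr Finset.inter_subset_right, ?_⟩
      have := (mem_golaySets.mp hc).even_inter hScode.compl
      omega
    have hhalf : (Sᶜ.powerset.filter fun s => s.card % 2 = 0).card = 128 := by
      obtain ⟨a, ha⟩ := Finset.card_pos.mp (show 0 < Sᶜ.card by omega)
      have par : ∀ s : Finset GolayPt, ((s ∆ {a}).card % 2 = 0 ↔ ¬ s.card % 2 = 0) := by
        intro s
        have := card_symmDiff_add s {a}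
        rw [Finset.card_singleton] at this
        omega
      have hsub : ∀ s ⊆ Sᶜ, s ∆ {a} ⊆ Sᶜ := by
        intro s hs x hx
        rcases Finset.mem_symmDiff.mp hx with h | h
        · exact hs h.1
        · rw [Finset.mem_singleton.mp h.1]; exact ha
      have e : (Sᶜ.powerset.filter fun s => s.card % 2 = 0).card =
          (Sᶜ.powerset.filter fun s => ¬ s.card % 2 = 0).card := by
        refine Finset.card_bij' (fun s _ => s ∆ {a}) (fun s _ => s ∆ {a}) ?_ ?_ ?_ ?_
        · intro s hs
          simp only [Finset.mem_filter, Finset.mem_powerset] at hs ⊢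
          exact ⟨hsub s hs.1, by rw [par]; exact not_not.mpr hs.2⟩
        · intro s hs
          simp only [Finset.mem_filter, Finset.mem_powerset] at hs ⊢
          exact ⟨hsub s hs.1, by rw [par]; exact hs.2⟩
        · intro s _; simp
        · intro s _; simp
      have := Finset.card_filter_add_card_filter_not (s := Sᶜ.powerset) fun s => s.card % 2 = 0
      rw [Finset.card_powerset, hScompl] at this
      omega
    have hfib : golaySets.card ≤ L.card * (golaySets.image (· ∩ Sᶜ)).card := by
      refine Finset.card_le_mul_card_image _ _ fun s hs => ?_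
      obtain ⟨c₀, hc₀, rfl⟩ := Finset.mem_image.mp hs
      refine Finset.card_le_card_of_injOn (fun c => c ∆ c₀) (fun c hc => ?_)
        (fun c _ c' _ e => symmDiff_left_inj.mp e)
      simp only [Finset.mem_coe, Finset.mem_filter] at hc
      refine Finset.mem_coe.mpr (Finset.mem_filter.mpr
        ⟨golay_good.symmDiff_mem _ hc.1 _ hc₀, fun x hx => ?_⟩)
      by_contra hxS
      have := congrArg (x ∈ ·) hc.2
      simp [hxS] at this
      rw [Finset.mem_symmDiff] at hx
      tauto
    have := Finset.card_le_card himg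
    rw [card_golaySets] at hfib
    nlinarith
  have hKcard : 16 ≤ K.card := by
    have e := Finset.card_filter_add_card_filter_not (s := L) fun c => (c ∩ M).card % 2 = 0
    have hKL : L.filter (fun c => (c ∩ M).card % 2 = 0) = K := by rw [hL, hK, Finset.filter_filter]
    rw [hKL] at e
    rcases (L.filter fun c => ¬ (c ∩ M).card % 2 = 0).eq_empty_or_nonempty with h0 | ⟨c₁, hc₁⟩
    · rw [h0, Finset.card_empty] at e; omega
    · have hle : (L.filter fun c => ¬ (c ∩ M).card % 2 = 0).card ≤ K.card := by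
        refine Finset.card_le_card_of_injOn (fun c => c ∆ c₁) (fun c hc => ?_)
          (fun c _ c' _ e => symmDiff_left_inj.mp e)
        simp only [Finset.mem_coe, Finset.mem_filter, hL] at hc hc₁
        refine Finset.mem_coe.mpr (Finset.mem_filter.mpr
          ⟨golay_good.symmDiff_mem _ hc.1.1 _ hc₁.1.1, fun x hx => ?_, ?_⟩)
        · rcases Finset.mem_symmDiff.mp hx with h | h
          · exact hc.1.2 h.1
          · exact hc₁.1.2 h.1
        · show ((c ∆ c₁) ∩ M).card % 2 = 0
          rw [GolayUnique.symmDiff_inter]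
          have := card_symmDiff_add (c ∩ M) (c₁ ∩ M)
          omega
      omega
  obtain ⟨h₁, hh₁K, hh₁⟩ : ∃ h ∈ K, h ∉ ({∅, S} : Finset (Finset GolayPt)) :=
    Finset.exists_mem_notMem_of_card_lt_card (Finset.card_le_two.trans_lt (by omega))
  obtain ⟨h₂, hh₂K, hh₂⟩ : ∃ h ∈ K, h ∉ ({∅, S, h₁, S ∆ h₁} : Finset (Finset GolayPt)) :=
    Finset.exists_mem_notMem_of_card_lt_card (Finset.card_le_four.trans_lt (by omega))
  simp only [Finset.mem_insert, Finset.mem_singleton, not_or] at hh₁ hh₂
  have hoct : ∀ c, IsCode c → c ⊆ S → c ≠ ∅ → c ≠ S → c.card = 8 := by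
    intro c hc hcS h0 hne
    have := hc.weights
    have h1 := (hc.symmDiff hScode).weights
    have h2 := card_symmDiff_add c S
    rw [Finset.inter_eq_left.mpr hcS, h16] at h2
    have h3 := Finset.card_le_card hcS
    have : c.card ≠ 0 := fun e => h0 (Finset.card_eq_zero.mp e)
    have : c.card ≠ 16 := fun e => hne (Finset.eq_of_subset_of_card_le hcS (by omega))
    omega
  obtain ⟨c1, s1, m1⟩ := hKmem _ hh₁K
  obtain ⟨c2, s2, m2⟩ := hKmem _ hh₂K
  have e1 := hoct h₁ c1 s1 hh₁.1 hh₁.2
  have e2 := hoct h₂ c2 s2 hh₂.1 hh₂.2.1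
  have e12 : (h₁ ∆ h₂).card = 8 := by
    refine hoct _ (c1.symmDiff c2) (fun x hx => ?_) (fun e => hh₂.2.2.1 ?_) (fun e => hh₂.2.2.2 ?_)
    · rcases Finset.mem_symmDiff.mp hx with h | h
      · exact s1 h.1
      · exact s2 h.1
    · exact (symmDiff_eq_bot.mp e).symm
    · rw [← e, symmDiff_comm h₁ h₂, symmDiff_symmDiff_cancel_right]
  set T := h₁ ∩ h₂ with hT
  have hT4 : T.card = 4 := by
    have := card_symmDiff_add h₁ h₂
    rw [hT]; omega
  obtain ⟨P, hP, hP0⟩ := exists_sextet hT4
  have hTS : T ⊆ S := Finset.inter_subset_left.trans s1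
  obtain ⟨t1, ht1, o1⟩ := exists_label hP (o := h₁) ⟨c1, e1⟩ (hP0 ▸ Finset.inter_subset_left)
  obtain ⟨t2, ht2, o2⟩ := exists_label hP (o := h₂) ⟨c2, e2⟩ (hP0 ▸ Finset.inter_subset_right)
  set h₃ := S ∆ (h₁ ∆ h₂) with hh₃
  have c3 : IsCode h₃ := hScode.symmDiff (c1.symmDiff c2)
  have hsub12 : h₁ ∆ h₂ ⊆ S := fun x hx => by
    rcases Finset.mem_symmDiff.mp hx with h | h
    · exact s1 h.1
    · exact s2 h.1
  have e3 : h₃.card = 8 := by
    have := card_symmDiff_add S (h₁ ∆ h₂)
    rw [Finset.inter_eq_right.mpr hsub12, h16, e12, ← hh₃] at this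
    omega
  have hT3 : T ⊆ h₃ := by
    intro x hx
    have := hTS hx
    simp only [hT, Finset.mem_inter] at hx
    simp [hh₃, Finset.mem_symmDiff, hx.1, hx.2, this]
  obtain ⟨t3, ht3, o3⟩ := exists_label hP (o := h₃) ⟨c3, e3⟩ (hP0 ▸ hT3)
  have s3 : h₃ ⊆ S := fun x hx => by
    rcases Finset.mem_symmDiff.mp hx with h | h
    · exact h.1
    · exact hsub12 h.1
  have m3 : (h₃ ∩ M).card % 2 = 0 := by
    rw [hh₃, GolayUnique.symmDiff_inter, GolayUnique.symmDiff_inter,
      Finset.inter_eq_right.mpr (show M ⊆ S from Finset.filter_subset _ _)]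
    have := card_symmDiff_add M ((h₁ ∩ M) ∆ (h₂ ∩ M))
    have := card_symmDiff_add (h₁ ∩ M) (h₂ ∩ M)
    have hMeven : M.card % 2 = 0 := by
      have hs8 := hv.2.2
      have hsum : ∑ i, vec v i = 32 - 4 * (M.card : ℤ) := by
        rw [← Finset.sum_add_sum_compl S,
          Finset.sum_eq_zero (s := Sᶜ) (fun j hj => hzero j (Finset.mem_compl.mp hj)), add_zero,
          Finset.sum_congr rfl (fun i hi => show vec v i = 2 - 4 * (if vec v i = -2 then 1 else 0) by
            rcases htwo i hi with e | e <;> rw [e] <;> decide),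
          Finset.sum_sub_distrib, ← Finset.mul_sum, Finset.sum_boole, Finset.sum_const, h16, hM,
          nsmul_eq_mul]
        norm_num
      omega
    omega
  -- the four tetrads inside `S`
  have hin_sum : ∀ t, tetUnion P {t} ⊆ S →
      tetSum P (vec v) t = 8 - 4 * ((tetUnion P {t} ∩ M).card : ℤ) := by
    intro t ht
    rw [tetSum, Finset.sum_congr rfl (fun i hi => show vec v i = 2 - 4 * (if i ∈ M then 1 else 0) by
      rcases htwo i (ht hi) with e | e <;> simp [hM, e, ht hi]),
      Finset.sum_sub_distrib, ← Finset.mul_sum, Finset.sum_boole, Finset.filter_mem_eq_inter,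
      Finset.sum_const, hP.card, nsmul_eq_mul]
    norm_num
  have distinct : ∀ {t t' : Fin 6} {o o' : Finset GolayPt}, tetUnion P {0, t} = o →
      tetUnion P {0, t'} = o' → o ≠ o' → t ≠ t' := fun h h' hne e => hne (h ▸ h' ▸ e ▸ rfl)
  have hne13 : h₁ ≠ h₃ := by
    intro e
    apply hh₂.2.1
    have := congrArg (fun z => h₁ ∆ z) e
    simp only [symmDiff_self, hh₃] at this
    rw [symmDiff_left_comm, symmDiff_symmDiff_cancel_left] at this
    exact (symmDiff_eq_bot.mp this.symm).symm
  have hne23 : h₂ ≠ h₃ := by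
    intro e
    apply hh₁.2
    have := congrArg (fun z => h₂ ∆ z) e
    simp only [symmDiff_self, hh₃] at this
    rw [symmDiff_left_comm, symmDiff_comm h₁ h₂, symmDiff_symmDiff_cancel_left] at this
    exact (symmDiff_eq_bot.mp this.symm).symm
  have d12 := distinct o1 o2 (Ne.symm hh₂.2.2.1)
  have d13 := distinct o1 o3 hne13
  have d23 := distinct o2 o3 hne23
  set I : Finset (Fin 6) := {0, t1, t2, t3} with hI
  have hIsub : ∀ t ∈ I, tetUnion P {t} ⊆ S := by
    intro t ht
    simp only [hI, Finset.mem_insert, Finset.mem_singleton] at ht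
    rcases ht with rfl | rfl | rfl | rfl
    · rw [hP0]; exact hTS
    · exact (Finset.subset_union_right.trans (tetUnion_pair P 0 _).ge).trans (o1 ▸ s1)
    · exact (Finset.subset_union_right.trans (tetUnion_pair P 0 _).ge).trans (o2 ▸ s2)
    · exact (Finset.subset_union_right.trans (tetUnion_pair P 0 _).ge).trans (o3 ▸ s3)
  have hIcard : I.card = 4 := by
    rw [hI, Finset.card_insert_of_notMem (by simp [Ne.symm ht1, Ne.symm ht2, Ne.symm ht3]),
      Finset.card_insert_of_notMem (by simp [d12, d13]), Finset.card_pair d23]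
  have hunion : tetUnion P I = S := by
    refine Finset.eq_of_subset_of_card_le (fun i hi => ?_) ?_
    · exact hIsub (P i) (mem_tetUnion.mp hi) (by simp [mem_tetUnion])
    · rw [h16, show tetUnion P I = I.biUnion (fun t => tetUnion P {t}) by
        ext i; simp [mem_tetUnion],
        Finset.card_biUnion (fun s _ t _ h => fiber_disjoint P h),
        Finset.sum_congr rfl (fun t _ => hP.card t), Finset.sum_const, hIcard]
      rfl
  have hout : ∀ t ∉ I, Disjoint (tetUnion P {t}) S := by
    intro t ht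
    rw [← hunion, Finset.disjoint_left]
    intro i hi hiI
    simp only [mem_tetUnion, Finset.mem_singleton] at hi hiI
    exact ht (hi ▸ hiI)
  refine exists_four_of_split hP hv (fun t => ?_) (a := tetSum P (vec v) 0 % 8) (fun t ht => ?_)
  · by_cases ht : t ∈ I
    · exact Or.inl (hIsub t ht)
    · refine Or.inr ⟨hout t ht, ?_⟩
      rw [tetSum, Finset.sum_eq_zero (fun i hi => hzero i (Finset.disjoint_left.mp (hout t ht) hi))]
      rfl
  · have ht' : t ∈ I := by
      by_contra h
      obtain ⟨i, hi⟩ := Finset.card_pos.mp (show 0 < (tetUnion P {t}).card by rw [hP.card]; norm_num)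
      exact Finset.disjoint_left.mp (hout t h) hi (ht hi)
    rw [hin_sum t ht, hin_sum 0 (hIsub 0 (by simp [hI]))]
    have key : ∀ (t : Fin 6) (o : Finset GolayPt), t ≠ 0 → tetUnion P {0, t} = o →
        (o ∩ M).card % 2 = 0 → (8 - 4 * ((tetUnion P {t} ∩ M).card : ℤ)) % 8 =
          (8 - 4 * ((tetUnion P {0} ∩ M).card : ℤ)) % 8 := by
      intro t o ht ho hm
      rw [← ho, tetUnion_pair, Finset.union_inter_distrib_right, Finset.card_union_of_disjoint
        ((fiber_disjoint P (Ne.symm ht)).mono Finset.inter_subset_left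
          Finset.inter_subset_left)] at hm
      omega
    simp only [hI, Finset.mem_insert, Finset.mem_singleton] at ht'
    rcases ht' with rfl | rfl | rfl | rfl
    · rfl
    · exact key _ _ ht1 o1 m1
    · exact key _ _ ht2 o2 m2
    · exact key _ _ ht3 o3 m3

/-- An octad through two given points outside a given octad meeting it in four points. -/
theorem exists_octad_meet_four {S : Finset GolayPt} (hS : S ∈ octads) {B : Finset GolayPt}
    (hB : B.card ≤ 2) (hdis : Disjoint B S) :
    ∃ o ∈ octads, B ⊆ o ∧ (o ∩ S).card = 4 := by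
  obtain ⟨A, hBA, hAT, hA⟩ := Finset.exists_subsuperset_card_eq (s := B) (t := univ \ S) (n := 2)
    (fun x hx => Finset.mem_sdiff.mpr ⟨Finset.mem_univ _, Finset.disjoint_left.mp hdis hx⟩) hB
    (by rw [Finset.card_sdiff_of_subset (Finset.subset_univ _), Finset.card_univ, card_pt, hS.2]
        norm_num)
  obtain ⟨A', hA'sub, hA'⟩ := Finset.exists_subset_card_eq (s := S) (n := 3) (by rw [hS.2]; norm_num)
  have hAS : Disjoint A A' := by
    rw [Finset.disjoint_left]
    intro x hxA hxA'
    have hmem : A ⊆ univ \ S := hAT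
    exact (Finset.mem_sdiff.mp (hmem hxA)).2 (hA'sub hxA')
  obtain ⟨o, ⟨ho, hsub⟩, -⟩ := Golay.octads_steiner.2 (A ∪ A')
    (by rw [Finset.card_union_of_disjoint hAS, hA, hA'])
  refine ⟨o, ho, hBA.trans (Finset.subset_union_left.trans hsub), ?_⟩
  have h3 : 3 ≤ (o ∩ S).card := by
    rw [← hA']
    exact Finset.card_le_card (Finset.subset_inter (Finset.subset_union_right.trans hsub) hA'sub)
  have hne : o ≠ S := by
    intro e
    obtain ⟨x, hx⟩ := Finset.card_pos.mp (show 0 < A.card by omega)
    have hmem : A ⊆ univ \ S := hAT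
    exact (Finset.mem_sdiff.mp (hmem hx)).2 (e ▸ hsub (Finset.mem_union_left _ hx))
  rcases Golay.Steiner.inter_five Golay.card_golayPt Golay.octads_steiner ho hS hne with
    h | h | h <;> omega

/-- Weight 8 at norm at most 64 with at most two `±4`. -/
theorem reduce_eight {v : leechLattice} (hv : EvenVec (vec v)) (hn : sqNorm (vec v) ≤ 64)
    (h8 : (res 2 (vec v)).card = 8) (hbig : (big v).card ≠ 1) :
    ∃ g ∈ redGroup, ∀ i, vec (g • v) i % 4 = 0 := by
  set S := res 2 (vec v) with hS
  have hoS : S ∈ octads := ⟨hv.2.1, h8⟩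
  have hb2 : (big v).card ≤ 2 := by have := norm_ge hv; rw [← hS, h8] at this; omega
  have hbdis : Disjoint (big v) S :=
    Finset.disjoint_left.mpr fun i hi => (Finset.mem_filter.mp hi).2.2
  obtain ⟨o, ho, hbo, h4⟩ := exists_octad_meet_four hoS hb2 hbdis
  obtain ⟨P, hP, hP0⟩ := exists_sextet h4
  obtain ⟨t1, ht1, o1⟩ := exists_label hP hoS (hP0 ▸ Finset.inter_subset_right)
  obtain ⟨t2, ht2, o2⟩ := exists_label hP ho (hP0 ▸ Finset.inter_subset_left)
  have hne : o ≠ S := fun e => by rw [e, Finset.inter_self, h8] at h4; omega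
  have d12 : t1 ≠ t2 := fun e => hne (o2 ▸ o1 ▸ e ▸ rfl)
  have hb_t2 : big v ⊆ tetUnion P {t2} := by
    intro i hi
    have h1 := hbo hi
    rw [← o2, mem_tetUnion, Finset.mem_insert, Finset.mem_singleton] at h1
    rcases h1 with h1 | h1
    · exfalso
      exact Finset.disjoint_left.mp hbdis hi (o1 ▸ by simp [mem_tetUnion, h1])
    · simp [mem_tetUnion, h1]
  have hout : ∀ t, t ≠ 0 → t ≠ t1 → Disjoint (tetUnion P {t}) S := by
    intro t h0 h1
    rw [Finset.disjoint_left]
    intro i hi hiS
    rw [← o1] at hiS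
    simp [mem_tetUnion] at hi hiS
    rcases hiS with e | e <;> simp_all
  have h8out : ∀ t, t ≠ 0 → t ≠ t1 → tetSum P (vec v) t % 8 = 0 := by
    intro t h0 h1
    by_cases e : t = t2
    · subst e
      have hsum : tetSum P (vec v) t = ∑ i ∈ big v, vec v i := by
        rw [tetSum]
        exact (Finset.sum_subset hb_t2 fun i hi hib =>
          eq_zero_of_not_big (Finset.disjoint_left.mp (hout t h0 h1) hi) hib).symm
      have hcase : (big v).card = 0 ∨ (big v).card = 2 := by omega
      rw [hsum]
      rcases hcase with h | h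
      · rw [Finset.card_eq_zero.mp h]; rfl
      · have h4' : (8 : ℤ) ∣ ∑ i ∈ big v, (vec v i - 4) := by
          refine Finset.dvd_sum fun i hi => ?_
          have hns := Finset.disjoint_left.mp hbdis hi
          have hm : ¬ vec v i % 4 = 2 := fun e => hns (by rw [hS, mem_res]; exact e)
          have hp := hv.1 i
          have hne0 := (Finset.mem_filter.mp hi).2.1
          have h1 := sum_two_ge (v := v) S (subset_refl _)
          have h2 := sum_four_ge (v := v) ((big v).erase i)
            (fun j hj => (Finset.mem_filter.mp (Finset.mem_of_mem_erase hj)).2.1)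
            (hbdis.mono_left (Finset.erase_subset _ _)) hv
          have h3 : ∑ j ∈ big v, vec v j ^ 2 ≤ ∑ j ∈ Sᶜ, vec v j ^ 2 :=
            Finset.sum_le_sum_of_subset_of_nonneg
              (fun j hj => Finset.mem_compl.mpr (Finset.disjoint_left.mp hbdis hj))
              (fun j _ _ => sq_nonneg _)
          rw [← Finset.add_sum_erase _ _ hi] at h3
          rw [Finset.card_erase_of_mem hi, h] at h2
          rw [h8] at h1
          have h5 := sum_sq_split v
          rw [← hS] at h5
          push_cast at h1 h2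
          have hsq : vec v i ^ 2 ≤ 16 := by omega
          have : -4 ≤ vec v i ∧ vec v i ≤ 4 := by constructor <;> nlinarith
          omega
        rw [Finset.sum_sub_distrib, Finset.sum_const, h, nsmul_eq_mul] at h4'
        omega
    · rw [tetSum, Finset.sum_eq_zero fun i hi => eq_zero_of_not_big
        (Finset.disjoint_left.mp (hout t h0 h1) hi)
        (fun hib => by
          have := hb_t2 hib
          simp [mem_tetUnion] at this hi
          exact e (hi.symm.trans this))]
      rfl
  have hin : ∀ t, tetUnion P {t} ⊆ S → t = 0 ∨ t = t1 := by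
    intro t ht
    by_contra hno
    push Not at hno
    obtain ⟨i, hi⟩ := Finset.card_pos.mp (show 0 < (tetUnion P {t}).card by rw [hP.card]; norm_num)
    exact Finset.disjoint_left.mp (hout t hno.1 hno.2) hi (ht hi)
  refine exists_four_of_split hP hv (fun t => ?_) (a := tetSum P (vec v) 0 % 8) (fun t ht => ?_)
  · by_cases h0 : t = 0
    · subst h0; rw [hP0]; exact Or.inl Finset.inter_subset_right
    · by_cases h1 : t = t1
      · subst h1
        exact Or.inl ((Finset.subset_union_right.trans (tetUnion_pair P 0 _).ge).trans o1.le)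
      · exact Or.inr ⟨hout t h0 h1, h8out t h0 h1⟩
  · rcases hin t ht with rfl | rfl
    · rfl
    · have h8' : (8 : ℤ) ∣ ∑ s ∈ (univ.erase (0 : Fin 6)).erase t, tetSum P (vec v) s :=
        Finset.dvd_sum fun s hs => by
          have hs' := Finset.mem_erase.mp hs
          have := h8out s (Finset.ne_of_mem_erase hs'.2) hs'.1
          omega
      have hsum := sum_split P (Ne.symm ht1) (vec v)
      have h4' : (4 : ℤ) ∣ ∑ i ∈ tetUnion P {0}, (vec v i - 2) := Finset.dvd_sum fun i hi => by
        rw [hP0] at hi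
        have := mem_res.mp (Finset.mem_inter.mp hi).2
        omega
      rw [Finset.sum_sub_distrib, Finset.sum_const, hP.card, nsmul_eq_mul] at h4'
      rw [show ∑ i ∈ tetUnion P {0}, vec v i = tetSum P (vec v) 0 from rfl] at h4'
      have := hv.2.2
      omega

theorem count_of_inter (P : GolayPt → Fin 6) (D : Finset GolayPt) {Z : Fin 6}
    (J : Finset (Fin 6)) (hZ : (D ∩ tetUnion P {Z}).card = 0)
    (hrest : ∀ t, t ≠ 0 → t ≠ Z → (D ∩ tetUnion P {t}).card = 2) (hP : IsSextet P) (hZ0 : Z ≠ 0) :
    (D ∆ tetUnion P J).card = (if 0 ∈ J then 4 - (D ∩ tetUnion P {0}).card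
      else (D ∩ tetUnion P {0}).card) + (if Z ∈ J then 4 else 0) + 8 := by
  rw [← sum_by_fiber P (D ∆ tetUnion P J), ← Finset.add_sum_erase _ _ (Finset.mem_univ 0),
    ← Finset.add_sum_erase _ _ (Finset.mem_erase.mpr ⟨hZ0, Finset.mem_univ Z⟩), ← add_assoc]
  have e : ∀ t, ((D ∆ tetUnion P J) ∩ tetUnion P {t}).card =
      if t ∈ J then 4 - (D ∩ tetUnion P {t}).card else (D ∩ tetUnion P {t}).card := by
    intro t
    split_ifs with ht
    · have : (D ∆ tetUnion P J) ∩ tetUnion P {t} = tetUnion P {t} \ D := by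
        ext i; simp [Finset.mem_symmDiff, mem_tetUnion]
        constructor
        · rintro ⟨h | h, e⟩
          · exact absurd (e ▸ ht) h.2
          · exact ⟨e, h.2⟩
        · rintro ⟨e, h⟩; exact ⟨Or.inr ⟨e ▸ ht, h⟩, e⟩
      rw [this, Finset.card_sdiff, hP.card]
    · congr 1
      ext i; simp [Finset.mem_symmDiff, mem_tetUnion]
      intro e
      subst e
      simp [ht]
  rw [e, e, hZ, Finset.sum_congr rfl (fun t ht => show _ = 2 by
    have h1 := Finset.mem_erase.mp ht
    rw [e, hrest t (Finset.ne_of_mem_erase h1.2) h1.1]; split_ifs <;> rfl),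
    Finset.sum_const, Finset.card_erase_of_mem (Finset.mem_erase.mpr ⟨hZ0, Finset.mem_univ Z⟩),
    Finset.card_erase_of_mem (Finset.mem_univ _), Finset.card_univ, Fintype.card_fin]
  rfl

/-- The image of an even vector with even halved tetrad sums. -/
theorem res_image_even {P : GolayPt → Fin 6} (hP : IsSextet P) {w : leechLattice}
    (hw : EvenVec (vec w)) (hh : ∀ t, tetSum P (vec w) t % 4 = 0) :
    EvenVec (vec (sextetElt hP • w)) ∧ res 2 (vec (sextetElt hP • w)) =
      res 2 (vec w) ∆ tetUnion P (univ.filter fun t => tetSum P (vec w) t % 8 = 4) := by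
  have h1 : ∀ i, vec (sextetElt hP • w) i % 2 = 0 := fun i => by
    rw [sextetElt_smul]
    have := hh (P i); have := hw.1 i
    simp only [sextetMap, tetSign]; split_ifs <;> omega
  refine ⟨evenVec_of_parity (h1 none), ?_⟩
  ext i
  rw [sextetElt_smul]
  have := hh (P i); have := hw.1 i
  simp only [Finset.mem_symmDiff, mem_res, mem_tetUnion, Finset.mem_filter, Finset.mem_univ,
    true_and, sextetMap, tetSign]
  split_ifs <;> omega

theorem exists_zero_fiber (P : GolayPt → Fin 6) (D : Finset GolayPt)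
    (h : ∀ t, t ≠ 0 → (D ∩ tetUnion P {t}).card = 0 ∨ (D ∩ tetUnion P {t}).card = 2)
    (htot : D.card = (D ∩ tetUnion P {0}).card + 8) :
    ∃ Z, Z ≠ 0 ∧ (D ∩ tetUnion P {Z}).card = 0 ∧
      ∀ t, t ≠ 0 → t ≠ Z → (D ∩ tetUnion P {t}).card = 2 := by
  classical
  set E := (univ.erase (0 : Fin 6)).filter fun t => (D ∩ tetUnion P {t}).card = 0
  have htot' := sum_by_fiber P D
  rw [← Finset.add_sum_erase _ _ (Finset.mem_univ 0), Finset.sum_congr rfl (fun t ht =>
    show (D ∩ tetUnion P {t}).card = 2 - 2 * (if (D ∩ tetUnion P {t}).card = 0 then 1 else 0) by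
      rcases h t (Finset.ne_of_mem_erase ht) with e | e <;> rw [e] <;> rfl),
    Finset.sum_tsub_distrib _ (fun t _ => by split_ifs <;> norm_num), ← Finset.mul_sum,
    Finset.sum_boole, Finset.sum_const, Finset.card_erase_of_mem (Finset.mem_univ _),
    Finset.card_univ, Fintype.card_fin] at htot'
  have hE : E.card = 1 := by
    simp only [Nat.cast_id, smul_eq_mul] at htot'
    show ((univ.erase (0 : Fin 6)).filter fun t => (D ∩ tetUnion P {t}).card = 0).card = 1
    omega
  obtain ⟨Z, hZ⟩ := Finset.card_eq_one.mp hE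
  have hZmem : Z ∈ E := hZ ▸ Finset.mem_singleton_self Z
  obtain ⟨hZ1, hZ2⟩ := Finset.mem_filter.mp hZmem
  refine ⟨Z, Finset.ne_of_mem_erase hZ1, hZ2, fun t h0 hne => ?_⟩
  rcases h t h0 with e | e
  · exfalso
    have : t ∈ E := Finset.mem_filter.mpr ⟨Finset.mem_erase.mpr ⟨h0, Finset.mem_univ _⟩, e⟩
    rw [hZ, Finset.mem_singleton] at this
    exact hne this
  · exact e

/-- Weight 12 with one `±4`: move to weight 8. -/
theorem reduce_twelve {v : leechLattice} (hv : EvenVec (vec v))
    (h12 : (res 2 (vec v)).card = 12) (hbig : (big v).card = 1) :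
    ∃ g ∈ redGroup, EvenVec (vec (g • v)) ∧ (res 2 (vec (g • v))).card = 8 := by
  classical
  set D := res 2 (vec v) with hD
  obtain ⟨p, hp⟩ := Finset.card_eq_one.mp hbig
  have hpD : p ∉ D := (Finset.mem_filter.mp (hp ▸ Finset.mem_singleton_self p)).2.2
  obtain ⟨A, hAD, hA⟩ := Finset.exists_subset_card_eq (s := D) (n := 3) (by omega)
  have hpA : p ∉ A := fun h => hpD (hAD h)
  set O5 := Golay.Steiner.through octads (insert p A) with hO5
  have hO5c : O5.card = 5 := by
    have := Golay.Steiner.card_through Golay.octads_steiner (insert p A)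
      (by rw [Finset.card_insert_of_notMem hpA, hA]; norm_num)
    rw [Finset.card_insert_of_notMem hpA, hA, Golay.card_golayPt] at this
    norm_num at this
    rw [hO5]; omega
  set bad := O5.biUnion fun o => if (o ∩ D).card = 4 then (o ∩ D) \ A else ∅
  have hbad : bad.card ≤ 5 := by
    refine Finset.card_biUnion_le.trans ?_
    refine le_trans (Finset.sum_le_sum (g := fun _ => 1) fun o ho => ?_)
      (by rw [Finset.sum_const, hO5c]; rfl)
    split_ifs with h
    · have hsub : A ⊆ o ∩ D := Finset.subset_inter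
        ((Finset.subset_insert _ _).trans (by
          simpa [hO5, Golay.Steiner.through] using (Finset.mem_filter.mp ho).2)) hAD
      rw [Finset.card_sdiff_of_subset hsub, h, hA]
    · simp
  obtain ⟨w, hwDA, hwbad⟩ := Finset.exists_mem_notMem_of_card_lt_card (s := bad) (t := D \ A)
    (by rw [Finset.card_sdiff_of_subset hAD, hA, h12]; omega)
  obtain ⟨hwD, hwA⟩ := Finset.mem_sdiff.mp hwDA
  set T := insert w A with hT
  have hT4 : T.card = 4 := by rw [hT, Finset.card_insert_of_notMem hwA, hA]
  have hTD : T ⊆ D := Finset.insert_subset hwD hAD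
  obtain ⟨P, hP, hP0⟩ := exists_sextet hT4
  have h0 : (D ∩ tetUnion P {0}).card = 4 := by rw [hP0, Finset.inter_eq_right.mpr hTD, hT4]
  have h02 : ∀ t, t ≠ 0 → (D ∩ tetUnion P {t}).card = 0 ∨ (D ∩ tetUnion P {t}).card = 2 := by
    intro t ht
    have := hv.2.1.dodecad_inter h12 (pair_octad hP ht)
    rw [tetUnion_pair, Finset.union_inter_distrib_right, Finset.card_union_of_disjoint
      ((fiber_disjoint P (Ne.symm ht)).mono Finset.inter_subset_left Finset.inter_subset_left),
      Finset.inter_comm, ← hD, h0, Finset.inter_comm] at this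
    have := inter_parity hP hv.2.1 t 0
    rw [← hD, h0] at this
    omega
  obtain ⟨Z, hZ0, hZ, hrest⟩ := exists_zero_fiber P D h02 (by omega)
  have hpZ : P p ≠ Z := by
    intro e
    apply hwbad
    have hoct := pair_octad hP hZ0
    have hT0 : T ⊆ tetUnion P {0, Z} := by
      rw [tetUnion_pair, hP0]; exact Finset.subset_union_left
    have hoD : tetUnion P {0, Z} ∩ D = T := by
      rw [tetUnion_pair, Finset.union_inter_distrib_right, Finset.inter_comm (tetUnion P {Z}),
        Finset.card_eq_zero.mp hZ, Finset.union_empty, hP0, Finset.inter_eq_left.mpr hTD]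
    refine Finset.mem_biUnion.mpr ⟨tetUnion P {0, Z}, ?_, ?_⟩
    · simp only [hO5, Golay.Steiner.through, Finset.mem_filter, Golay.Steiner.mem_blocks]
      exact ⟨hoct, Finset.insert_subset (by simp [mem_tetUnion, e])
        ((Finset.subset_insert _ _).trans hT0)⟩
    · rw [hoD, if_pos hT4]
      simp [hT, hwA]
  -- sums
  have hzero : ∀ i, i ∉ D → i ≠ p → vec v i = 0 := fun i h1 h2 =>
    eq_zero_of_not_big h1 (by rw [hp, Finset.mem_singleton]; exact h2)
  have hmod : ∀ (w : leechLattice), EvenVec (vec w) → res 2 (vec w) = D →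
      ∀ t, tetSum P (vec w) t % 4 = 0 := by
    intro w hw hres t
    have h := tetSum_mod_four hP (x := vec w) (r := 0) (c := D) (fun i => by
      have h' : (i ∈ D) ↔ vec w i % 4 = 2 := by rw [← hres, mem_res]
      have := hw.1 i
      split_ifs with hi
      · have := h'.mp hi; omega
      · have hn' : ¬ vec w i % 4 = 2 := fun e => hi (h'.mpr e)
        omega) t
    rcases eq_or_ne t 0 with rfl | ht
    · rw [h0] at h; omega
    · rcases h02 t ht with e | e <;> rw [e] at h <;> omega
  suffices hfin : ∀ w : leechLattice, EvenVec (vec w) → res 2 (vec w) = D →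
      tetSum P (vec w) 0 % 8 = 4 → tetSum P (vec w) Z % 8 = 0 →
      EvenVec (vec (sextetElt hP • w)) ∧ (res 2 (vec (sextetElt hP • w))).card = 8 by
    have hZsum : ∀ (w : leechLattice), (∀ i, i ∉ D → i ≠ p → vec w i = 0) →
        tetSum P (vec w) Z = 0 := by
      intro w hw
      refine Finset.sum_eq_zero fun i hi => hw i (fun hiD => ?_) (fun e => ?_)
      · have : i ∈ D ∩ tetUnion P {Z} := Finset.mem_inter.mpr ⟨hiD, hi⟩
        rw [Finset.card_eq_zero.mp hZ] at this
        simp at this
      · simp [mem_tetUnion, e] at hi; exact hpZ hi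
    by_cases h4 : tetSum P (vec v) 0 % 8 = 4
    · exact ⟨sextetElt hP, sextetElt_mem_red hP, hfin v hv rfl h4 (by rw [hZsum v hzero]; rfl)⟩
    · obtain ⟨c, hc, hodd⟩ := exists_odd_code (hP.card 0)
      refine ⟨sextetElt hP * flip c hc, mul_mem (sextetElt_mem_red hP) (flip_mem_red hc), ?_⟩
      rw [mul_smul]
      obtain ⟨he, hr⟩ := res_two_flip hc hv
      refine hfin _ he (hr.trans rfl) ?_ ?_
      · have esum : tetSum P (vec (flip c hc • v)) 0 =
            tetSum P (vec v) 0 - 2 * ∑ i ∈ tetUnion P {0} ∩ c, vec v i := by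
          rw [tetSum, tetSum, ← sum_flip_on]
          exact Finset.sum_congr rfl fun i _ => flip_smul hc v i
        have h4' : (4 : ℤ) ∣ ∑ i ∈ tetUnion P {0} ∩ c, (vec v i - 2) :=
          Finset.dvd_sum fun i hi => by
            rw [hP0] at hi
            have := mem_res.mp (hTD (Finset.mem_inter.mp hi).1)
            omega
        rw [Finset.sum_sub_distrib, Finset.sum_const, nsmul_eq_mul, Finset.inter_comm] at h4'
        have := hmod v hv rfl 0
        rw [esum, Finset.inter_comm]
        omega
      · rw [hZsum _ (fun i h1 h2 => by rw [flip_smul, hzero i h1 h2]; simp)]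
        rfl
  intro w hw hres hs0 hsZ
  obtain ⟨he, hr⟩ := res_image_even hP hw (hmod w hw hres)
  refine ⟨he, ?_⟩
  rw [hr, hres, count_of_inter P D _ hZ hrest hP hZ0, h0, if_pos (by simp [hs0]),
    if_neg (by simp [hsZ])]

/-- Weight 8 with one `±4`: move to weight 12. -/
theorem reduce_eight_one {v : leechLattice} (hv : EvenVec (vec v)) (hn : sqNorm (vec v) ≤ 48)
    (h8 : (res 2 (vec v)).card = 8) (hbig : (big v).card = 1) :
    ∃ g ∈ redGroup, EvenVec (vec (g • v)) ∧ (res 2 (vec (g • v))).card = 12 := by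
  classical
  set O := res 2 (vec v) with hO
  have hoO : O ∈ octads := ⟨hv.2.1, h8⟩
  obtain ⟨p, hp⟩ := Finset.card_eq_one.mp hbig
  have hpbig : p ∈ big v := hp ▸ Finset.mem_singleton_self p
  have hpO : p ∉ O := (Finset.mem_filter.mp hpbig).2.2
  obtain ⟨B, hBsub, hB⟩ := Finset.exists_subset_card_eq (s := (univ \ O).erase p) (n := 2) (by
    rw [Finset.card_erase_of_mem (Finset.mem_sdiff.mpr ⟨Finset.mem_univ _, hpO⟩),
      Finset.card_sdiff_of_subset (Finset.subset_univ _), Finset.card_univ, card_pt, h8]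
    norm_num)
  have hpB : p ∉ B := fun h => Finset.ne_of_mem_erase (hBsub h) rfl
  have hBO : Disjoint B O := Finset.disjoint_left.mpr fun x hx =>
    (Finset.mem_sdiff.mp (Finset.mem_of_mem_erase (hBsub hx))).2
  set A := insert p B with hA
  have hA3 : A.card = 3 := by rw [hA, Finset.card_insert_of_notMem hpB, hB]
  have hAO : Disjoint A O := Finset.disjoint_insert_left.mpr ⟨hpO, hBO⟩
  set O21 := Golay.Steiner.through octads A with hO21
  have hmem21 : ∀ o ∈ O21, o ∈ octads ∧ A ⊆ o := fun o ho => by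
    simpa [hO21, Golay.Steiner.through] using ho
  have htot : ∑ o ∈ O21, (o ∩ O).card = 40 := by
    have e : ∀ o : Finset GolayPt, (o ∩ O).card = ∑ z ∈ O, if z ∈ o then 1 else 0 := fun o => by
      rw [← Finset.card_filter, Finset.filter_mem_eq_inter, Finset.inter_comm]
    rw [Finset.sum_congr rfl fun o _ => e o, Finset.sum_comm, Finset.sum_congr rfl fun z hz =>
      (show (∑ o ∈ O21, if z ∈ o then 1 else 0) = 5 by
        rw [← Finset.card_filter]
        have hzA : z ∉ A := fun h => Finset.disjoint_left.mp hAO h hz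
        have e2 : O21.filter (z ∈ ·) = Golay.Steiner.through octads (insert z A) := by
          ext o; simp [hO21, Golay.Steiner.through, Finset.insert_subset_iff]; tauto
        have := Golay.Steiner.card_through Golay.octads_steiner (insert z A)
          (by rw [Finset.card_insert_of_notMem hzA, hA3]; norm_num)
        rw [Finset.card_insert_of_notMem hzA, hA3, Golay.card_golayPt] at this
        norm_num at this
        rw [e2]; omega),
      Finset.sum_const, h8]
    rfl
  set four := O21.filter fun o => (o ∩ O).card = 4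
  have hfour : four.card ≤ 10 := by
    have h1 : ∑ _o ∈ four, 4 ≤ ∑ o ∈ O21, (o ∩ O).card := by
      refine le_trans (le_of_eq (Finset.sum_congr rfl fun o ho => ?_))
        (Finset.sum_le_sum_of_subset (Finset.filter_subset _ _))
      exact ((Finset.mem_filter.mp ho).2).symm
    rw [htot, Finset.sum_const, smul_eq_mul] at h1
    omega
  set bad := four.biUnion fun o => o \ (A ∪ O)
  have hbad : bad.card ≤ 10 := by
    refine Finset.card_biUnion_le.trans ?_
    refine le_trans (Finset.sum_le_sum (g := fun _ => 1) fun o ho => ?_)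
      (by rw [Finset.sum_const, smul_eq_mul, mul_one]; exact hfour)
    obtain ⟨ho, h4⟩ := Finset.mem_filter.mp ho
    rw [Finset.card_sdiff, Finset.union_inter_distrib_right, Finset.card_union_of_disjoint
      (hAO.mono Finset.inter_subset_left Finset.inter_subset_left),
      Finset.inter_eq_left.mpr (hmem21 o ho).2, Finset.inter_comm, h4, hA3, (hmem21 o ho).1.2]
  obtain ⟨w, hw, hwbad⟩ := Finset.exists_mem_notMem_of_card_lt_card (s := bad)
    (t := univ \ (A ∪ O)) (by
      rw [Finset.card_sdiff_of_subset (Finset.subset_univ _), Finset.card_univ, card_pt,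
        Finset.card_union_of_disjoint hAO, hA3, h8]
      omega)
  simp only [Finset.mem_sdiff, Finset.mem_univ, true_and, Finset.mem_union, not_or] at hw
  set T := insert w A with hT
  have hT4 : T.card = 4 := by rw [hT, Finset.card_insert_of_notMem hw.1, hA3]
  have hTO : Disjoint T O := Finset.disjoint_insert_left.mpr ⟨hw.2, hAO⟩
  obtain ⟨P, hP, hP0⟩ := exists_sextet hT4
  have h0 : (O ∩ tetUnion P {0}).card = 0 := by
    rw [hP0, Finset.inter_comm, Finset.disjoint_iff_inter_eq_empty.mp hTO, Finset.card_empty]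
  have h02 : ∀ t, t ≠ 0 → (O ∩ tetUnion P {t}).card = 0 ∨ (O ∩ tetUnion P {t}).card = 2 := by
    intro t ht
    have := inter_parity hP hv.2.1 t 0
    rw [← hO, h0] at this
    have hle : (O ∩ tetUnion P {t}).card ≤ 4 :=
      (Finset.card_le_card Finset.inter_subset_right).trans (hP.card t).le
    rcases (by omega : (O ∩ tetUnion P {t}).card = 0 ∨ (O ∩ tetUnion P {t}).card = 2 ∨
      (O ∩ tetUnion P {t}).card = 4) with e | e | e
    · exact Or.inl e
    · exact Or.inr e
    · exfalso
      apply hwbad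
      have hT0 : T ⊆ tetUnion P {0, t} := by
        rw [tetUnion_pair, hP0]; exact Finset.subset_union_left
      refine Finset.mem_biUnion.mpr ⟨tetUnion P {0, t}, Finset.mem_filter.mpr ⟨?_, ?_⟩, ?_⟩
      · simp only [hO21, Golay.Steiner.through, Finset.mem_filter, Golay.Steiner.mem_blocks]
        exact ⟨pair_octad hP ht, (Finset.subset_insert _ _).trans hT0⟩
      · rw [tetUnion_pair, Finset.union_inter_distrib_right, Finset.inter_comm (tetUnion P {0}),
          Finset.card_eq_zero.mp h0, Finset.empty_union, Finset.inter_comm, e]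
      · exact Finset.mem_sdiff.mpr ⟨hT0 (Finset.mem_insert_self _ _), by simp [hw]⟩
  obtain ⟨Z, hZ0, hZ, hrest⟩ := exists_zero_fiber P O h02 (by omega)
  have hzero : ∀ i, i ∉ O → i ≠ p → vec v i = 0 := fun i h1 h2 =>
    eq_zero_of_not_big h1 (by rw [hp, Finset.mem_singleton]; exact h2)
  have hP_p : P p = 0 := by
    have : p ∈ tetUnion P {0} := by rw [hP0, hT, hA]; simp
    simpa [mem_tetUnion] using this
  have hmod : ∀ t, tetSum P (vec v) t % 4 = 0 := by
    intro t
    have h := tetSum_mod_four hP (x := vec v) (r := 0) (c := O) (fun i => by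
      simp only [hO, mem_res]; have := hv.1 i; split_ifs <;> omega) t
    rcases eq_or_ne t 0 with rfl | ht
    · rw [h0] at h; omega
    · rcases h02 t ht with e | e <;> rw [e] at h <;> omega
  have hs0 : tetSum P (vec v) 0 % 8 = 4 := by
    rw [tetSum, hP0, Finset.sum_eq_single p
      (fun i hi hne => hzero i (Finset.disjoint_left.mp hTO hi) hne)
      (fun h => absurd (by rw [hT, hA]; simp) h)]
    obtain ⟨hl, hu⟩ := coord_le (i := p) (B := 6) hn (by norm_num) (by norm_num)
    have hne0 := (Finset.mem_filter.mp hpbig).2.1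
    rw [hO, mem_res] at hpO
    have := hv.1 p
    omega
  have hsZ : tetSum P (vec v) Z = 0 := by
    refine Finset.sum_eq_zero fun i hi => hzero i (fun hiO => ?_) (fun e => ?_)
    · have : i ∈ O ∩ tetUnion P {Z} := Finset.mem_inter.mpr ⟨hiO, hi⟩
      rw [Finset.card_eq_zero.mp hZ] at this
      simp at this
    · simp [mem_tetUnion, e, hP_p] at hi
      exact hZ0 hi.symm
  obtain ⟨he, hr⟩ := res_image_even hP hv hmod
  refine ⟨sextetElt hP, sextetElt_mem_red hP, he, ?_⟩
  rw [hr, ← hO, count_of_inter P O _ hZ hrest hP hZ0, h0, if_pos (by simp [hs0]),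
    if_neg (by simp [hsZ])]

/-- Four coordinates `±4`: move to one coordinate `±8`. -/
theorem reduce_four_fours {v : leechLattice} (h4 : ∀ i, vec v i % 4 = 0)
    (hn : sqNorm (vec v) = 64) (hb : ∀ i, vec v i = 0 ∨ vec v i = 4 ∨ vec v i = -4) :
    ∃ g ∈ redGroup, ∃ i, vec (g • v) i = 8 ∨ vec (g • v) i = -8 := by
  classical
  set T := univ.filter fun i => vec v i ≠ 0 with hT
  have hTsq : ∀ i ∈ T, vec v i ^ 2 = 16 := fun i hi => by
    rcases hb i with e | e | e
    · exact absurd e (Finset.mem_filter.mp hi).2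
    · rw [e]; norm_num
    · rw [e]; norm_num
  have hT4 : T.card = 4 := by
    have : sqNorm (vec v) = ∑ i ∈ T, vec v i ^ 2 := by
      rw [sqNorm]
      exact (Finset.sum_subset (Finset.subset_univ T) fun i _ hi => by
        have : vec v i = 0 := by simpa [hT] using hi
        rw [this]; rfl).symm
    rw [hn, Finset.sum_congr rfl hTsq, Finset.sum_const, nsmul_eq_mul] at this
    omega
  obtain ⟨P, hP, hP0⟩ := exists_sextet hT4
  suffices hfin : ∀ w : leechLattice, (∀ i ∈ T, vec w i = 4 ∨ vec w i = -4) →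
      tetSum P (vec w) 0 % 16 = 8 →
      ∃ i, vec (sextetElt hP • w) i = 8 ∨ vec (sextetElt hP • w) i = -8 by
    have hv4 : ∀ i ∈ T, vec v i = 4 ∨ vec v i = -4 := fun i hi =>
      (hb i).resolve_left (Finset.mem_filter.mp hi).2
    by_cases h8 : tetSum P (vec v) 0 % 16 = 8
    · exact ⟨sextetElt hP, sextetElt_mem_red hP, hfin v hv4 h8⟩
    · obtain ⟨c, hc, hodd⟩ := exists_odd_code (hP.card 0)
      refine ⟨sextetElt hP * flip c hc, mul_mem (sextetElt_mem_red hP) (flip_mem_red hc), ?_⟩
      rw [mul_smul]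
      refine hfin _ (fun i hi => by
        rw [flip_smul]; rcases hv4 i hi with e | e <;> split_ifs <;> omega) ?_
      have esum : tetSum P (vec (flip c hc • v)) 0 =
          tetSum P (vec v) 0 - 2 * ∑ i ∈ tetUnion P {0} ∩ c, vec v i := by
        rw [tetSum, tetSum, ← sum_flip_on]
        exact Finset.sum_congr rfl fun i _ => flip_smul hc v i
      have h8' : (8 : ℤ) ∣ ∑ i ∈ tetUnion P {0} ∩ c, (vec v i - 4) :=
        Finset.dvd_sum fun i hi => by
          rw [hP0] at hi
          have := hv4 i (Finset.mem_inter.mp hi).1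
          omega
      have h8'' : (8 : ℤ) ∣ ∑ i ∈ tetUnion P {0}, (vec v i - 4) :=
        Finset.dvd_sum fun i hi => by
          rw [hP0] at hi
          have := hv4 i hi
          omega
      rw [Finset.sum_sub_distrib, Finset.sum_const, nsmul_eq_mul, Finset.inter_comm] at h8'
      rw [Finset.sum_sub_distrib, Finset.sum_const, hP.card, nsmul_eq_mul] at h8''
      rw [esum, Finset.inter_comm]
      rw [tetSum] at h8 ⊢
      omega
  intro w hw hS
  have hbound : -16 ≤ tetSum P (vec w) 0 ∧ tetSum P (vec w) 0 ≤ 16 := by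
    constructor
    · have := Finset.card_nsmul_le_sum (tetUnion P {0}) (vec w) (-4) (fun i hi => by
        rw [hP0] at hi; rcases hw i hi with e | e <;> omega)
      rw [hP.card] at this
      simpa [tetSum] using this
    · have := Finset.sum_le_card_nsmul (tetUnion P {0}) (vec w) 4 (fun i hi => by
        rw [hP0] at hi; rcases hw i hi with e | e <;> omega)
      rw [hP.card] at this
      simpa [tetSum] using this
  obtain ⟨i, hi, hne⟩ : ∃ i ∈ T, vec w i ≠ tetSum P (vec w) 0 / 2 := by
    by_contra hno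
    push Not at hno
    have : tetSum P (vec w) 0 = 4 * (tetSum P (vec w) 0 / 2) := by
      conv_lhs => rw [tetSum, hP0, Finset.sum_congr rfl hno]
      rw [Finset.sum_const, hT4, nsmul_eq_mul]; rfl
    omega
  have hPi : P i = 0 := by
    rw [← hP0] at hi
    simpa [mem_tetUnion] using hi
  refine ⟨i, ?_⟩
  rw [sextetElt_smul]
  simp only [sextetMap, hPi, tetSign, if_true]
  rcases hw i hi with e | e <;> omega

end Cfsg.Agent.Lib.Leech
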