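import Cfsg.Agent.Lib.Leech.LeechLike
import Cfsg.Agent.Lib.Leech.Dichotomy

/-!
A lattice with the properties of `LeechLike` is the image of the Leech lattice under a signed
permutation of the coordinates.
-/

set_option autoImplicit false

namespace Cfsg.Agent.Lib.Leech

open Finset GolayUnique
open scoped symmDiff

theorem dotInt_signedPerm (σ : Equiv.Perm GolayPt) (c : Finset GolayPt) (x y : GolayPt → ℤ) :
    dotInt (signedPerm σ c x) (signedPerm σ c y) = dotInt x y := by
  simp only [dotInt]
  rw [← Equiv.sum_comp σ.symm (fun i => x i * y i)]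
  refine Finset.sum_congr rfl fun i _ => ?_
  simp only [signedPerm]
  split_ifs <;> ring

/-- Signed permutations as additive maps. -/
def signedHom (σ : Equiv.Perm GolayPt) (c : Finset GolayPt) : (GolayPt → ℤ) →+ (GolayPt → ℤ) :=
  AddMonoidHom.mk' (signedPerm σ c) (signedPerm_add σ c)

theorem LeechLike.pullback {M : AddSubgroup (GolayPt → ℤ)} (h : LeechLike M)
    (σ : Equiv.Perm GolayPt) (c : Finset GolayPt) : LeechLike (M.comap (signedHom σ c)) where
  norm16 x hx := by rw [← sqNorm_signedPerm σ c x]; exact h.norm16 _ hx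
  minimum x hx hne := by
    rw [← sqNorm_signedPerm σ c x]
    refine h.minimum _ hx fun e => hne ?_
    rw [← signedPerm_inverse σ c x, e]
    funext i
    simp [signedPerm]
  dot8 x hx y hy := by rw [← dotInt_signedPerm σ c x y]; exact h.dot8 _ hx _ hy
  eight i := by
    show signedPerm σ c (Pi.single i 8) ∈ M
    refine h.four_mem (fun k => ?_) ?_
    · simp only [signedPerm, Pi.single_apply]; split_ifs <;> rfl
    · rw [Finset.sum_eq_single (σ i)]
      · simp [signedPerm]; split_ifs <;> norm_num
      · intro k _ hk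
        have : σ.symm k ≠ i := by rw [ne_eq, Equiv.symm_apply_eq]; exact hk
        simp [signedPerm, this]
      · intro hh; exact absurd (Finset.mem_univ _) hh
  four i j := by
    show signedPerm σ c (Pi.single i 4 - Pi.single j 4) ∈ M
    refine h.four_mem (fun k => ?_) ?_
    · simp only [signedPerm, Pi.sub_apply, Pi.single_apply]; split_ifs <;> norm_num
    · have h8 : (8 : ℤ) ∣ ∑ k, (signedPerm σ c (Pi.single i 4 - Pi.single j 4) k -
          (Pi.single i 4 - Pi.single j 4 : GolayPt → ℤ) (σ.symm k)) := by
        refine Finset.dvd_sum fun k _ => ?_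
        simp only [signedPerm, Pi.sub_apply, Pi.single_apply]
        split_ifs <;> norm_num
      rw [Finset.sum_sub_distrib,
        Equiv.sum_comp σ.symm (Pi.single i 4 - Pi.single j 4 : GolayPt → ℤ)] at h8
      simp only [Pi.sub_apply, Finset.sum_sub_distrib, Finset.sum_pi_single', Finset.mem_univ,
        if_true, sub_self, sub_zero] at h8
      omega
  parity x hx a b := by
    have := h.parity _ hx (σ a) (σ b)
    simp only [signedHom, AddMonoidHom.mk'_apply, signedPerm, Equiv.symm_apply_apply] at this
    split_ifs at this <;> omega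
  count := by
    rw [← h.count]
    refine Set.ncard_congr (fun x _ => signedPerm σ c x)
      (fun x hx => ⟨hx.1, by rw [sqNorm_signedPerm]; exact hx.2⟩)
      (fun x y _ _ e => by rw [← signedPerm_inverse σ c x, e, signedPerm_inverse]) fun y hy => ?_
    refine ⟨signedPerm σ.symm (Finset.univ.filter fun i => σ i ∈ c) y, ⟨?_, ?_⟩,
      signedPerm_inverse' σ c y⟩
    · show signedPerm σ c _ ∈ M
      rw [signedPerm_inverse']
      exact hy.1
    · rw [sqNorm_signedPerm]; exact hy.2

theorem LeechLike.mem_code_pullback {M : AddSubgroup (GolayPt → ℤ)} (h : LeechLike M)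
    (σ : Equiv.Perm GolayPt) (s : Finset GolayPt) (c : Finset GolayPt) :
    c ∈ (h.pullback σ s).code ↔ c.map σ.toEmbedding ∈ h.code := by
  rw [LeechLike.mem_code, LeechLike.mem_code]
  constructor
  · rintro ⟨x, hx, hev, rfl⟩
    refine ⟨signedPerm σ s x, hx, fun i => ?_, ?_⟩
    · have := hev (σ.symm i); simp only [signedPerm]; split_ifs <;> omega
    · ext i
      have := hev (σ.symm i)
      simp only [mem_res, Finset.mem_map_equiv, signedPerm]
      split_ifs <;> omega
  · rintro ⟨y, hy, hev, he⟩
    refine ⟨signedPerm σ.symm (Finset.univ.filter fun i => σ i ∈ s) y, ?_, fun i => ?_, ?_⟩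
    · show signedPerm σ s _ ∈ M
      rw [signedPerm_inverse']
      exact hy
    · have := hev (σ i); simp only [signedPerm, Equiv.symm_symm]; split_ifs <;> omega
    · ext i
      have h1 := congrArg (σ i ∈ ·) he
      simp only [mem_res, Finset.mem_map_equiv, Equiv.symm_apply_apply, eq_iff_iff] at h1
      rw [← h1]
      have := hev (σ i)
      simp only [mem_res, signedPerm, Equiv.symm_symm]
      split_ifs <;> omega

/-- With the standard code, the twist of the halved vectors is a linear functional. -/
theorem LeechLike.exists_twist {M : AddSubgroup (GolayPt → ℤ)} (h : LeechLike M)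
    (hC : ∀ c, c ∈ h.code ↔ IsCode c) :
    ∃ s : Finset GolayPt, ∀ c, IsCode c → signedPerm 1 s (twoVec c) ∈ M := by
  classical
  let e : Finset GolayPt → ℤ := fun c => if twoVec c ∈ M then 0 else 1
  let ε : Finset GolayPt → ZMod 2 := fun c => ((e c : ℤ) : ZMod 2)
  let u : Finset GolayPt → GolayPt → ℤ := fun c => twoVec c - Pi.single none (4 * e c)
  have hu : ∀ c, IsCode c → u c ∈ M := by
    intro c hc
    obtain ⟨x, hx, hev, rfl⟩ := h.mem_code.mp ((hC c).mpr hc)
    by_cases hm : twoVec (res 2 x) ∈ M
    · simp [u, e, hm]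
    · have := (h.two_or hx hev none).resolve_left hm
      simpa [u, e, hm] using this
  have hadd : ∀ a b, IsCode a → IsCode b → ε (a ∆ b) = ε a + ε b := by
    intro a b ha hb
    have hm : u a + u b - u (a ∆ b) ∈ M := M.sub_mem (M.add_mem (hu a ha) (hu b hb)) (hu _ (ha.symmDiff hb))
    have hpt : ∀ i, (u a + u b - u (a ∆ b)) i = (if i ∈ a ∩ b then 4 else 0) -
        (if i = none then 4 * (e a + e b - e (a ∆ b)) else 0) := fun i => by
      simp only [u, Pi.add_apply, Pi.sub_apply, twoVec, Pi.single_apply, Finset.mem_inter,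
        Finset.mem_symmDiff]
      rcases eq_or_ne i none with rfl | h3
      · by_cases h1 : none ∈ a <;> by_cases h2 : none ∈ b <;> simp [h1, h2] <;> ring
      · by_cases h1 : i ∈ a <;> by_cases h2 : i ∈ b <;> simp [h1, h2, h3]
    have h4 := h.four_sum hm fun i => by rw [hpt]; split_ifs <;> omega
    rw [Finset.sum_congr rfl fun i _ => hpt i, Finset.sum_sub_distrib, Finset.sum_ite_mem,
      Finset.univ_inter, Finset.sum_const, Finset.sum_ite_eq', if_pos (Finset.mem_univ _),
      nsmul_eq_mul] at h4
    have hev := ha.even_inter hb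
    show ((e (a ∆ b) : ℤ) : ZMod 2) = (e a : ZMod 2) + (e b : ZMod 2)
    rw [← Int.cast_add, ZMod.intCast_eq_intCast_iff']
    push_cast
    omega
  have hmk : ∀ w : golayCode, IsCode (support₂ (w : GolayPt → ZMod 2)) := fun w => ⟨_, w.2, rfl⟩
  let f : golayCode →ₗ[ZMod 2] ZMod 2 :=
    (AddMonoidHom.mk' (fun w : golayCode => ε (support₂ (w : GolayPt → ZMod 2))) (fun v w => by
      rw [← hadd _ _ (hmk v) (hmk w)]
      congr 1
      apply_fun ind using (fun a b e => by rw [← support₂_ind a, e, support₂_ind])
      rw [ind_symmDiff, ind_support₂, ind_support₂, ind_support₂]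
      rfl)).toZModLinearMap 2
  obtain ⟨g, hg⟩ := LinearMap.exists_extend f
  refine ⟨univ.filter fun i => g (Pi.single i 1) = 1, fun c hc => ?_⟩
  set s := univ.filter fun i => g (Pi.single i 1) = 1 with hs
  have hval : ε c = ((c ∩ s).card : ZMod 2) := by
    have h1 := LinearMap.congr_fun hg ⟨ind c, isCode_iff.mp hc⟩
    have h2 : g (ind c) = ε c := by
      rw [show ε c = ε (support₂ (ind c)) by rw [support₂_ind]]
      exact h1
    rw [← h2]
    have h3 : ind c = ∑ i ∈ c, (Pi.single i 1 : GolayPt → ZMod 2) := by
      funext j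
      rw [Finset.sum_apply]
      simp [ind, Pi.single_apply]
    rw [h3, map_sum, Finset.sum_congr rfl fun i _ => show g (Pi.single i 1) =
      if i ∈ s then (1 : ZMod 2) else 0 by
        rcases zmod2_cases (g (Pi.single i 1)) with e | e <;> simp [hs, e],
      Finset.sum_ite_mem, Finset.sum_const, nsmul_eq_mul, mul_one]
  have hpt : ∀ i, (signedPerm 1 s (twoVec c) - u c) i =
      (if i = none then 4 * e c else 0) - (if i ∈ c ∩ s then 4 else 0) := fun i => by
    simp only [u, signedPerm, Pi.sub_apply, Pi.single_apply, twoVec, Finset.mem_inter,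
      show ((1 : Equiv.Perm GolayPt).symm i) = i from rfl]
    rcases eq_or_ne i none with rfl | h3
    · by_cases h1 : none ∈ c <;> by_cases h2 : none ∈ s <;> simp [h1, h2] <;> ring
    · by_cases h1 : i ∈ c <;> by_cases h2 : i ∈ s <;> simp [h1, h2, h3]
  have hm : signedPerm 1 s (twoVec c) - u c ∈ M := by
    refine h.four_mem (fun i => by rw [hpt]; split_ifs <;> omega) ?_
    rw [Finset.sum_congr rfl fun i _ => hpt i, Finset.sum_sub_distrib, Finset.sum_ite_eq',
      if_pos (Finset.mem_univ _), Finset.sum_ite_mem, Finset.univ_inter, Finset.sum_const,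
      nsmul_eq_mul]
    have hval' : ((e c : ℤ) : ZMod 2) = (((c ∩ s).card : ℤ) : ZMod 2) := by rw [Int.cast_natCast]; exact hval
    rw [ZMod.intCast_eq_intCast_iff'] at hval'
    push_cast at hval'
    omega
  have := M.add_mem hm (hu c hc)
  rwa [sub_add_cancel] at this

/-- With the standard code and no twist, the vectors form the Leech lattice. -/
theorem LeechLike.eq_leech {M : AddSubgroup (GolayPt → ℤ)} (h : LeechLike M)
    (hC : ∀ c, c ∈ h.code ↔ IsCode c) (h2 : ∀ c, IsCode c → twoVec c ∈ M) :
    M = leechLattice := by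
  have evenLe : ∀ x, EvenVec x → x ∈ M := by
    intro x hx
    have hd : x - twoVec (res 2 x) ∈ M := by
      refine h.four_mem (fun i => ?_) ?_
      · simp only [Pi.sub_apply, twoVec, mem_res]
        have := hx.1 i
        split_ifs <;> omega
      · have := hx.2.2
        have := hx.2.1.four_dvd
        simp only [Pi.sub_apply, Finset.sum_sub_distrib, twoVec, Finset.sum_ite_mem,
          Finset.univ_inter, Finset.sum_const, nsmul_eq_mul]
        omega
    have := M.add_mem hd (h2 _ hx.2.1)
    rwa [sub_add_cancel] at this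
  have leM : ∀ x ∈ M, EvenVec x ∨ OddVec x := by
    intro x hx
    by_cases hev : x none % 2 = 0
    · left
      have he : ∀ i, x i % 2 = 0 := fun i => by have := h.parity x hx none i; omega
      have hc : IsCode (res 2 x) := (hC _).mp (h.mem_code.mpr ⟨x, hx, he, rfl⟩)
      have hd := h.four_sum (M.sub_mem hx (h2 _ hc)) fun i => by
        simp only [Pi.sub_apply, twoVec, mem_res]
        have := he i
        split_ifs <;> omega
      refine ⟨he, hc, ?_⟩
      have := hc.four_dvd
      simp only [Pi.sub_apply, Finset.sum_sub_distrib, twoVec, Finset.sum_ite_mem,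
        Finset.univ_inter, Finset.sum_const, nsmul_eq_mul] at hd
      omega
    · right
      have ho : ∀ i, x i % 2 = 1 := fun i => by have := h.parity x hx none i; omega
      have h3 : IsCode (res 3 x) := by
        rw [isCode_iff]
        refine Golay.mem_of_orth fun v hv => ?_
        rw [show (∑ p, ind (res 3 x) p * v p) = dot2 (ind (res 3 x)) (ind (support₂ v)) by
          rw [ind_support₂]; rfl, dot2_ind, ZMod.natCast_eq_zero_iff_even, Finset.inter_comm,
          Nat.even_iff]
        have hc : IsCode (support₂ v) := ⟨v, hv, rfl⟩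
        have h8 := h.dot8 _ (h2 _ hc) x hx
        rw [dotInt, Finset.sum_congr rfl fun i _ => show twoVec (support₂ v) i * x i =
            if i ∈ support₂ v then 2 * x i else 0 by simp only [twoVec]; split_ifs <;> ring,
          Finset.sum_ite_mem, Finset.univ_inter, ← Finset.mul_sum] at h8
        have h4 : (4 : ℤ) ∣ ∑ i ∈ support₂ v, (x i - 1 - if i ∈ res 3 x then 2 else 0) := by
          refine Finset.dvd_sum fun i _ => ?_
          have := ho i
          simp only [mem_res]
          split_ifs <;> omega
        rw [Finset.sum_sub_distrib, Finset.sum_sub_distrib, Finset.sum_ite_mem, Finset.sum_const,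
          Finset.sum_const, nsmul_eq_mul, nsmul_eq_mul] at h4
        have := hc.four_dvd
        omega
      have h1 : res 1 x = (res 3 x)ᶜ := by
        ext i
        simp only [Finset.mem_compl, mem_res]
        have := ho i
        omega
      refine ⟨ho, h1 ▸ h3.compl, ?_⟩
      have h16 := h.norm16 x hx
      have hd : (16 : ℤ) ∣ ∑ i, (x i ^ 2 - 1 - 2 * x i + 2 * (if i ∈ res 3 x then -1 else 1)) := by
        refine Finset.dvd_sum fun i _ => ?_
        have := ho i
        have e : x i = 8 * (x i / 8) + x i % 8 := (Int.mul_ediv_add_emod (x i) 8).symm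
        simp only [mem_res]
        rcases (by omega : x i % 8 = 1 ∨ x i % 8 = 3 ∨ x i % 8 = 5 ∨ x i % 8 = 7) with r | r | r | r
        · rw [if_neg (by omega), e, r]; exact ⟨4 * (x i / 8) ^ 2, by ring⟩
        · rw [if_pos (by omega), e, r]; exact ⟨4 * (x i / 8) ^ 2 + 2 * (x i / 8), by ring⟩
        · rw [if_neg (by omega), e, r]; exact ⟨4 * (x i / 8) ^ 2 + 4 * (x i / 8) + 1, by ring⟩
        · rw [if_pos (by omega), e, r]; exact ⟨4 * (x i / 8) ^ 2 + 6 * (x i / 8) + 2, by ring⟩
      have hs : ∑ i : GolayPt, (if i ∈ res 3 x then (-1 : ℤ) else 1) =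
          24 - 2 * ((res 3 x).card : ℤ) := by
        rw [Finset.sum_congr rfl fun i _ => show (if i ∈ res 3 x then (-1 : ℤ) else 1) =
          1 - 2 * (if i ∈ res 3 x then 1 else 0) by split_ifs <;> rfl,
          Finset.sum_sub_distrib, ← Finset.mul_sum, Finset.sum_ite_mem, Finset.univ_inter,
          Finset.sum_const, Finset.sum_const, Finset.card_univ, card_pt, nsmul_eq_mul, nsmul_eq_mul,
          mul_one, mul_one]
        norm_num
      rw [Finset.sum_add_distrib, Finset.sum_sub_distrib, Finset.sum_sub_distrib, ← Finset.mul_sum,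
        ← Finset.mul_sum, hs, Finset.sum_const, Finset.card_univ, card_pt, nsmul_eq_mul] at hd
      rw [sqNorm] at h16
      have := h3.four_dvd
      norm_num [-Fintype.sum_option] at hd
      omega
  ext x
  refine ⟨fun hx => mem_leech_iff.mpr (leM x hx), fun hx => ?_⟩
  rcases mem_leech_iff.mp hx with he | ho
  · exact evenLe x he
  · obtain ⟨-, z, hz, hzo⟩ := h.count_bound
    have hzl : OddVec z := (leM z hz).resolve_left fun hc => by have := hc.1 none; omega
    rcases mem_leech_iff.mp (leechLattice.sub_mem hx (oddVec_mem hzl)) with e | e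
    · have := M.add_mem (evenLe _ e) hz
      rwa [sub_add_cancel] at this
    · exfalso
      have := e.1 none
      have := ho.1 none
      simp only [Pi.sub_apply] at *
      omega

/-- Such a lattice is a signed permutation image of the Leech lattice. -/
theorem LeechLike.exists_signedPerm {M : AddSubgroup (GolayPt → ℤ)} (h : LeechLike M) :
    ∃ σ : Equiv.Perm GolayPt, ∃ s : Finset GolayPt,
      ∀ x, signedPerm σ s x ∈ M ↔ x ∈ leechLattice := by
  obtain ⟨f, hf⟩ := code_unique golay_good h.code_good
  have h2 := h.pullback f ∅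
  have hC : ∀ c, c ∈ h2.code ↔ IsCode c := fun c => by
    rw [← mem_golaySets, hf c]
    exact h.mem_code_pullback f ∅ c
  obtain ⟨s, hs⟩ := h2.exists_twist hC
  have h3 := h2.pullback 1 s
  have hC3 : ∀ c, c ∈ h3.code ↔ IsCode c := fun c => by
    rw [h2.mem_code_pullback 1 s c, hC, show c.map (Equiv.toEmbedding (1 : Equiv.Perm GolayPt)) = c by
      ext i; rw [Finset.mem_map_equiv]; rfl]
  have e := h3.eq_leech hC3 hs
  refine ⟨f, s.map f.toEmbedding, fun x => ?_⟩
  rw [← e]
  show signedPerm f (s.map f.toEmbedding) x ∈ M ↔ signedPerm f ∅ (signedPerm 1 s x) ∈ M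
  rw [show signedPerm f ∅ (signedPerm 1 s x) = signedPerm f (s.map f.toEmbedding) x by
    funext i
    simp [signedPerm, show ∀ j, (1 : Equiv.Perm GolayPt).symm j = j from fun _ => rfl]]

end Cfsg.Agent.Lib.Leech
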